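import Cfsg.Agent.Lib.FischerUnit14.Vec

/-!
# The vectors are the isotropic points

The vector of every member is isotropic, determines the member up to a scalar, and every isotropic vector is a
multiple of one.

Owner: helper67.
-/

set_option autoImplicit false
set_option linter.unusedSectionVars false

namespace Cfsg.Agent.Lib.FischerUnit14

open Cfsg Cfsg.Agent.Lib.ThreeTranspositions Cfsg.Agent.Lib.Unitary
open scoped Classical

variable {G : Type*} [Group G] [Finite G] {F : Type*} [Field F] [Fintype F]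

namespace Ctx

variable {D : Set G} {d a : G} {τ M : G → G → F} {k : ℕ} {Φ : G → Fin k → F} (S : Ctx D d a τ M Φ)
include S

theorem Phi_ne_zero {p : G} (hp : p ∈ perp2 D d a) : Φ p ≠ 0 := by
  intro h
  obtain ⟨q, hq, hpq⟩ := S.polar.res_nondeg S.hd S.ha S.hda hp
  refine S.M_ne hp hq hpq ?_
  rw [← S.gram p hp q hq, h, herm_zero_left]

/-- A member is `d`, on a line through `d`, or outside `perp d`. -/
theorem mem_three {x : G} (hx : x ∈ D) :
    x = d ∨ (∃ p ∈ perp2 D d a, x ∈ X D d p) ∨ ¬ Commute x d := by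
  by_cases hxd : x = d
  · exact Or.inl hxd
  by_cases hc : Commute x d
  · exact Or.inr (Or.inl (S.polar.exists_res S.hd S.ha S.hda hx hc hxd))
  · exact Or.inr (Or.inr hc)

/-- Members outside `perp d` are determined by their two coordinates. -/
theorem eq_of_cv_wv {x y : G} (hx : x ∈ D) (hxd : ¬ Commute x d) (hy : y ∈ D) (hyd : ¬ Commute y d)
    (hc : cv D d a τ x = cv D d a τ y) (hw : wv D d a τ Φ x = wv D d a τ Φ y) : x = y := by
  have hP := S.polar
  revert x
  refine hP.orbit_induction S.hd S.ha S.hda (Q := fun y => ∀ {x : G}, x ∈ D → ¬ Commute x d →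
    cv D d a τ x = cv D d a τ y → wv D d a τ Φ x = wv D d a τ Φ y → x = y) ?_ ?_ ?_ hy hyd
  · intro x hx hxd hc hw
    rw [S.wv_self] at hw
    rcases S.eq_of_wv_zero hx hxd hw with h | h
    · exact h
    · rw [h, S.cv_of_a (Commute.refl a), S.cv_of_z S.z_mem S.z_not_commute.1 (Commute.refl _)] at hc
      exact absurd hc one_ne_zero
  · intro y hy hyd ih x hx hxd hc hw
    rw [S.cv_d hy hyd] at hc
    rw [S.wv_d hy hyd] at hw
    have h := ih (hP.cj_mem S.hd hx) (S.d_conj_not hxd)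
      (by rw [S.cv_d hx hxd, hc]; linear_combination four_two S.card)
      (by rw [S.wv_d hx hxd, hw])
    rw [← h, hP.cj_cj S.hd]
  · intro p hp t ht y hy hyd ih x hx hxd hc hw
    obtain ⟨hty, htyd, -⟩ := hP.res_conj S.hd S.ha S.hda hp hy hyd ht
    obtain ⟨htx, htxd, -⟩ := hP.res_conj S.hd S.ha S.hda hp hx hxd ht
    have hσ : sig D d τ x p = sig D d τ y p := by
      rw [← S.wv_spec hx hxd p hp, hw, S.wv_conj hp hy hyd ht, herm_add_right _ _ _ S.card', herm_smul_right,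
        S.iso_Phi hp, mul_zero, add_zero, S.wv_spec hy hyd p hp]
    rw [S.cv_conj hp hy hyd ht] at hc
    rw [S.wv_conj hp hy hyd ht] at hw
    have h := ih htx htxd
      (by rw [S.cv_conj hp hx hxd ht, hσ, hc, add_assoc, four_add_self S.card, add_zero])
      (by rw [S.wv_conj hp hx hxd ht, hσ, hw, add_assoc, ← add_smul, four_add_self S.card, zero_smul, add_zero])
    rw [← h, hP.cj_cj ht.1.1]

/-- Residue points with proportional vectors are equal. -/
theorem res_eq_of_Phi {p q : G} {c : F} (hp : p ∈ perp2 D d a) (hq : q ∈ perp2 D d a)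
    (h : Φ q = c • Φ p) : p = q := by
  have hP := S.polar
  obtain ⟨hpD, hpd, -, hdp, -⟩ := hP.res_facts S.ha S.hda hp
  obtain ⟨hqD, -, -, hdq, -⟩ := hP.res_facts S.ha S.hda hq
  refine hP.subset_eq p hpD q hqD fun x hx hxp => ?_
  rcases S.mem_three hx with rfl | ⟨r, hr, hxr⟩ | hxd
  · exact hdq
  · obtain ⟨hrD, hrd, -, hdr, -⟩ := hP.res_facts S.ha S.hda hr
    have hrp : Commute r p := by
      by_contra hrp
      exact hP.X_not_commute S.hd hrD hpD hrd hpd hdr hdp hrp hxr (S.self_X hp) hxp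
    have h0 : M q r = 0 := by
      rw [← S.gram q hq r hr, h, herm_smul_left, S.gram p hp r hr, (S.coord.M_eq_zero p hp r hr).2 hrp.symm,
        mul_zero]
    exact line_perp hxr.1 hqD hdq.symm ((S.coord.M_eq_zero q hq r hr).1 h0)
  · rw [← S.sig_eq_zero hq hx hxd, ← S.wv_spec hx hxd q hq, h, herm_smul_left, S.wv_spec hx hxd p hp,
      (S.sig_eq_zero hp hx hxd).2 hxp, mul_zero]

/-- Every vector is the vector of a member outside `perp d`. -/
theorem exists_wv (w : Fin k → F) : ∃ y ∈ D, ¬ Commute y d ∧ wv D d a τ Φ y = w := by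
  suffices h : ∀ w : Fin k → F, ∀ y ∈ D, ¬ Commute y d →
      ∃ y' ∈ D, ¬ Commute y' d ∧ wv D d a τ Φ y' = wv D d a τ Φ y + w by
    obtain ⟨y, hy, hyd, e⟩ := h w a S.ha S.had
    exact ⟨y, hy, hyd, by rw [e, S.wv_self, zero_add]⟩
  intro w
  have hx : w ∈ Submodule.span F (Φ '' perp2 D d a) := by rw [S.span]; trivial
  suffices h : ∀ c : F, ∀ y ∈ D, ¬ Commute y d →
      ∃ y' ∈ D, ¬ Commute y' d ∧ wv D d a τ Φ y' = wv D d a τ Φ y + c • w by
    intro y hy hyd
    simpa only [one_smul] using h 1 y hy hyd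
  induction hx using Submodule.span_induction with
  | mem v hv =>
    obtain ⟨p, hp, rfl⟩ := hv
    intro c y hy hyd
    obtain ⟨t, ht, hT⟩ := S.tau_surj hp (c ^ 2 + sig D d τ y p)
    obtain ⟨hty, htyd, -⟩ := S.polar.res_conj S.hd S.ha S.hda hp hy hyd ht
    refine ⟨t * y * t, hty, htyd, ?_⟩
    rw [S.wv_conj hp hy hyd ht, hT, add_assoc (c ^ 2), four_add_self S.card, add_zero,
      show (c ^ 2) ^ 2 = c from (pow_mul c 2 2).symm.trans (four_pow S.card c)]
  | zero => intro c y hy hyd; exact ⟨y, hy, hyd, by rw [smul_zero, add_zero]⟩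
  | add u v _ _ hu hv =>
    intro c y hy hyd
    obtain ⟨y₁, h1, h1d, e1⟩ := hu c y hy hyd
    obtain ⟨y₂, h2, h2d, e2⟩ := hv c y₁ h1 h1d
    exact ⟨y₂, h2, h2d, by rw [e2, e1, smul_add, add_assoc]⟩
  | smul b v _ hv =>
    intro c y hy hyd
    rw [smul_smul]
    exact hv (c * b) y hy hyd

variable (ω : F) (hω : ω ^ 2 + ω + 1 = 0)
include hω

omit S in
theorem hv_ne_zero (hF : Fintype.card F = 4) {α β : F} {w : Fin k → F} (h : ¬ (α = 0 ∧ β = 0 ∧ w = 0)) :
    hv ω α β w ≠ 0 := by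
  intro e
  refine h (hv_inj hF hω (e.trans ?_))
  have := hv_smul (ω := ω) (0 : F) 0 0 (0 : Fin k → F)
  rwa [mul_zero, zero_smul, zero_smul, eq_comm] at this

theorem phi_iso {x : G} (hx : x ∈ D) : IsoVec 2 (phi D d a τ Φ ω x) := by
  have hiso : ∀ α β w, ¬ (α = (0 : F) ∧ β = 0 ∧ w = (0 : Fin k → F)) →
      α * β ^ 2 + β * α ^ 2 + hermForm k F 2 w w = 0 → IsoVec 2 (hv ω α β w) := fun α β w h h0 =>
    ⟨hv_ne_zero ω hω S.card h, by rw [herm_hv S.card hω]; exact h0⟩
  rcases S.mem_three hx with rfl | ⟨p, hp, hxp⟩ | hxd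
  · rw [S.phi_d]
    exact hiso _ _ _ (fun h => one_ne_zero h.1) (by rw [herm_zero_left]; ring)
  · rw [S.phi_X ω hp hxp]
    exact hiso _ _ _ (fun h => S.Phi_ne_zero hp h.2.2) (by rw [S.iso_Phi hp]; ring)
  · rw [S.phi_A ω hxd]
    exact hiso _ _ _ (fun h => one_ne_zero h.2.1) (by linear_combination S.cv_quad hx hxd)

theorem phi_inj {x y : G} (hx : x ∈ D) (hy : y ∈ D) {c : F} (hc : c ≠ 0)
    (h : phi D d a τ Φ ω y = c • phi D d a τ Φ ω x) : x = y := by
  have key : ∀ {α β α' β' : F} {w w' : Fin k → F}, hv ω α' β' w' = c • hv ω α β w →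
      α' = c * α ∧ β' = c * β ∧ w' = c • w := fun {α β α' β' w w'} e => by
    rw [← hv_smul] at e
    exact hv_inj S.card hω e
  rcases S.mem_three hx with rfl | ⟨p, hp, hxp⟩ | hxd <;>
    rcases S.mem_three hy with rfl | ⟨q, hq, hyq⟩ | hyd
  · rfl
  · rw [S.phi_d, S.phi_X ω hq hyq] at h
    exact absurd ((key h).2.2.trans (smul_zero c)) (S.Phi_ne_zero hq)
  · rw [S.phi_d, S.phi_A ω hyd] at h
    exact absurd ((key h).2.1.trans (mul_zero c)) one_ne_zero
  · rw [S.phi_d, S.phi_X ω hp hxp] at h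
    exact absurd ((smul_eq_zero.1 (key h).2.2.symm).resolve_left hc) (S.Phi_ne_zero hp)
  · rw [S.phi_X ω hp hxp, S.phi_X ω hq hyq] at h
    obtain ⟨hτ, -, hΦ⟩ := key h
    obtain rfl := S.res_eq_of_Phi hp hq hΦ
    have hc1 : c = 1 := by
      have h0 : (c - 1) • Φ p = 0 := by rw [sub_smul, one_smul, ← hΦ, sub_self]
      exact sub_eq_zero.1 ((smul_eq_zero.1 h0).resolve_right (S.Phi_ne_zero hp))
    rw [hc1, one_mul] at hτ
    exact (S.tau_inj hq hyq hxp hτ).symm
  · rw [S.phi_X ω hp hxp, S.phi_A ω hyd] at h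
    exact absurd ((key h).2.1.trans (mul_zero c)) one_ne_zero
  · rw [S.phi_d, S.phi_A ω hxd] at h
    exact absurd ((key h).2.1.symm.trans rfl) (mul_ne_zero hc one_ne_zero)
  · rw [S.phi_X ω hq hyq, S.phi_A ω hxd] at h
    exact absurd ((key h).2.1.symm.trans rfl) (mul_ne_zero hc one_ne_zero)
  · rw [S.phi_A ω hxd, S.phi_A ω hyd] at h
    obtain ⟨hcv, h1, hwv⟩ := key h
    rw [mul_one] at h1
    rw [← h1, one_mul] at hcv
    rw [← h1, one_smul] at hwv
    exact S.eq_of_cv_wv hx hxd hy hyd hcv.symm hwv.symm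

theorem phi_surj {v : Fin (k + 2) → F} (hv' : IsoVec 2 v) :
    ∃ x ∈ D, ∃ c : F, c ≠ 0 ∧ v = c • phi D d a τ Φ ω x := by
  have hP := S.polar
  obtain ⟨α, β, w, rfl⟩ := exists_hv S.card hω v
  have hq := hv'.2
  rw [herm_hv S.card hω] at hq
  by_cases hβ : β = 0
  · subst hβ
    by_cases hw : w = 0
    · subst hw
      have hα : α ≠ 0 := fun e => hv'.1 (by
        have := hv_smul (ω := ω) (0 : F) 0 0 (0 : Fin k → F)
        rw [mul_zero, zero_smul, zero_smul] at this
        rw [e]; exact this)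
      exact ⟨d, S.hd, α, hα, by rw [S.phi_d, ← hv_smul, mul_one, mul_zero, smul_zero]⟩
    have hw0 : hermForm k F 2 w w = 0 := by linear_combination hq
    obtain ⟨y, hy, hyd, hyw⟩ := S.exists_wv w
    obtain ⟨y', hy', hy'd, hy'w, hy'a⟩ : ∃ y' ∈ D, ¬ Commute y' d ∧ wv D d a τ Φ y' = w ∧ Commute y' a := by
      rcases (S.wv_near hy hyd).2 (by rw [hyw]; exact hw0) with h | h
      · exact ⟨y, hy, hyd, hyw, h⟩
      · refine ⟨d * y * d, hP.cj_mem S.hd hy, S.d_conj_not hyd, by rw [S.wv_d hy hyd, hyw], ?_⟩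
        have h' := hP.commute_cj S.hd h
        rwa [hP.cj_cj S.hd] at h'
    have hne : y' ≠ a := fun e => hw (by rw [← hy'w, e, S.wv_self])
    obtain ⟨u, hu, hdu⟩ := hP.proj a S.ha y' hy' hne.symm hy'a.symm d S.hd
    have hua : u ≠ a := fun e => S.hda (e ▸ hdu)
    have huR : u ∈ perp2 D d a := ⟨hu.1, hdu.symm, line_commute_left S.ha hy'a.symm hu⟩
    have hyl : y' ∈ lineC D a u := by
      rw [hP.line_eq_left S.ha hy' hne.symm hy'a.symm hu hua]
      exact right_mem_line a hy'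
    obtain ⟨b, hb, hL⟩ := hP.L1_surj S.hd S.ha S.hda huR hyl fun e => hy'd (e ▸ hdu.symm)
    have hbu : b ≠ u := fun e => hne (by rw [← hL, L1, if_pos e])
    obtain ⟨hba, hbad, -⟩ := hP.res_conj S.hd S.ha S.hda huR S.ha S.had hb
    have hwT : w = τ u b ^ 2 • Φ u := by
      rw [← hy'w, ← hL, L1, if_neg hbu, show d * b * a * b * d = d * (b * a * b) * d by group,
        S.wv_d hba hbad, S.wv_conj huR S.ha S.had hb, S.wv_self,
        (S.sig_eq_zero huR S.ha S.had).2 huR.2.2.symm, add_zero, zero_add]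
    have hT : τ u b ≠ 0 := fun e => hbu ((S.tau_eq_zero huR hb).1 e)
    obtain ⟨x, hx, hxT⟩ := S.tau_surj huR (τ u b * α)
    refine ⟨x, hx.1.1, τ u b ^ 2, pow_ne_zero 2 hT, ?_⟩
    rw [S.phi_X ω huR hx, hxT, ← hv_smul, ← hwT, mul_zero,
      show τ u b ^ 2 * (τ u b * α) = α by linear_combination α * four_cube S.card hT]
  · obtain ⟨y, hy, hyd, hyw⟩ := S.exists_wv (β⁻¹ • w)
    obtain ⟨b, hb⟩ : ∃ b, b = β⁻¹ := ⟨_, rfl⟩
    rw [← hb] at hyw
    have hbβ : b * β = 1 := by rw [hb]; exact inv_mul_cancel₀ hβ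
    have hb2 : b ^ 2 = β := by
      have := four_cube S.card (inv_ne_zero hβ)
      rw [← hb] at this
      linear_combination β * this - b ^ 2 * hbβ
    have hquad := S.cv_quad hy hyd
    rw [hyw, herm_smul_left, herm_smul_right] at hquad
    set C := cv D d a τ y
    have hbe : β ^ 2 = b := by
      linear_combination b * four_cube S.card hβ - β ^ 2 * hbβ
    have hb3 := four_cube S.card (left_ne_zero_of_mul_eq_one hbβ)
    have hα : (b * α + C) * (b * α + C + 1) = 0 := by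
      linear_combination hquad + hq - hermForm k F 2 w w * four_two S.card + α ^ 2 * hb2 - α * hbe +
        (b * α * C) * four_two S.card - hermForm k F 2 w w * hb3
    obtain ⟨y', hy', hy'd, hy'w, hy'c⟩ : ∃ y' ∈ D, ¬ Commute y' d ∧ wv D d a τ Φ y' = b • w ∧
        cv D d a τ y' = b * α := by
      rcases mul_eq_zero.1 hα with h | h
      · exact ⟨y, hy, hyd, hyw, (four_eq_of_add S.card h).symm⟩
      · exact ⟨d * y * d, hP.cj_mem S.hd hy, S.d_conj_not hyd, by rw [S.wv_d hy hyd, hyw],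
          by rw [S.cv_d hy hyd]; exact (four_eq_of_add S.card (by linear_combination h)).symm⟩
    refine ⟨y', hy', β, hβ, ?_⟩
    rw [S.phi_A ω hy'd, hy'c, hy'w, ← hv_smul, smul_smul, ← mul_assoc,
      show β * b = 1 by rw [mul_comm]; exact hbβ, one_mul, mul_one, one_smul]

end Ctx

end Cfsg.Agent.Lib.FischerUnit14
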