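import Cfsg.Agent.Lib.FischerUnit14.Vec

/-!
# Conjugation by `a` and by the neighbours of `d` is the transvection
-/

set_option autoImplicit false
set_option linter.unusedSectionVars false

namespace Cfsg.Agent.Lib.FischerUnit14

open Cfsg Cfsg.Agent.Lib.ThreeTranspositions Cfsg.Agent.Lib.Unitary
open scoped Classical

variable {G : Type*} [Group G] [Finite G] {F : Type*} [Field F] [Fintype F]

theorem tv_hv (hF : Fintype.card F = 4) {ω : F} (hω : ω ^ 2 + ω + 1 = 0) {k : ℕ} (α β α' β' : F)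
    (w w' : Fin k → F) :
    tv (hv ω α' β' w') (hv ω α β w) =
      hv ω (α + (α * β' ^ 2 + β * α' ^ 2 + hermForm k F 2 w w') * α')
        (β + (α * β' ^ 2 + β * α' ^ 2 + hermForm k F 2 w w') * β')
        (w + (α * β' ^ 2 + β * α' ^ 2 + hermForm k F 2 w w') • w') := by
  rw [tv, herm_hv hF hω, hv_add, hv_smul]

/-- A common way to see `c • hv`. -/
theorem hv_eq_smul {k : ℕ} {ω c α β α' β' : F} {w w' : Fin k → F} (h1 : α' = c * α) (h2 : β' = c * β)
    (h3 : w' = c • w) : hv ω α' β' w' = c • hv ω α β w := by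
  rw [h1, h2, h3, hv_smul]

namespace Ctx

variable {D : Set G} {d a : G} {τ M : G → G → F} {k : ℕ} {Φ : G → Fin k → F} (S : Ctx D d a τ M Φ)
include S

variable {ω : F} (hω : ω ^ 2 + ω + 1 = 0)
include hω

theorem equiv_d {x : G} (hx : x ∈ D) :
    ∃ c : F, c ≠ 0 ∧ phi D d a τ Φ ω (d * x * d) = c • tv (phi D d a τ Φ ω d) (phi D d a τ Φ ω x) := by
  have hP := S.polar
  refine ⟨1, one_ne_zero, ?_⟩
  rw [one_smul, S.phi_d ω]
  by_cases hxd : Commute x d
  · rw [hP.cj_of_commute S.hd hxd.symm]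
    by_cases hne : x = d
    · rw [hne, S.phi_d ω, tv_hv S.card hω]
      simp [herm_zero_left]
    · obtain ⟨p, hp, hxp⟩ := hP.exists_res S.hd S.ha S.hda hx hxd hne
      rw [S.phi_X ω hp hxp, tv_hv S.card hω]
      simp [herm_zero_right _ S.card']
  · rw [S.phi_A ω hxd, S.phi_A ω (S.d_conj_not hxd), S.cv_d hx hxd, S.wv_d hx hxd, tv_hv S.card hω]
    simp [herm_zero_right _ S.card']

theorem equiv_X {p t x : G} (hp : p ∈ perp2 D d a) (ht : t ∈ X D d p) (hx : x ∈ D) :
    ∃ c : F, c ≠ 0 ∧ phi D d a τ Φ ω (t * x * t) = c • tv (phi D d a τ Φ ω t) (phi D d a τ Φ ω x) := by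
  have hP := S.polar
  have htd := line_commute_left S.hd hp.2.1.symm ht.1
  rw [S.phi_X ω hp ht]
  by_cases hxd : Commute x d
  · by_cases hne : x = d
    · refine ⟨1, one_ne_zero, ?_⟩
      rw [one_smul, hne, hP.cj_of_commute ht.1.1 htd, S.phi_d ω, tv_hv S.card hω]
      simp [herm_zero_left]
    obtain ⟨q, hq, hxq⟩ := hP.exists_res S.hd S.ha S.hda hx hxd hne
    by_cases hpq : Commute p q
    · refine ⟨1, one_ne_zero, ?_⟩
      rw [one_smul, hP.cj_of_commute ht.1.1 (hP.X_perp S.hd hp.1 hq.1 hp.2.1.symm hq.2.1.symm hpq ht hxq),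
        S.phi_X ω hq hxq, tv_hv S.card hω, S.gram q hq p hp, (S.coord.M_eq_zero q hq p hp).2 hpq.symm]
      simp
    · have hr := hP.res_third hp hq
      have hwq : ¬ Commute (p * q * p) q := fun h =>
        third_not_commute_right hP.closed hp.1 hq.1 hpq h.symm
      refine ⟨M (p * q * p) q, S.M_ne hr hq hwq, ?_⟩
      rw [S.phi_X ω hr (S.cj_X hp hq hpq ht hxq), S.phi_X ω hq hxq, tv_hv S.card hω, S.gram q hq p hp]
      have hwp : M (p * q * p) p = M (p * q * p) q * M q p := by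
        rw [S.row p hp q hq hpq p hp, S.M_self hp]
        ring
      refine hv_eq_smul ?_ ?_ ?_
      · rw [S.third p hp q hq hpq t ht x hxq, hwp]
        ring
      · ring
      · refine S.herm_ext fun r hr' => ?_
        rw [S.gram r hr' _ hr, herm_smul_right, herm_add_right _ _ _ S.card', herm_smul_right,
          S.gram r hr' q hq, S.gram r hr' p hp, S.coord.M_conj _ hr r hr', S.row p hp q hq hpq r hr', hwp,
          S.coord.M_conj p hp r hr', S.coord.M_conj q hq r hr']
        linear_combination M (p * q * p) q ^ 2 * M q p * M p r * M q r * four_two S.card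
  · refine ⟨1, one_ne_zero, ?_⟩
    obtain ⟨-, htyd, -⟩ := hP.res_conj S.hd S.ha S.hda hp hx hxd ht
    rw [one_smul, S.phi_A ω hxd, S.phi_A ω htyd, S.cv_conj hp hx hxd ht, S.wv_conj hp hx hxd ht,
      tv_hv S.card hω, ← herm_conj (Φ p) (wv D d a τ Φ x) S.card', S.wv_spec hx hxd p hp]
    rw [show cv D d a τ x * 0 ^ 2 + 1 * τ p t ^ 2 + sig D d τ x p ^ 2 = (τ p t + sig D d τ x p) ^ 2 by
      rw [four_sq_add S.card]; ring]
    simp

/-- The image of a point of `X D d p` under `a`. -/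
theorem phi_cj_a {p t : G} (hp : p ∈ perp2 D d a) (ht : t ∈ X D d p) (htp : t ≠ p) :
    phi D d a τ Φ ω (a * t * a) = hv ω 1 1 (τ p t ^ 2 • Φ p) := by
  have hP := S.polar
  obtain ⟨-, htad, -⟩ := hP.res_conj S.hd S.ha S.hda hp S.ha S.had ht
  rw [hP.braid S.ha ht.1.1 (hP.not_commute_X S.hd S.ha S.hda hp ht htp), S.phi_A ω htad,
    S.cv_conj hp S.ha S.had ht, S.wv_conj hp S.ha S.had ht, S.wv_self,
    (S.sig_eq_zero hp S.ha S.had).2 hp.2.2.symm, S.cv_of_a (Commute.refl a), add_zero, zero_add, zero_add]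
  congr 1
  linear_combination four_cube S.card fun e => htp ((S.tau_eq_zero hp ht).1 e)

/-- Outside `Near` the map by `a` scales the vector by the ratio. -/
theorem cv_cj_a {y : G} (hy : y ∈ D) (hyd : ¬ Commute y d) (hn : ¬ Near d a y) :
    ¬ Commute (a * y * a) d ∧ wv D d a τ Φ (a * y * a) = cv D d a τ y • wv D d a τ Φ y ∧
      cv D d a τ (a * y * a) = cv D d a τ y ^ 2 := by
  have hP := S.polar
  have hy' : a * y * a ∈ D := hP.cj_mem S.ha hy
  have hyd' : ¬ Commute (a * y * a) d := fun h => hn (Or.inr (by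
    have h' := hP.commute_cj S.ha h
    rw [hP.cj_cj S.ha, hP.braid S.ha S.hd S.had] at h'
    exact h'))
  have hk0 : ∀ {p}, p ∈ perp2 D d a → ¬ Commute y p → cv D d a τ y ^ 2 + cv D d a τ y + 1 = 0 := by
    intro p hp hyp
    rw [S.cv_eq hy hyd hp hyp]
    rcases four_cases S.card (one D d a τ y p * sig D d τ y p ^ 2) with e | e | e
    · exact absurd ((S.near_iff_ratio hp hy hyd hyp).2 (by rw [e]; ring)) hn
    · exact absurd ((S.near_iff_ratio hp hy hyd hyp).2 (by rw [e]; linear_combination four_two S.card)) hn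
    · exact e
  obtain ⟨p₀, hp₀, hyp₀⟩ := S.exists_support hy hyd (S.wv_ne_zero hy hyd hn)
  have hk := hk0 hp₀ hyp₀
  have key : ∀ {p}, p ∈ perp2 D d a → ¬ Commute y p →
      sig D d τ (a * y * a) p = cv D d a τ y ^ 2 * sig D d τ y p ∧ ¬ Commute (a * y * a) p ∧
      one D d a τ (a * y * a) p = one D d a τ y p := by
    intro p hp hyp
    have hyp' : ¬ Commute (a * y * a) p := fun h => hyp ((hP.commute_cj_right S.ha hp.2.2.symm).1 h)
    obtain ⟨b, hb, hyb, hb1⟩ := S.exists_one hp hy hyp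
    obtain ⟨he, hye⟩ := S.prj_facts hp hy hyd
    have hep : prj D d y p ≠ p := fun e => hyp ((hP.prj_eq_self_iff S.hd S.ha S.hda hp hy hyd).1 e)
    have h2 := hP.L2_of_L1 S.hd S.ha S.hda hp hy hyd hyp hb hyb
    have hc := hP.plus_mem S.hd S.ha S.hda hp he hep hb
    set c := plus d a p (prj D d y p) b
    have hcp : c ≠ p := fun e => hn (Or.inr (by rwa [L2, if_pos e] at h2))
    rw [L2, if_neg hcp] at h2
    have h3 : Commute (a * y * a) c := by
      have h' := hP.commute_cj S.ha h2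
      rwa [← hP.braid S.ha hc.1.1 (hP.not_commute_X S.hd S.ha S.hda hp hc hcp), hP.cj_cj S.ha] at h'
    have hfix : Commute a (L1 d a p b) :=
      (line_commute_left S.ha hp.2.2.symm (hP.L1_mem S.hd S.ha S.hda hp hb).1).symm
    refine ⟨?_, hyp', ?_⟩
    · rw [S.sig_eq hp hy' hyd' hc h3, S.tau_plus hp he hep hb, hb1]
      have h4 := hk0 hp hyp
      rw [S.cv_eq hy hyd hp hyp] at h4 ⊢
      simp only [sig] at h4 ⊢
      have h3 := four_cube S.card (x := τ p (prj D d y p)) fun e => hyp ((S.sig_eq_zero hp hy hyd).1 e)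
      linear_combination -τ p (prj D d y p) * h4 + one D d a τ y p * h3 +
        (τ p (prj D d y p) + one D d a τ y p) * four_two S.card
    · rw [S.one_eq hp hy' hyp' hb ((hP.commute_cj_right S.ha hfix).2 hyb), hb1]
  refine ⟨hyd', S.wv_eq hy' hyd' fun p hp => ?_, ?_⟩
  · rw [herm_smul_right, S.wv_spec hy hyd p hp]
    by_cases hyp : Commute y p
    · rw [(S.sig_eq_zero hp hy hyd).2 hyp,
        (S.sig_eq_zero hp hy' hyd').2 ((hP.commute_cj_right S.ha hp.2.2.symm).2 hyp), mul_zero]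
    · rw [(key hp hyp).1]
  · obtain ⟨h1, h2, h3⟩ := key hp₀ hyp₀
    rw [S.cv_eq hy' hyd' hp₀ h2, h1, h3]
    have hc := S.cv_eq hy hyd hp₀ hyp₀
    linear_combination -(cv D d a τ y ^ 4) * hc + cv D d a τ y * four_pow S.card (cv D d a τ y)

theorem equiv_a {x : G} (hx : x ∈ D) :
    ∃ c : F, c ≠ 0 ∧ phi D d a τ Φ ω (a * x * a) = c • tv (phi D d a τ Φ ω a) (phi D d a τ Φ ω x) := by
  have hP := S.polar
  rw [S.phi_a ω]
  by_cases hxd : Commute x d
  · by_cases hne : x = d
    · refine ⟨1, one_ne_zero, ?_⟩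
      rw [one_smul, hne, hP.braid S.ha S.hd S.had, S.phi_z ω, S.phi_d ω, tv_hv S.card hω]
      simp [herm_zero_right _ S.card']
    obtain ⟨p, hp, hxp⟩ := hP.exists_res S.hd S.ha S.hda hx hxd hne
    rw [S.phi_X ω hp hxp, tv_hv S.card hω, herm_zero_right _ S.card']
    by_cases hxp' : x = p
    · refine ⟨1, one_ne_zero, ?_⟩
      rw [one_smul, hxp', hP.cj_of_commute S.ha hp.2.2.symm, S.phi_X ω hp (S.self_X hp), S.coord.zero p hp]
      simp
    · have hT : τ p x ≠ 0 := fun e => hxp' ((S.tau_eq_zero hp hxp).1 e)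
      refine ⟨τ p x ^ 2, pow_ne_zero 2 hT, ?_⟩
      rw [S.phi_cj_a hω hp hxp hxp']
      refine hv_eq_smul ?_ ?_ (by simp)
      · linear_combination -four_cube S.card hT
      · linear_combination -four_cube S.card hT
  rw [S.phi_A ω hxd, tv_hv S.card hω, herm_zero_right _ S.card']
  by_cases hxa : Commute x a
  · refine ⟨1, one_ne_zero, ?_⟩
    rw [one_smul, hP.cj_of_commute S.ha hxa.symm, S.phi_A ω hxd, S.cv_of_a hxa]
    simp
  by_cases hxz : Commute x (d * a * d)
  · have htd : Commute (a * x * a) d := by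
      have h := hP.commute_cj S.ha hxz
      rwa [← hP.braid S.ha S.hd S.had, hP.cj_cj S.ha] at h
    rw [S.cv_of_z hx hxd hxz]
    by_cases hne : a * x * a = d
    · refine ⟨1, one_ne_zero, ?_⟩
      have hxe : x = d * a * d := by rw [← hP.cj_cj S.ha x, hne, hP.braid S.ha S.hd S.had]
      rw [one_smul, hne, hxe, S.phi_d ω, S.wv_z]
      simp [four_add_self S.card]
    obtain ⟨p, hp, hxp⟩ := hP.exists_res S.hd S.ha S.hda (hP.cj_mem S.ha hx) htd hne
    have htp : a * x * a ≠ p := fun e => hxa (by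
      rw [← hP.cj_cj S.ha x, e, hP.cj_of_commute S.ha hp.2.2.symm]
      exact hp.2.2)
    have hT : τ p (a * x * a) ≠ 0 := fun e => htp ((S.tau_eq_zero hp hxp).1 e)
    have h := S.phi_cj_a hω hp hxp htp
    rw [hP.cj_cj S.ha, S.phi_A ω hxd, S.cv_of_z hx hxd hxz] at h
    obtain ⟨-, -, hw⟩ := hv_inj S.card hω h
    refine ⟨τ p (a * x * a), hT, ?_⟩
    rw [S.phi_X ω hp hxp, hw]
    refine hv_eq_smul (by ring) (by linear_combination -τ p (a * x * a) * four_two S.card) ?_
    rw [smul_zero, add_zero, smul_smul]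
    rw [show τ p (a * x * a) * τ p (a * x * a) ^ 2 = 1 by linear_combination four_cube S.card hT, one_smul]
  have hn : ¬ Near d a x := fun h => h.elim hxa hxz
  obtain ⟨hd', hw, hc⟩ := S.cv_cj_a hω hx hxd hn
  have hk0 : cv D d a τ x ≠ 0 := fun e => S.wv_ne_zero hx hxd hn <| by
    refine absurd ((S.wv_near hx hxd).2 ?_) hn
    have := S.cv_quad hx hxd
    rw [e] at this
    simpa using this
  have hk1 : cv D d a τ x ≠ 1 := fun e => hn ((S.wv_near hx hxd).2 (by
    have := S.cv_quad hx hxd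
    rw [e] at this
    linear_combination this - four_two S.card))
  have hk := four_trace S.card hk0 hk1
  refine ⟨cv D d a τ x, hk0, ?_⟩
  rw [S.phi_A ω hd', hw, hc]
  refine hv_eq_smul (by ring) ?_ (by simp)
  linear_combination -hk + four_two S.card

/-- Conjugation by the generators is the transvection. -/
theorem equiv_gen {u : G} (hu : u ∈ D) (h : u = a ∨ Commute u d) {x : G} (hx : x ∈ D) :
    ∃ c : F, c ≠ 0 ∧ phi D d a τ Φ ω (u * x * u) = c • (phi D d a τ Φ ω x +
      hermForm (k + 2) F 2 (phi D d a τ Φ ω x) (phi D d a τ Φ ω u) • phi D d a τ Φ ω u) := by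
  rcases h with h | h
  · rw [h]; exact S.equiv_a hω hx
  by_cases hud : u = d
  · rw [hud]; exact S.equiv_d hω hx
  obtain ⟨p, hp, hup⟩ := S.polar.exists_res S.hd S.ha S.hda hu h hud
  exact S.equiv_X hω hp hup hx

end Ctx

end Cfsg.Agent.Lib.FischerUnit14
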