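import Cfsg.Agent.Lib.FischerUnit14.Defs
import Cfsg.Agent.Lib.UnitaryFour.Transvection
import Cfsg.Agent.Lib.FischerMTypes32.Central24Model

/-!
# The group of a class with a unitary model

A centreless group generated by a class with a model of dimension `n` is `PSU n F 2`, the class going to
the images of the transvections.
-/

set_option autoImplicit false

namespace Cfsg.Agent.Lib.FischerUnit14

open Cfsg Cfsg.Agent.Lib.Unitary Cfsg.Agent.Lib.UnitaryFour.Transvection Matrix

section Tv

variable {F : Type*} [Field F] [Fintype F] {n : ℕ}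

/-- In `SU` over four elements the elements `g` with `g - 1` of rank one are the transvections. -/
theorem rank_sub_one_eq_one_iff (hF : Fintype.card F = 2 ^ 2) (g : SU n F 2) :
    (((g : Matrix.SpecialLinearGroup (Fin n) F) : Matrix (Fin n) (Fin n) F) - 1).rank = 1 ↔
      ∃ (w : Fin n → F) (hw : hermForm n F 2 w w = 0), w ≠ 0 ∧ g = tv hF w hw := by
  have hdev : ∀ x, (((g : Matrix.SpecialLinearGroup (Fin n) F) : Matrix (Fin n) (Fin n) F) - 1).mulVecLin x =
      act g x - x := fun x => by
    rw [Matrix.mulVecLin_apply, Matrix.sub_mulVec, Matrix.one_mulVec]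
    rfl
  constructor
  · intro h
    obtain ⟨⟨u, ⟨y₀, hy₀⟩⟩, hu, hspan⟩ := finrank_eq_one_iff'.1 h
    have hu0 : u ≠ 0 := fun e => hu (Subtype.ext e)
    have hex : ∀ x, ∃ c : F, act g x = x + c • u := fun x => by
      obtain ⟨c, hc⟩ := hspan ⟨_, ⟨x, rfl⟩⟩
      refine ⟨c, ?_⟩
      have h2 : c • u = act g x - x := (congrArg Subtype.val hc).trans (hdev x)
      rw [h2, add_sub_cancel]
    choose φ hφ using hex
    have hlin : ∀ (a : F) x y, φ (a • x + y) = a * φ x + φ y := fun a x y => by
      have h1 := hφ (a • x + y)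
      rw [act_add, act_smul, hφ x, hφ y, smul_add, smul_smul] at h1
      have h2 : (a * φ x + φ y) • u = φ (a • x + y) • u := by
        refine add_left_cancel (a := a • x + y) ?_
        rw [← h1, add_smul]
        abel
      exact (smul_left_injective F hu0 h2).symm
    let L : (Fin n → F) →ₗ[F] F :=
      { toFun := φ
        map_add' := fun x y => by simpa using hlin 1 x y
        map_smul' := fun a x => by
          have h0 : φ 0 = 0 := by
            have := hlin 1 0 0
            simpa using this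
          simpa [h0] using hlin a x 0 }
    obtain ⟨r, hr⟩ : ∃ r : Fin n → F, ∀ x, φ x = hermForm n F 2 x r := by
      refine ⟨fun i => L (Pi.single i 1) ^ 2, fun x => ?_⟩
      show L x = _
      conv_lhs => rw [pi_eq_sum_univ' x, map_sum]
      simp only [map_smul, smul_eq_mul, hermForm]
      exact Finset.sum_congr rfl fun i _ => by rw [pow_q_q hF]
    have hmat : ((g : Matrix.SpecialLinearGroup (Fin n) F) : Matrix (Fin n) (Fin n) F) = rk1 2 1 u r := by
      refine Matrix.toLin'.injective (LinearMap.ext fun x => ?_)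
      rw [Matrix.toLin'_apply, Matrix.toLin'_apply, rk1_mulVec, one_mul, ← hr]
      exact hφ x
    have hur : hermForm n F 2 u r = 0 := by
      have hd := (g : Matrix.SpecialLinearGroup (Fin n) F).2
      rw [hmat, rk1_det, one_mul] at hd
      simpa using hd
    have huφ : φ u = 0 := by rw [hr, hur]
    have key : ∀ x y, φ x * hermForm n F 2 u y + φ y ^ 2 * hermForm n F 2 x u +
        φ x * φ y ^ 2 * hermForm n F 2 u u = 0 := fun x y => by
      have h1 := act_herm g x y
      simp only [hφ, herm_add_left, herm_add_right _ _ _ hF, herm_smul_left, herm_smul_right] at h1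
      linear_combination h1
    obtain ⟨z, hz⟩ : ∃ z, φ z ≠ 0 := by
      by_contra hno
      push Not at hno
      refine hu0 ?_
      rw [← show (((g : Matrix.SpecialLinearGroup (Fin n) F) : Matrix (Fin n) (Fin n) F) - 1).mulVecLin y₀ =
        u from hy₀, hdev, hφ, hno, zero_smul, add_zero, sub_self]
    have huu : hermForm n F 2 u u = 0 := by
      have h1 := key u z
      rw [huφ, zero_mul, zero_add, zero_mul, zero_mul, add_zero] at h1
      exact (mul_eq_zero.1 h1).resolve_left (pow_ne_zero 2 hz)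
    obtain ⟨f, hf⟩ := exists_hyp hF hu0 huu
    have hfu : hermForm n F 2 f u = 1 := hf.symm' hF
    have huf : hermForm n F 2 u f = 1 := by rw [← herm_conj f u hF, hfu, one_pow]
    have hall : ∀ x, φ x = φ f ^ 2 * hermForm n F 2 x u := fun x => by
      have h1 := key x f
      rw [huu, huf, mul_zero, add_zero, mul_one] at h1
      linear_combination h1 - φ f ^ 2 * hermForm n F 2 x u * two_eq_zero hF
    have hf1 : φ f ^ 2 = 1 := by
      have h1 := hall f
      rw [hfu, mul_one] at h1
      have hne : φ f ≠ 0 := fun h0 => hz (by rw [hall z, h0]; ring)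
      have h2 : φ f = 1 := mul_left_cancel₀ hne (by linear_combination -h1)
      rw [h2, one_pow]
    exact ⟨u, huu, hu0, ext' fun x => by rw [hφ, hall, hf1, one_mul, act_tv]⟩
  · rintro ⟨w, hw, hw0, rfl⟩
    obtain ⟨f, hf⟩ := exists_hyp hF hw0 hw
    refine finrank_eq_one_iff'.2 ⟨⟨w, f, ?_⟩, fun e => hw0 (congrArg Subtype.val e), ?_⟩
    · rw [hdev, act_tv, add_sub_cancel_left, hf.symm' hF, one_smul]
    · rintro ⟨_, ⟨x, rfl⟩⟩
      refine ⟨hermForm n F 2 x w, Subtype.ext ?_⟩
      show hermForm n F 2 x w • w = _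
      refine Eq.symm ((hdev x).trans ?_)
      rw [act_tv, add_sub_cancel_left]

end Tv

variable {G : Type*} [Group G] {F : Type} [Field F] [Fintype F]

/-- A centreless group generated by a class with a model of dimension `n` is `PSU n F 2`. -/
theorem psu_of_model [Finite G] {D : Set G} (hD : Cfsg.IsThreeTranspositionClass D)
    (hZ : Subgroup.center G = ⊥) (hF : Fintype.card F = 4) {n : ℕ} (hn : 4 ≤ n)
    (hmodel : HasModel F D n) :
    ∃ e : G ≃* Cfsg.PSU n F 2, e '' D = (QuotientGroup.mk : ↥(Cfsg.SU n F 2) → Cfsg.PSU n F 2) ''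
      {g : ↥(Cfsg.SU n F 2) |
        (((g : Matrix.SpecialLinearGroup (Fin n) F) : Matrix (Fin n) (Fin n) F) - 1).rank = 1} := by
  classical
  have hF' : Fintype.card F = 2 ^ 2 := by rw [hF]; norm_num
  obtain ⟨f, M⟩ := hmodel
  have hgen : Subgroup.closure D = ⊤ := hD.2.2
  have huniq : ∀ x y : G, (∀ a ∈ D, x * a * x⁻¹ = y * a * y⁻¹) → x = y := fun x y h => by
    have hmem : x⁻¹ * y ∈ Subgroup.center G := Subgroup.mem_center_iff.2 fun g => by
      have hg : g ∈ Subgroup.closure D := hgen.ge (Subgroup.mem_top g)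
      suffices Commute g (x⁻¹ * y) from this.eq
      induction hg using Subgroup.closure_induction with
      | mem a ha =>
        refine Commute.symm ?_
        show x⁻¹ * y * a = a * (x⁻¹ * y)
        calc x⁻¹ * y * a = x⁻¹ * (y * a * y⁻¹) * y := by group
          _ = a * (x⁻¹ * y) := by rw [← h a ha]; group
      | one => exact Commute.one_left _
      | mul a b _ _ ha hb => exact ha.mul_left hb
      | inv a _ ha => exact ha.inv_left
    rw [hZ, Subgroup.mem_bot] at hmem
    exact inv_mul_eq_one.1 hmem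
  have hiso : ∀ (g : SU n F 2) {w : Fin n → F}, IsoVec 2 w → IsoVec 2 (act g w) := fun g w hw =>
    ⟨fun h0 => hw.1 (by rw [← act_inv_self g w, h0, act_def, Matrix.mulVec_zero]),
      by rw [act_herm]; exact hw.2⟩
  have hinv : ∀ v : Fin n → F, IsoVec 2 v → (f v)⁻¹ = f v := fun v hv =>
    inv_eq_of_mul_eq_one_right (by
      rw [← pow_two, ← hD.1.1 _ (M.mem v hv), pow_orderOf_eq_one])
  have hex : ∀ g : SU n F 2, ∃ x : G, ∀ w, IsoVec 2 w → x * f w * x⁻¹ = f (act g w) := by
    intro g
    have hg : g ∈ Subgroup.closure {t : SU n F 2 | ∃ (w : Fin n → F) (hw : hermForm n F 2 w w = 0),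
        w ≠ 0 ∧ t = tv hF' w hw} := by
      have h := FischerMTypes32.Central24Model.closure_tv hF' (n := n) (by omega) (by omega)
      rw [h]
      exact Subgroup.mem_top g
    induction hg using Subgroup.closure_induction with
    | mem t ht =>
      obtain ⟨v, hv, hv0, rfl⟩ := ht
      exact ⟨f v, fun w hw => by rw [hinv v ⟨hv0, hv⟩, M.conj v w ⟨hv0, hv⟩ hw, act_tv]⟩
    | one => exact ⟨1, fun w _ => by simp [act_one]⟩
    | mul a b _ _ ha hb =>
      obtain ⟨x, hx⟩ := ha
      obtain ⟨y, hy⟩ := hb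
      refine ⟨x * y, fun w hw => ?_⟩
      rw [act_mul, ← hx _ (hiso b hw), ← hy w hw]
      group
    | inv a _ ha =>
      obtain ⟨x, hx⟩ := ha
      refine ⟨x⁻¹, fun w hw => ?_⟩
      have h1 := hx _ (hiso a⁻¹ hw)
      rw [← act_mul a, mul_inv_cancel, act_one] at h1
      rw [← h1]
      group
  choose θ hθ using hex
  have hext : ∀ (g : SU n F 2) (x : G), (∀ w, IsoVec 2 w → x * f w * x⁻¹ = f (act g w)) → θ g = x :=
    fun g x h => huniq _ _ fun a ha => by
      obtain ⟨w, hw, rfl⟩ := M.surj a ha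
      rw [hθ g w hw, h w hw]
  let Θ : SU n F 2 →* G := MonoidHom.mk' θ fun a b => hext _ _ fun w hw => by
    rw [act_mul, ← hθ a _ (hiso b hw), ← hθ b w hw]
    group
  have htv : ∀ (v : Fin n → F) (hv : hermForm n F 2 v v = 0), v ≠ 0 → Θ (tv hF' v hv) = f v :=
    fun v hv hv0 => hext _ _ fun w hw => by rw [hinv v ⟨hv0, hv⟩, M.conj v w ⟨hv0, hv⟩ hw, act_tv]
  have hsurj : Function.Surjective Θ := by
    rw [← MonoidHom.range_eq_top, eq_top_iff, ← hgen, Subgroup.closure_le]
    intro a ha
    obtain ⟨w, hw, rfl⟩ := M.surj a ha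
    exact ⟨_, htv w hw.2 hw.1⟩
  have hker : Θ.ker = Subgroup.center (SU n F 2) := by
    ext g
    rw [MonoidHom.mem_ker]
    constructor
    · intro h
      obtain ⟨l, hl⟩ : ∃ l : F, ∀ x, act g x = l • x := by
        refine FischerMTypes32.Central24Model.scalar_of_fix hF' (by omega) g fun w hw hw0 => ?_
        have h1 : θ g * f w * (θ g)⁻¹ = f (act g w) := hθ g w ⟨hw0, hw⟩
        rw [show θ g = 1 from h, one_mul, inv_one, mul_one] at h1
        obtain ⟨c, -, hc⟩ := (M.eq_iff w _ ⟨hw0, hw⟩ (hiso g ⟨hw0, hw⟩)).1 h1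
        exact ⟨c, hc⟩
      exact FischerMTypes32.Central24Model.center_of_scalar hF' (by omega) hl
    · intro hg
      obtain ⟨l, hl⟩ := (mem_center_SU_iff hF' (by omega) g).1 hg
      refine hext g 1 fun w hw => ?_
      rw [one_mul, inv_one, mul_one]
      have hw' := hiso g hw
      have hl' : act g w = l • w := hl w
      refine (M.eq_iff w _ hw hw').2 ⟨l, fun h0 => hw'.1 ?_, hl'⟩
      rw [hl', h0, zero_smul]
  let E : SU n F 2 ⧸ Subgroup.center (SU n F 2) ≃* G :=
    (QuotientGroup.quotientMulEquivOfEq hker.symm).trans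
      (QuotientGroup.quotientKerEquivOfSurjective Θ hsurj)
  have hE : ∀ g : SU n F 2, E (QuotientGroup.mk g) = Θ g := fun g => rfl
  refine ⟨E.symm, Set.ext fun x => ?_⟩
  constructor
  · rintro ⟨a, ha, rfl⟩
    obtain ⟨w, hw, rfl⟩ := M.surj a ha
    refine ⟨tv hF' w hw.2, (rank_sub_one_eq_one_iff hF' _).2 ⟨w, hw.2, hw.1, rfl⟩, ?_⟩
    apply E.injective
    rw [hE, htv w hw.2 hw.1, MulEquiv.apply_symm_apply]
  · rintro ⟨g, hg, rfl⟩
    obtain ⟨w, hw, hw0, rfl⟩ := (rank_sub_one_eq_one_iff hF' g).1 hg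
    refine ⟨f w, M.mem w ⟨hw0, hw⟩, ?_⟩
    apply E.injective
    rw [hE, htv w hw hw0, MulEquiv.apply_symm_apply]

end Cfsg.Agent.Lib.FischerUnit14
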