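import Cfsg.Agent.Lib.FischerUnit14.Line
import Cfsg.Agent.Lib.FischerThm.Params

/-!
# The polar space from a non-central local 2-core

A primitive centreless 3-transposition group with a non-central 2-core in the local group at `d` has two
members with the same partners around `d`; by rank three the lines then satisfy the axioms of `Polar`.
The partners of a member are transitive on the others.

Owner: helper67.
-/

set_option autoImplicit false
set_option linter.style.haveILetI false

namespace Cfsg.Agent.Lib.FischerUnit14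

open Cfsg Cfsg.Agent.Lib.ThreeTranspositions
open Cfsg.Agent.Lib.FischerMTypes.Primitive (perp conj_mem_perp_iff eq_of_comm_perp)

universe u

variable {G : Type u} [Group G] {D : Set G}

theorem perp2_conj (hC : IsClosedSet D) (g : G) {a b y : G} :
    g * y * g⁻¹ ∈ perp2 D (g * a * g⁻¹) (g * b * g⁻¹) ↔ y ∈ perp2 D a b := by
  refine ⟨fun h => ⟨?_, (Commute.conj_iff g).1 h.2.1, (Commute.conj_iff g).1 h.2.2⟩,
    fun h => ⟨hC.2 g y h.1, (Commute.conj_iff g).2 h.2.1, (Commute.conj_iff g).2 h.2.2⟩⟩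
  have h' := hC.2 g⁻¹ _ h.1
  rwa [show g⁻¹ * (g * y * g⁻¹) * g⁻¹⁻¹ = y by group] at h'

theorem lineC_conj (hC : IsClosedSet D) (g : G) {a b x : G} :
    g * x * g⁻¹ ∈ lineC D (g * a * g⁻¹) (g * b * g⁻¹) ↔ x ∈ lineC D a b := by
  constructor
  · intro h
    refine ⟨?_, fun y hy => (Commute.conj_iff g).1 (h.2 _ ((perp2_conj hC g).2 hy))⟩
    have h' := hC.2 g⁻¹ _ h.1
    rwa [show g⁻¹ * (g * x * g⁻¹) * g⁻¹⁻¹ = x by group] at h'
  · intro h
    refine ⟨hC.2 g x h.1, fun y hy => ?_⟩
    have e : g * (g⁻¹ * y * g) * g⁻¹ = y := by group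
    rw [← e] at hy ⊢
    exact (Commute.conj_iff g).2 (h.2 _ ((perp2_conj hC g).1 hy))

theorem ncard_conj (g : G) {S T : Set G} (h : ∀ y, g * y * g⁻¹ ∈ T ↔ y ∈ S) : S.ncard = T.ncard := by
  have e : (fun y => g * y * g⁻¹) '' S = T := by
    ext z
    refine ⟨?_, fun hz => ⟨g⁻¹ * z * g, (h _).1 ?_, by group⟩⟩
    · rintro ⟨y, hy, rfl⟩; exact (h y).2 hy
    · rwa [show g * (g⁻¹ * z * g) * g⁻¹ = z by group]
  rw [← e, Set.ncard_image_of_injective _ fun x y h => by simpa using h]

omit [Group G] in
/-- An involution of a set of odd size has a fixed point. -/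
theorem exists_fixed [Finite G] {l : Set G} (hl : Odd l.ncard) (f : G → G) (hf : ∀ x ∈ l, f x ∈ l)
    (hff : ∀ x ∈ l, f (f x) = x) : ∃ x ∈ l, f x = x := by
  classical
  have := Fintype.ofFinite G
  let σ : Equiv.Perm l :=
    { toFun := fun x => ⟨f x, hf x x.2⟩
      invFun := fun x => ⟨f x, hf x x.2⟩
      left_inv := fun x => Subtype.ext (hff x x.2)
      right_inv := fun x => Subtype.ext (hff x x.2) }
  haveI : Fact (Nat.Prime 2) := ⟨Nat.prime_two⟩
  obtain ⟨x, hx⟩ := Equiv.Perm.exists_fixed_point_of_prime (p := 2) (n := 1) (σ := σ)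
    (by
      rw [← Nat.card_eq_fintype_card, Nat.card_coe_set_eq]
      exact hl.not_two_dvd_nat)
    (by
      ext x
      simp [pow_two, σ, hff x x.2])
  exact ⟨x, x.2, congrArg Subtype.val hx⟩

/-- No member misses every point of a line of odd size. -/
theorem exists_commute_of_odd [Finite G] (hC : IsClosedSet D) {a b y : G} (ha : a ∈ D) (hb : b ∈ D)
    (hne : a ≠ b) (hab : Commute a b) (hy : y ∈ D) (hodd : Odd (lineC D a b).ncard) :
    ∃ x ∈ lineC D a b, Commute y x := by
  by_contra hn
  push Not at hn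
  have hS := hC.1
  have hya : ¬ Commute y a := hn a (left_mem_line ha b)
  have hyb : ¬ Commute y b := hn b (right_mem_line a hb)
  set k := y * a * y * (y * b * y) with hk
  have hk2 : k = y * (a * b) * y := by
    rw [hk, show y * a * y * (y * b * y) = y * a * (y * y) * b * y by group, mul_self hS hy]; group
  have hkk : k * k = 1 := by
    rw [hk2, show y * (a * b) * y * (y * (a * b) * y) = y * ((a * b) * (y * y) * (a * b)) * y by group,
      mul_self hS hy, mul_one, ← pow_two, sq_eq_one_of_commute (mul_self hS ha) (mul_self hS hb) hab,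
      mul_one, mul_self hS hy]
  have key : ∀ {p q : G}, p ∈ D → q ∈ D → Commute p q → ¬ Commute y p → ¬ Commute y q →
      (y * p * y * (y * q * y)) * p * (y * p * y * (y * q * y))⁻¹ = q := by
    intro p q hp hq hpq hyp hyq
    rw [mul_inv_rev, inv_eq hS (third_mem hC hy hq), inv_eq hS (third_mem hC hy hp)]
    have e1 : y * q * y * p * (y * q * y) = q * p * y * p * q := by
      rw [braid hS hy hq hyq]
      calc q * y * q * p * (q * y * q) = q * y * ((q * p) * q) * y * q := by group
        _ = q * y * (p * (q * q)) * y * q := by rw [← hpq.eq]; group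
        _ = q * (y * p * y) * q := by rw [mul_self hS hq, mul_one]; group
        _ = q * p * y * p * q := by rw [braid hS hy hp hyp]; group
    calc y * p * y * (y * q * y) * p * (y * q * y * (y * p * y))
        = y * p * y * (y * q * y * p * (y * q * y)) * (y * p * y) := by group
      _ = (p * y * p) * (q * p * y * p * q) * (p * y * p) := by rw [e1, braid hS hy hp hyp]
      _ = p * y * ((p * (q * p)) * y * (p * q * p)) * y * p := by group
      _ = p * y * (q * y * q) * y * p := by
          rw [← mul_assoc p q p, hpq.eq, mul_assoc q p p, mul_self hS hp, mul_one]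
      _ = p * y * (y * q * y) * y * p := by rw [braid hS hy hq hyq]
      _ = p * ((y * y) * q * (y * y)) * p := by group
      _ = q := by rw [mul_self hS hy, one_mul, mul_one, hpq.eq, mul_assoc, mul_self hS hp, mul_one]
  have hk_a : k * a * k⁻¹ = b := key ha hb hab hya hyb
  have hk_b : k * b * k⁻¹ = a := by
    have e : k = y * b * y * (y * a * y) := by
      rw [hk2, hab.eq, show y * b * y * (y * a * y) = y * b * (y * y) * a * y by group, mul_self hS hy]
      group
    rw [e]; exact key hb ha hab.symm hyb hya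
  have hki : k⁻¹ = k := inv_eq_of_mul_eq_one_right hkk
  obtain ⟨x, hx, hfx⟩ := exists_fixed hodd (fun x => k * x * k⁻¹)
    (fun x hx => by
      have h := (lineC_conj hC k).2 hx
      rwa [hk_a, hk_b, lineC_comm] at h)
    (fun x _ => by
      show k * (k * x * k⁻¹) * k⁻¹ = x
      rw [hki, show k * (k * x * k) * k = (k * k) * x * (k * k) by group, hkk, one_mul, mul_one])
  refine hya ?_
  have hxy : ¬ Commute y x := hn x hx
  have h1 : Commute k x := by
    show k * x = x * k
    calc k * x = k * x * k⁻¹ * k := by group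
      _ = x * k := by rw [hfx]
  have h2 : Commute (a * b) (y * x * y) := by
    have h := (Commute.conj_iff y).2 h1
    rwa [hk2, inv_eq hS hy, show y * (y * (a * b) * y) * y = (y * y) * (a * b) * (y * y) by group,
      mul_self hS hy, one_mul, mul_one] at h
  have hxab : Commute x (a * b) :=
    (line_commute_left ha hab hx).mul_right (line_commute_right hb hab hx)
  rw [braid hS hy hx.1 hxy] at h2
  have h3 := (Commute.conj_iff x).2 h2
  rw [hxab.eq, inv_eq hS hx.1, mul_assoc, mul_self hS hx.1, mul_one,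
    show x * (x * y * x) * x = (x * x) * y * (x * x) by group, mul_self hS hx.1, one_mul, mul_one] at h3
  exact (Cfsg.Agent.Lib.FischerMTypes.Basic.comm_of_comm_mul hS ha hb hy hab hne h3.symm).1

section Residue

variable {s : ℕ}

/-- A member commuting with two points of a line commutes with all of it. -/
theorem commute_of_two
    (hline : ∀ a ∈ D, ∀ b ∈ D, a ≠ b → Commute a b →
      ∀ u ∈ lineC D a b, ∀ v ∈ lineC D a b, u ≠ v → lineC D u v = lineC D a b)
    {a b u v x y : G} (ha : a ∈ D) (hb : b ∈ D) (hne : a ≠ b) (hab : Commute a b)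
    (hu : u ∈ lineC D a b) (hv : v ∈ lineC D a b) (huv : u ≠ v) (hx : x ∈ lineC D a b) (hy : y ∈ D)
    (h1 : Commute y u) (h2 : Commute y v) : Commute y x := by
  rw [← hline a ha b hb hne hab u hu v hv huv] at hx
  exact (line_perp hx hy h1 h2).symm

variable
    (hline : ∀ a ∈ D, ∀ b ∈ D, a ≠ b → Commute a b →
      ∀ u ∈ lineC D a b, ∀ v ∈ lineC D a b, u ≠ v → lineC D u v = lineC D a b)
    (hproj : ∀ a ∈ D, ∀ b ∈ D, a ≠ b → Commute a b → ∀ y ∈ D, ∃ x ∈ lineC D a b, Commute y x)

include hproj in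
/-- Every line through `d` meets the residue of `d` and `a`. -/
theorem exists_residue_point {d a x : G} (hd : d ∈ D) (ha : a ∈ D) (hda : ¬ Commute d a) (hx : x ∈ D)
    (hdx : Commute d x) (hne : x ≠ d) : ∃ r ∈ perp2 D d a, r ∈ lineC D d x ∧ r ≠ d := by
  obtain ⟨r, hr, har⟩ := hproj d hd x hx hne.symm hdx a ha
  exact ⟨r, ⟨hr.1, line_commute_left hd hdx hr, har.symm⟩, hr, fun e => hda (e ▸ har.symm)⟩

include hline hproj in
/-- The residue is nondegenerate. -/
theorem residue_nondeg (hsub : ∀ a ∈ D, ∀ b ∈ D, (∀ x ∈ D, Commute x a → Commute x b) → a = b)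
    {d a o : G} (hd : d ∈ D) (ha : a ∈ D) (hda : ¬ Commute d a) (ho : o ∈ perp2 D d a) :
    ∃ p ∈ perp2 D d a, ¬ Commute o p := by
  by_contra hn
  push Not at hn
  have hod : d ≠ o := fun e => hda (e ▸ ho.2.2)
  refine hod (hsub d hd o ho.1 fun x hx hxd => ?_)
  by_cases hne : x = d
  · rw [hne]; exact ho.2.1.symm
  obtain ⟨r, hr, hrl, hrd⟩ := exists_residue_point hproj hd ha hda hx hxd.symm hne
  exact (commute_of_two hline hd hx (Ne.symm hne) hxd.symm (left_mem_line hd x) hrl hrd.symm
    (right_mem_line d hx) ho.1 ho.2.1 (hn r hr)).symm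

include hline hproj in
/-- The members commuting with `d` generate a group transitive on the others. -/
theorem trans_of [Finite G] (hC : IsClosedSet D) (hs : 2 ≤ s)
    (hcard : ∀ a ∈ D, ∀ b ∈ D, a ≠ b → Commute a b → (lineC D a b).ncard = s + 1)
    (hsub : ∀ a ∈ D, ∀ b ∈ D, (∀ x ∈ D, Commute x a → Commute x b) → a = b)
    (hwall : ∀ d ∈ D, ∃ b ∈ D, b ≠ d ∧ Commute d b)
    {d a y : G} (hd : d ∈ D) (ha : a ∈ D) (hy : y ∈ D) (hda : ¬ Commute d a) (hdy : ¬ Commute d y) :
    ∃ g ∈ Subgroup.closure {x | x ∈ D ∧ Commute x d}, g * a * g⁻¹ = y := by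
  have hS := hC.1
  have two : ∀ {a b u v x y : G}, a ∈ D → b ∈ D → a ≠ b → Commute a b → u ∈ lineC D a b → v ∈ lineC D a b →
      u ≠ v → x ∈ lineC D a b → y ∈ D → Commute y u → Commute y v → Commute y x := commute_of_two hline
  set K := Subgroup.closure {x | x ∈ D ∧ Commute x d}
  let R : G → G → Prop := fun a y => ∃ g ∈ K, g * a * g⁻¹ = y
  have Rtrans : ∀ {a b c}, R a b → R b c → R a c := by
    rintro a b c ⟨g, hg, rfl⟩ ⟨k, hk, rfl⟩
    exact ⟨k * g, mul_mem hk hg, by group⟩
  -- commuting members outside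
  have step : ∀ {a y : G}, a ∈ D → y ∈ D → ¬ Commute d a → ¬ Commute d y → Commute a y → R a y := by
    intro a y ha hy hda hdy hay
    by_cases hne : y = a
    · exact ⟨1, one_mem _, by rw [hne]; group⟩
    obtain ⟨o, ho, hdo⟩ := hproj a ha y hy (Ne.symm hne) hay d hd
    have hoa : o ≠ a := fun e => hda (e ▸ hdo)
    have hoy : o ≠ y := fun e => hdy (e ▸ hdo)
    have hod : o ≠ d := fun e => hda (e ▸ line_commute_left ha hay ho)
    have hoac : Commute o a := line_commute_left ha hay ho
    have hl : lineC D a o = lineC D a y := hline a ha y hy (Ne.symm hne) hay a (left_mem_line ha y) o ho hoa.symm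
    set C := lineC D d o \ {d, o}
    set T := lineC D a o \ {a, o}
    have hmaps : ∀ c ∈ C, d * c * a * c * d ∈ T := by
      rintro c ⟨hc, hc'⟩
      have hcd : c ≠ d := fun e => hc' (Or.inl e)
      have hco : c ≠ o := fun e => hc' (Or.inr e)
      have hdc : Commute c d := line_commute_left hd hdo hc
      have hca : ¬ Commute c a := fun h => hda
        (two hd ho.1 hod.symm hdo hc (right_mem_line d ho.1) hco (left_mem_line hd o) ha h.symm hoac.symm).symm
      have hwa : Commute a (d * (c * a * c) * d) := commute_opposite (mul_self hS hd) (mul_self hS ha)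
        (braid hS hd ha hda) (braid hS hc.1 ha hca) hdc.symm
      rw [show d * c * a * c * d = d * (c * a * c) * d by group]
      set w := d * (c * a * c) * d with hw
      set g := a * d * a with hg
      have hgD : g ∈ D := third_mem hC ha hd
      have hgc : g * c * g⁻¹ = w := by
        rw [inv_eq hS hgD, hg]
        calc a * d * a * c * (a * d * a) = a * (d * (a * c * a) * d) * a := by group
          _ = a * w * a := by rw [hw, braid hS hc.1 ha hca]
          _ = w := by rw [hwa.eq, mul_assoc, mul_self hS ha, mul_one]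
      have hgd : g * d * g⁻¹ = a := by
        rw [inv_eq hS hgD, hg]
        calc a * d * a * d * (a * d * a) = a * d * a * (d * a * d) * a := by group
          _ = a * d * a * (a * d * a) * a := by rw [braid hS hd ha hda]
          _ = a * (d * (a * a) * d) * (a * a) := by group
          _ = a := by rw [mul_self hS ha, mul_one, mul_one, mul_self hS hd, mul_one]
      have hgo : g * o * g⁻¹ = o := by
        rw [← ((hoac.mul_right hdo.symm).mul_right hoac).eq, mul_inv_cancel_right]
      have h := (lineC_conj hC g).2 hc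
      rw [hgc, hgd, hgo] at h
      refine ⟨h, ?_⟩
      rintro (e | e)
      · refine hcd ((MulAut.conj g).injective ?_)
        show g * c * g⁻¹ = g * d * g⁻¹
        rw [hgc, hgd, e]
      · refine hco ((MulAut.conj g).injective ?_)
        show g * c * g⁻¹ = g * o * g⁻¹
        rw [hgc, hgo]; exact e
    have hinj : Set.InjOn (fun c => d * c * a * c * d) C := by
      intro c hc c' hc' h
      have h1 : c * a * c = c' * a * c' := mul_left_cancel (mul_right_cancel
        (show d * (c * a * c) * d = d * (c' * a * c') * d by simpa [mul_assoc] using h))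
      have hno : ∀ {u}, u ∈ C → ¬ Commute u a := fun {u} hu h => hda
        (two hd ho.1 hod.symm hdo hu.1 (right_mem_line d ho.1) (fun e => hu.2 (Or.inr e)) (left_mem_line hd o)
          ha h.symm hoac.symm).symm
      rw [braid hS hc.1.1 ha (hno hc), braid hS hc'.1.1 ha (hno hc')] at h1
      exact mul_left_cancel (mul_right_cancel h1)
    have hCc : C.ncard + 2 = s + 1 := by
      rw [← hcard d hd o ho.1 hod.symm hdo, ← Set.ncard_pair hod.symm]
      exact Set.ncard_sdiff_add_ncard_of_subset
        (Set.insert_subset (left_mem_line hd o) (Set.singleton_subset_iff.2 (right_mem_line d ho.1)))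
        (Set.toFinite _)
    have hTc : T.ncard + 2 = s + 1 := by
      rw [← hcard a ha o ho.1 hoa.symm hoac.symm, ← Set.ncard_pair hoa.symm]
      exact Set.ncard_sdiff_add_ncard_of_subset
        (Set.insert_subset (left_mem_line ha o) (Set.singleton_subset_iff.2 (right_mem_line a ho.1)))
        (Set.toFinite _)
    have himg : (fun c => d * c * a * c * d) '' C = T := by
      refine Set.eq_of_subset_of_ncard_le (Set.image_subset_iff.2 hmaps) ?_ (Set.toFinite _)
      rw [Set.ncard_image_of_injOn hinj]; omega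
    have hyT : y ∈ T := ⟨by rw [hl]; exact right_mem_line a hy, by rintro (e | e); exacts [hne e, hoy e.symm]⟩
    rw [← himg] at hyT
    obtain ⟨c, hc, rfl⟩ := hyT
    refine ⟨d * c, mul_mem (Subgroup.subset_closure ⟨hd, Commute.refl d⟩)
      (Subgroup.subset_closure ⟨hc.1.1, line_commute_left hd hdo hc.1⟩), ?_⟩
    rw [mul_inv_rev, inv_eq hS hc.1.1, inv_eq hS hd]; group
  -- one residue point not commuting with the second member
  have step2 : ∀ {a o y : G}, a ∈ D → y ∈ D → ¬ Commute d a → ¬ Commute d y → o ∈ perp2 D d a →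
      ¬ Commute y o → R a y := by
    intro a o y ha hy hda hdy ho hyo
    have hao : a ≠ o := fun e => hda (e ▸ ho.2.1.symm)
    obtain ⟨w, hw, hyw⟩ := hproj a ha o ho.1 hao ho.2.2.symm y hy
    have hwo : w ≠ o := fun e => hyo (e ▸ hyw)
    have hdw : ¬ Commute d w := fun h => hda
      (two ha ho.1 hao ho.2.2.symm hw (right_mem_line a ho.1) hwo (left_mem_line ha o) hd h ho.2.1.symm)
    exact Rtrans (step ha hw.1 hda hdw (line_commute_left ha ho.2.2.symm hw).symm)
      (step hw.1 hy hdw hdy hyw.symm)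
  by_cases hex : ∃ o ∈ perp2 D d a, ¬ Commute y o
  · obtain ⟨o, ho, hyo⟩ := hex
    exact step2 ha hy hda hdy ho hyo
  push Not at hex
  obtain ⟨b, hb, hbd, hdb⟩ := hwall d hd
  obtain ⟨o, ho, -, -⟩ := exists_residue_point hproj hd ha hda hb hdb hbd
  obtain ⟨p, hp, hop⟩ := residue_nondeg hline hproj hsub hd ha hda ho
  have hao : a ≠ o := fun e => hda (e ▸ ho.2.1.symm)
  obtain ⟨w, hw, hw'⟩ : ∃ w ∈ lineC D a o, w ∉ ({a, o} : Set G) := by
    by_contra hn
    push Not at hn
    have := Set.ncard_le_ncard (fun w hw => hn w hw) (Set.toFinite ({a, o} : Set G))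
    rw [hcard a ha o ho.1 hao ho.2.2.symm, Set.ncard_pair hao] at this
    omega
  have hwa : w ≠ a := fun e => hw' (Or.inl e)
  have hwo : w ≠ o := fun e => hw' (Or.inr e)
  have hdw : ¬ Commute d w := fun h => hda
    (two ha ho.1 hao ho.2.2.symm hw (right_mem_line a ho.1) hwo (left_mem_line ha o) hd h ho.2.1.symm)
  have haw : R a w := step ha hw.1 hda hdw (line_commute_left ha ho.2.2.symm hw).symm
  have hdp : Commute d p := hp.2.1.symm
  have hpd : d ≠ p := fun e => hda (e ▸ hp.2.2)
  obtain ⟨q, hq, hwq⟩ := hproj d hd p hp.1 hpd hdp w hw.1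
  have hqp : q ≠ p := fun e => hop
    (two ha ho.1 hao ho.2.2.symm hw (left_mem_line ha o) hwa (right_mem_line a ho.1) hp.1 (e ▸ hwq).symm
      hp.2.2).symm
  have hyq : ¬ Commute y q := fun h => hdy
    (two hd hp.1 hpd hdp hq (right_mem_line d hp.1) hqp (left_mem_line hd p) hy h (hex p hp)).symm
  exact Rtrans haw (step2 hw.1 hy hdw hdy ⟨hq.1, line_commute_left hd hdp hq, hwq.symm⟩ hyq)

end Residue

open Cfsg.Agent.Lib.FischerThm in
/-- A non-central local 2-core makes the lines a polar space. -/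
theorem exists_polar [Finite G] (hP : Prim D) {d : G} (hd : d ∈ D) (h2 : ¬ LocalCentral 2 D d) :
    ∃ s, Polar D s := by
  classical
  have hC := isClosedSet_of_group hP.hD
  have hS := hC.1
  set H := Hd D d
  have hHd : ∀ g ∈ H, g * d * g⁻¹ = d := by
    intro g hg
    have hle : H ≤ Subgroup.centralizer ({d} : Set G) := by
      rw [Subgroup.closure_le]
      exact fun y hy => Subgroup.mem_centralizer_singleton_iff.2 hy.2.2.symm.eq
    rw [Subgroup.mem_centralizer_singleton_iff.1 (hle hg), mul_inv_cancel_right]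
  set D' : Set H := {x | (x : G) ∈ perp D d} with hD'
  have hcomm : ∀ x y : H, Commute x y ↔ Commute (x : G) y :=
    fun x y => ⟨fun h => congrArg Subtype.val h, fun h => Subtype.ext h⟩
  have hC' : IsClosedSet D' := by
    refine ⟨⟨fun x hx => ?_, fun x hx y hy => ?_⟩, fun g x hx => ?_⟩
    · rw [← Subgroup.orderOf_coe]; exact hS.1 _ hx.1
    · rcases hS.2 _ hx.1 _ hy.1 with h | h
      · exact Or.inl (Subtype.ext (by simpa using h))
      · exact Or.inr (Subtype.ext (by simpa using h))
    · show (g : G) * x * (g : G)⁻¹ ∈ perp D d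
      have h := (conj_mem_perp_iff hP.hD (g : G) d x).2 hx
      rwa [hHd g g.2] at h
  obtain ⟨g, hg, e, he, hge⟩ : ∃ g ∈ Cfsg.pCore 2 H, ∃ e ∈ D', g * e * g⁻¹ ≠ e := by
    by_contra hn
    push Not at hn
    refine h2 fun g hg => mem_center_of_commute_gen
      (D := D') Subgroup.closure_closure_coe_preimage fun e he => ?_
    show g * e = e * g
    conv_rhs => rw [← hn g hg e he]
    group
  have hvS : g * e * g⁻¹ ∈ vSet D' e := by
    refine mem_vSet_of_mem_pGroup hC' (Cores.pCore_isPGroup 2) he (hC'.2 g e he) ?_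
    have h := mul_mem ((inferInstance : (Cfsg.pCore 2 H).Normal).conj_mem g hg e⁻¹) (inv_mem hg)
    convert h using 1
    group
  set b : G := (e : G) with hbdef
  have hb : b ∈ perp D d := he
  set c : G := ((g * e * g⁻¹ : H) : G) with hcdef
  have hc : c ∈ perp D d := hC'.2 g e he
  have hbc : b ≠ c := fun h => hge (Subtype.ext h.symm)
  have hcb : Commute c b := (hcomm _ _).1 (commute_of_mem_vSet he hvS)
  -- equal sizes for all commuting pairs
  have orbP : ∀ {a a' p p' : G}, a ∈ D → a' ∈ D → a ≠ a' → Commute a a' → p ∈ D → p' ∈ D → p ≠ p' →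
      Commute p p' → (perp2 D a a').ncard = (perp2 D p p').ncard ∧
        (lineC D a a').ncard = (lineC D p p').ncard := by
    intro a a' p p' ha ha' hne haa hp hp' hne' hpp
    obtain ⟨k, rfl, rfl⟩ := hP.orb_near ha ⟨ha', hne.symm, haa⟩ hp ⟨hp', hne'.symm, hpp⟩
    exact ⟨ncard_conj k fun y => perp2_conj hC k, ncard_conj k fun y => lineC_conj hC k⟩
  -- two points determine the line
  have pEq : ∀ {a a' u v : G}, a ∈ D → a' ∈ D → a ≠ a' → Commute a a' → u ∈ lineC D a a' →
      v ∈ lineC D a a' → u ≠ v → perp2 D u v = perp2 D a a' := by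
    intro a a' u v ha ha' hne haa hu hv huv
    refine (Set.eq_of_subset_of_ncard_le ?_ ?_ (Set.toFinite _)).symm
    · exact fun y hy => ⟨hy.1, (hu.2 y hy).symm, (hv.2 y hy).symm⟩
    · exact (orbP hu.1 hv.1 huv (line_commute ha ha' haa hu hv) ha ha' hne haa).1.le
  have hdb : d ≠ b := Ne.symm hb.2.1
  have hline : ∀ x, x ∈ lineC D d b ∧ x ≠ d ↔
      ∃ h : x ∈ perp D d, (⟨x, Subgroup.subset_closure h⟩ : H) ∈ vSet D' e := by
    intro x
    constructor
    · rintro ⟨hx, hxd⟩
      have hxp : x ∈ perp D d := ⟨hx.1, hxd, (line_commute_left hd hb.2.2 hx).symm⟩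
      refine ⟨hxp, hxp, fun y hy => ?_⟩
      rw [hcomm, hcomm]
      have h := Set.ext_iff.1 (pEq hd hb.1 hdb hb.2.2 (left_mem_line hd b) hx hxd.symm) (y : G)
      exact ⟨fun h' => (h.1 ⟨hy.1, hy.2.2.symm, h'.symm⟩).2.2.symm,
        fun h' => (h.2 ⟨hy.1, hy.2.2.symm, h'.symm⟩).2.2.symm⟩
    · rintro ⟨hxp, hx⟩
      refine ⟨⟨hxp.1, fun y hy => ?_⟩, hxp.2.1⟩
      by_cases hyd : y = d
      · rw [hyd]; exact hxp.2.2.symm
      · have hyp : y ∈ perp D d := ⟨hy.1, hyd, hy.2.1.symm⟩
        exact (hcomm _ ⟨y, Subgroup.subset_closure hyp⟩).1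
          ((hx.2 ⟨y, Subgroup.subset_closure hyp⟩ hyp).2 ((hcomm _ _).2 hy.2.2.symm))
  have hcl : c ∈ lineC D d b := ((hline c).2 ⟨hc, hvS⟩).1
  obtain ⟨f, hf, hfb⟩ : ∃ f ∈ D', ¬ Commute e f := by
    by_contra hn
    push Not at hn
    refine hdb (eq_of_comm_perp hP.hD hP.hprim hP.hZ hd hb.1 hb.2.2 fun y hy => ?_)
    exact ((hcomm _ _).1 (hn ⟨y, Subgroup.subset_closure hy⟩ hy)).symm
  obtain ⟨j, hj⟩ : ∃ j : ℕ, (vSet D' e).ncard = 2 ^ j := by
    letI : MulAction (Cfsg.pCore 2 H) H :=
      MulAction.compHom H ((MulAut.conj (G := H)).comp (Cfsg.pCore 2 H).subtype)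
    haveI : Fact (Nat.Prime 2) := ⟨Nat.prime_two⟩
    obtain ⟨j, hj⟩ := (Cores.pCore_isPGroup (G := H) 2).card_orbit e
    refine ⟨j, ?_⟩
    rw [← hj, Nat.card_coe_set_eq]
    congr 1
    ext x
    constructor
    · intro hx
      obtain ⟨k, hk, rfl⟩ := exists_pCore_conj hC' he hx hf hfb
      exact ⟨⟨k, hk⟩, rfl⟩
    · rintro ⟨⟨k, hk⟩, rfl⟩
      show k * e * k⁻¹ ∈ vSet D' e
      refine mem_vSet_of_mem_pGroup hC' (Cores.pCore_isPGroup 2) he (hC'.2 k e he) ?_
      have h := mul_mem ((inferInstance : (Cfsg.pCore 2 H).Normal).conj_mem k hk e⁻¹) (inv_mem hk)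
      convert h using 1
      group
  have hcard : (lineC D d b).ncard = 2 ^ j + 1 := by
    rw [← Set.ncard_sdiff_singleton_add_one (left_mem_line hd b) (Set.toFinite _), ← hj,
      ← Set.ncard_image_of_injective (vSet D' e) Subtype.val_injective]
    congr 2
    ext x
    constructor
    · intro hx
      obtain ⟨hxp, hxv⟩ := (hline x).1 ⟨hx.1, hx.2⟩
      exact ⟨_, hxv, rfl⟩
    · rintro ⟨⟨x, hxH⟩, hx, rfl⟩
      exact (hline x).2 ⟨hx.1, hx⟩
  have htwo : 2 ≤ 2 ^ j := by
    have h : 1 < (vSet D' e).ncard :=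
      (Set.one_lt_ncard (Set.toFinite _)).2 ⟨e, self_mem_vSet he, _, hvS, fun h => hge h.symm⟩
    omega
  have hodd : Odd (2 ^ j + 1) := by
    rcases Nat.eq_zero_or_pos j with rfl | hj0
    · simp at htwo
    · exact (Nat.even_pow.2 ⟨even_two, hj0.ne'⟩).add_one
  have card : ∀ a ∈ D, ∀ a' ∈ D, a ≠ a' → Commute a a' → (lineC D a a').ncard = 2 ^ j + 1 :=
    fun a ha a' ha' hne haa => ((orbP ha ha' hne haa hd hb.1 hdb hb.2.2).2).trans hcard
  have line : ∀ a ∈ D, ∀ a' ∈ D, a ≠ a' → Commute a a' →
      ∀ u ∈ lineC D a a', ∀ v ∈ lineC D a a', u ≠ v → lineC D u v = lineC D a a' :=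
    fun a ha a' ha' hne haa u hu v hv huv => by
      ext x
      simp only [lineC, pEq ha ha' hne haa hu hv huv]
  have proj : ∀ a ∈ D, ∀ a' ∈ D, a ≠ a' → Commute a a' → ∀ y ∈ D, ∃ x ∈ lineC D a a', Commute y x :=
    fun a ha a' ha' hne haa y hy =>
      exists_commute_of_odd hC ha ha' hne haa hy (card a ha a' ha' hne haa ▸ hodd)
  exact ⟨2 ^ j,
    { closed := hC
      gen := hP.hD.2.2
      center := hP.hZ
      two_le := htwo
      pow_two := ⟨j, rfl⟩
      card_line := card
      line_eq := line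
      proj := proj
      subset_eq := (FischerMTypes.Primitive.subsetEq_of_primitive hP.hD hP.hprim hP.hZ)
      trans := fun d hd a ha y hy hda hdy =>
        trans_of line proj hC htwo card (FischerMTypes.Primitive.subsetEq_of_primitive hP.hD hP.hprim hP.hZ) hP.wall hd ha hy hda hdy }⟩

end Cfsg.Agent.Lib.FischerUnit14
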