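import Cfsg.Agent.Lib.FischerUnit14.CoordDefs
import Cfsg.Agent.Lib.FischerUnit14.Polar

/-!
# Coordinates on the lines through a member exist

With four points besides `d` on a line, every bijection onto a field of four elements sending the zero to `0`
turns shifts into translations, and the passage between two residue points is a scalar map, possibly followed by
squaring. The parity is trivial around triangles, and every cycle of length at most five is made of triangles,
so squaring suitable coordinates makes all passages scalar.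

Owner: helper67.
-/

set_option autoImplicit false
set_option linter.style.haveILetI false
set_option linter.unusedSectionVars false

namespace Cfsg.Agent.Lib.FischerUnit14

open Cfsg Cfsg.Agent.Lib.ThreeTranspositions

namespace Four

variable {F : Type*} [Field F] [Fintype F] (hF : Fintype.card F = 4)
include hF

theorem cube {x : F} (hx : x ≠ 0) : x * (x * x) = 1 := by
  have h := FiniteField.pow_card_sub_one_eq_one x hx
  rw [hF] at h
  linear_combination h

theorem two_eq_zero : (2 : F) = 0 := by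
  have h : ((Fintype.card F : ℕ) : F) = 0 := Nat.cast_card_eq_zero F
  rw [hF, show ((4 : ℕ) : F) = 2 * 2 by norm_num] at h
  exact mul_self_eq_zero.1 h

theorem add_self (x : F) : x + x = 0 := by linear_combination x * two_eq_zero hF

theorem exists_ne_zero_one : ∃ w : F, w ≠ 0 ∧ w ≠ 1 := by
  classical
  by_contra hn
  push Not at hn
  have hsub : (Finset.univ : Finset F) ⊆ {0, 1} := fun x _ => by
    by_cases h : x = 0
    · simp [h]
    · simp [hn x h]
  have := Finset.card_le_card hsub
  rw [Finset.card_univ, hF] at this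
  exact absurd (this.trans (Finset.card_le_two)) (by norm_num)

/-- The non-zero members are `1`, `w`, `w * w`. -/
theorem cases {w x : F} (hw : w ≠ 0) (hw1 : w ≠ 1) (hx : x ≠ 0) : x = 1 ∨ x = w ∨ x = w * w := by
  classical
  have h1 : w * w ≠ 1 := fun h => hw1 (by
    have := cube hF hw
    rwa [h, mul_one] at this)
  have h2 : w * w ≠ w := fun h => hw1 (mul_left_cancel₀ hw (h.trans (mul_one w).symm))
  have huniv : ({0, 1, w, w * w} : Finset F) = Finset.univ := by
    refine Finset.eq_univ_of_card _ ?_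
    rw [hF]
    have h0 : w * w ≠ 0 := mul_ne_zero hw hw
    simp [Finset.card_insert_of_notMem, Ne.symm hw, Ne.symm hw1, Ne.symm h1, Ne.symm h2, Ne.symm h0]
  have := Finset.mem_univ x
  rw [← huniv] at this
  simpa [hx] using this

theorem sum_three {x y z : F} (hx : x ≠ 0) (hy : y ≠ 0) (hz : z ≠ 0) (hxy : x ≠ y) (hxz : x ≠ z)
    (hyz : y ≠ z) : z = x + y := by
  have h1 : x + y ≠ 0 := fun h => hxy (by linear_combination h - y * two_eq_zero hF)
  have hw : y / x ≠ 1 := fun h => hxy ((div_eq_one_iff_eq hx).1 h).symm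
  have hw0 : y / x ≠ 0 := div_ne_zero hy hx
  have key : ∀ t : F, t ≠ 0 → t ≠ 1 → t ≠ y / x → t = (y / x) * (y / x) := fun t h0 h1 h2 =>
    ((cases hF hw0 hw h0).resolve_left h1).resolve_left h2
  have e1 := key (z / x) (div_ne_zero hz hx) (fun h => hxz ((div_eq_one_iff_eq hx).1 h).symm)
    (fun h => hyz ((div_left_inj' hx).1 h).symm)
  have e2 := key ((x + y) / x) (div_ne_zero h1 hx)
    (fun h => hy (by have := (div_eq_one_iff_eq hx).1 h; linear_combination this))
    (fun h => hx (by have := (div_left_inj' hx).1 h; linear_combination this))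
  exact (div_left_inj' hx).1 (e1.trans e2.symm)

/-- Squaring or not. -/
def fr (b : Bool) (t : F) : F := if b then t * t else t

omit [Fintype F] hF in
@[simp] theorem fr_zero (b : Bool) : fr b (0 : F) = 0 := by cases b <;> simp [fr]

omit [Fintype F] hF in
@[simp] theorem fr_one (b : Bool) : fr b (1 : F) = 1 := by cases b <;> simp [fr]

omit [Fintype F] hF in
theorem fr_mul (b : Bool) (x y : F) : fr b (x * y) = fr b x * fr b y := by
  cases b
  · rfl
  · show x * y * (x * y) = x * x * (y * y)
    ring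

theorem fr_add (b : Bool) (x y : F) : fr b (x + y) = fr b x + fr b y := by
  cases b
  · rfl
  · show (x + y) * (x + y) = x * x + y * y
    linear_combination x * y * two_eq_zero hF

theorem fr_fr (b c : Bool) (t : F) : fr b (fr c t) = fr (b ^^ c) t := by
  by_cases ht : t = 0
  · simp [ht]
  have h := cube hF ht
  cases b <;> cases c <;> simp only [fr, Bool.xor_false, Bool.xor_true, Bool.not_false, Bool.not_true,
    Bool.false_eq_true, ↓reduceIte]
  linear_combination t * h

theorem fr_self (b : Bool) (t : F) : fr b (fr b t) = t := by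
  rw [fr_fr hF, Bool.xor_self]
  rfl

theorem fr_inj {b c : Bool} (h : ∀ t : F, fr b t = fr c t) : b = c := by
  obtain ⟨w, hw, hw1⟩ := exists_ne_zero_one hF
  have hne : w * w ≠ w := fun e => hw1 (mul_left_cancel₀ hw (e.trans (mul_one w).symm))
  have := h w
  cases b <;> cases c <;> simp only [fr, Bool.false_eq_true, ↓reduceIte] at this
  · rfl
  · exact absurd this.symm hne
  · exact absurd this hne
  · rfl

/-- An injective map fixing zero is scalar up to squaring. -/
theorem shape {f : F → F} (hf : Function.Injective f) (h0 : f 0 = 0) :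
    ∃ b, ∀ t, f t = f 1 * fr b t := by
  obtain ⟨w, hw, hw1⟩ := exists_ne_zero_one hF
  have hww : w * w ≠ w := fun e => hw1 (mul_left_cancel₀ hw (e.trans (mul_one w).symm))
  have hne : ∀ {t}, t ≠ 0 → f t ≠ 0 := fun {t} ht e => ht (hf (e.trans h0.symm))
  have hc : f 1 ≠ 0 := hne one_ne_zero
  have key : ∀ {t}, t ≠ 0 → t ≠ 1 → f t = f 1 * w ∨ f t = f 1 * (w * w) := fun {t} ht ht1 => by
    have h1 : f t / f 1 ≠ 1 := fun e => ht1 (hf ((div_eq_one_iff_eq hc).1 e))
    rcases (cases hF hw hw1 (div_ne_zero (hne ht) hc)).resolve_left h1 with e | e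
    · exact Or.inl (by rw [← e, mul_div_cancel₀ _ hc])
    · exact Or.inr (by rw [← e, mul_div_cancel₀ _ hc])
  have hw2 : w * w ≠ 1 := fun e => hw1 (by
    have := cube hF hw
    rwa [e, mul_one] at this)
  have hsq : w * w * (w * w) = w := by linear_combination w * cube hF hw
  rcases key hw hw1 with hfw | hfw
  · refine ⟨false, fun t => ?_⟩
    have hfw2 : f (w * w) = f 1 * (w * w) :=
      (key (mul_ne_zero hw hw) hw2).resolve_left fun e => hww (hf (e.trans hfw.symm))
    show f t = f 1 * t
    by_cases ht : t = 0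
    · rw [ht, h0, mul_zero]
    · rcases cases hF hw hw1 ht with rfl | rfl | rfl
      · rw [mul_one]
      · exact hfw
      · exact hfw2
  · refine ⟨true, fun t => ?_⟩
    have hfw2 : f (w * w) = f 1 * w :=
      (key (mul_ne_zero hw hw) hw2).resolve_right fun e => hww (hf (e.trans hfw.symm))
    show f t = f 1 * (t * t)
    by_cases ht : t = 0
    · rw [ht, h0, mul_zero, mul_zero]
    · rcases cases hF hw hw1 ht with rfl | rfl | rfl
      · rw [mul_one, mul_one]
      · exact hfw
      · rw [hsq]; exact hfw2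

/-- Two such maps of different parity agree at some non-zero point. -/
theorem exists_agree {b b' : Bool} (hb : b ≠ b') {c c' : F} (hc : c ≠ 0) (hc' : c' ≠ 0) :
    ∃ t : F, t ≠ 0 ∧ c * fr b t = c' * fr b' t := by
  cases b <;> cases b'
  · exact absurd rfl hb
  · refine ⟨c / c', div_ne_zero hc hc', ?_⟩
    show c * (c / c') = c' * (c / c' * (c / c'))
    field_simp
  · refine ⟨c' / c, div_ne_zero hc' hc, ?_⟩
    show c * (c' / c * (c' / c)) = c' * (c' / c)
    field_simp
  · exact absurd rfl hb

end Four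

universe u

variable {G : Type u} [Group G] {D : Set G}

namespace Polar

variable (hP : Polar D 4) {d a : G} (hd : d ∈ D) (ha : a ∈ D) (hda : ¬ Commute d a)
include hP hd ha hda

theorem res_cj {q u : G} (hq : q ∈ perp2 D d a) (hu : u ∈ perp2 D d a) : q * u * q ∈ perp2 D d a :=
  ⟨hP.cj_mem hq.1 hu.1, (hq.2.1.mul_left hu.2.1).mul_left hq.2.1,
    (hq.2.2.mul_left hu.2.2).mul_left hq.2.2⟩

/-- The passage between two residue points is one conjugation. -/
theorem shift_eq_cj {p q b : G} (hp : p ∈ perp2 D d a) (hq : q ∈ perp2 D d a) (hpq : ¬ Commute p q)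
    (hb : b ∈ X D d p) : shift b p q = p * q * p * b * (p * q * p) := by
  obtain ⟨hpD, hpd, -, hdp, -⟩ := hP.res_facts ha hda hp
  obtain ⟨hqD, -, -, -, -⟩ := hP.res_facts ha hda hq
  have hr := hP.res_cj hd ha hda hp hq
  have hrp : ¬ Commute p (p * q * p) := third_not_commute_left hP.closed hpD hqD hpq
  have hbr : ¬ Commute b (p * q * p) := by
    intro h
    by_cases hbp : b = p
    · exact hrp (hbp ▸ h)
    · exact hrp (hP.line_all hd hpD hpd.symm hdp (left_mem_line hd p) hb.1 hb.2.symm (right_mem_line d hpD)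
        hr.1 hr.2.1 h.symm).symm
  rw [← hP.braid hb.1.1 hr.1 hbr, shift]
  group

theorem shift_back {p q b : G} (hp : p ∈ perp2 D d a) (hq : q ∈ perp2 D d a) (hpq : ¬ Commute p q)
    (hb : b ∈ X D d p) : shift (shift b p q) q p = b := by
  obtain ⟨hqD, hqd, -, -, -⟩ := hP.res_facts ha hda hq
  have he := hP.shift_mem hd ha hda hp hq hb (mem_X_self hqD hqd)
  rw [hP.shift_eq_cj hd ha hda hq hp (fun h => hpq h.symm) he, ← hP.braid hp.1 hq.1 hpq,
    hP.shift_eq_cj hd ha hda hp hq hpq hb]
  have hr := hP.sq (hP.cj_mem hp.1 hq.1)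
  calc p * q * p * (p * q * p * b * (p * q * p)) * (p * q * p)
      = p * q * p * (p * q * p) * b * (p * q * p * (p * q * p)) := by group
    _ = b := by rw [hr, one_mul, mul_one]

omit hd in
theorem conj_third {v q u b : G} (hv : v ∈ perp2 D d a) (hb : b ∈ D) :
    shift b v (q * u * q) = shift b v q * shift b v u * shift b v q := by
  rw [hP.shift_eq_conj hb hv.1, hP.shift_eq_conj hb hv.1, hP.shift_eq_conj hb hv.1]
  group

omit hd in
theorem third_eq_shift {q f e : G} (hq : q ∈ perp2 D d a) : e * f * e = shift e q (q * f * q) := by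
  rw [shift, show e * q * (q * f * q) * (q * e) = e * (q * q) * f * (q * q) * e by group, hP.sq hq.1, mul_one,
    mul_one]

theorem cj_eq_shift {q u f : G} (hq : q ∈ perp2 D d a) (hu : u ∈ perp2 D d a) (hqu : ¬ Commute q u)
    (hf : f ∈ X D d u) : q * f * q = shift f u (q * u * q) := by
  have hw := hP.res_cj hd ha hda hq hu
  have hwu : ¬ Commute u (q * u * q) := third_not_commute_right hP.closed hq.1 hu.1 hqu
  rw [hP.shift_eq_cj hd ha hda hu hw hwu hf, hP.braid hq.1 hu.1 hqu,
    show u * (u * q * u) * u = (u * u) * q * (u * u) by group, hP.sq hu.1, one_mul, mul_one]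

variable [Finite G]

/-- Every bijection onto four elements sending the zero to `0` turns shifts into translations. -/
theorem shift_translate {F : Type*} [Field F] [Fintype F] (hF : Fintype.card F = 4) {σ : G → F}
    {p q b x : G} (hp : p ∈ perp2 D d a) (hq : q ∈ perp2 D d a) (hσ : Set.InjOn σ (X D d q))
    (h0 : σ q = 0) (hb : b ∈ X D d p) (hx : x ∈ X D d q) :
    σ (shift b p x) = σ x + σ (shift b p q) := by
  obtain ⟨hpD, hpd, -, hdp, -⟩ := hP.res_facts ha hda hp
  obtain ⟨hqD, hqd, -, hdq, -⟩ := hP.res_facts ha hda hq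
  have hqX := mem_X_self hqD hqd
  have hbc : Commute b p := line_commute_right hpD hdp hb.1
  by_cases hpq : Commute p q
  · have hfix : ∀ {y}, y ∈ X D d q → shift b p y = y := fun {y} hy =>
      hP.shift_fix hb.1.1 hpD (hP.X_perp hd hpD hqD hdp hdq hpq hb hy).symm
        (line_perp hy.1 hpD hdp.symm hpq)
    rw [hfix hx, hfix hqX, h0, add_zero]
  by_cases hbp : b = p
  · rw [hbp, hP.shift_self hpD, hP.shift_self hpD, h0, add_zero]
  set e := shift b p q with he
  have heX : e ∈ X D d q := hP.shift_mem hd ha hda hp hq hb hqX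
  have hne : e ≠ q := hP.shift_ne hd ha hda hp hq hpq hb hbp hqX
  by_cases hxq : x = q
  · rw [hxq, h0, zero_add]
  have hback := hP.shift_shift (x := q) hb.1.1 hpD hbc
  by_cases hxe : x = e
  · rw [hxe, he, hback, h0, Four.add_self hF]
  set y := shift b p x with hy
  have hyX : y ∈ X D d q := hP.shift_mem hd ha hda hp hq hb hx
  have hyq : y ≠ q := fun h => hxe (by rw [he, ← h, hy, hP.shift_shift hb.1.1 hpD hbc])
  have hye : y ≠ e := fun h => hxq (by
    rw [← hP.shift_shift (x := x) hb.1.1 hpD hbc, ← hy, h, he, hback])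
  have hyx : y ≠ x := hP.shift_ne hd ha hda hp hq hpq hb hbp hx
  refine Four.sum_three hF ?_ ?_ ?_ (fun h => hxe (hσ hx heX h)) (fun h => hyx (hσ hx hyX h).symm)
    (fun h => hye (hσ heX hyX h).symm)
  · exact fun h => hxq (hσ hx hqX (h.trans h0.symm))
  · exact fun h => hne (hσ heX hqX (h.trans h0.symm))
  · exact fun h => hyq (hσ hyX hqX (h.trans h0.symm))

/-- Two residue points have a common non-commuting residue point. -/
theorem exists_far_both {p q : G} (hp : p ∈ perp2 D d a) (hq : q ∈ perp2 D d a) :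
    ∃ m ∈ perp2 D d a, ¬ Commute p m ∧ ¬ Commute m q := by
  obtain ⟨x, hx, hpx⟩ := residue_nondeg hP.line_eq hP.proj hP.subset_eq hd ha hda hp
  by_cases hxq : Commute x q
  swap
  · exact ⟨x, hx, hpx, hxq⟩
  obtain ⟨y, hy, hqy⟩ := residue_nondeg hP.line_eq hP.proj hP.subset_eq hd ha hda hq
  by_cases hpy : Commute p y
  swap
  · exact ⟨y, hy, hpy, fun h => hqy h.symm⟩
  by_cases hxy : Commute x y
  · have hne : x ≠ y := fun e => hpx (e ▸ hpy)
    obtain ⟨m, hm, hm'⟩ : ∃ m ∈ lineC D x y, m ∉ ({x, y} : Set G) := by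
      by_contra hn
      push Not at hn
      have := Set.ncard_le_ncard (fun m hm => hn m hm) (Set.toFinite ({x, y} : Set G))
      rw [hP.card_line x hx.1 y hy.1 hne hxy, Set.ncard_pair hne] at this
      omega
    have hmx : m ≠ x := fun e => hm' (Or.inl e)
    have hmy : m ≠ y := fun e => hm' (Or.inr e)
    refine ⟨m, ⟨hm.1, line_perp hm hd hx.2.1.symm hy.2.1.symm, line_perp hm ha hx.2.2.symm hy.2.2.symm⟩,
      fun h => hpx ?_, fun h => hqy ?_⟩
    · exact hP.line_all hx.1 hy.1 hne hxy (right_mem_line x hy.1) hm hmy.symm (left_mem_line hx.1 y) hp.1 hpy h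
    · exact hP.line_all hx.1 hy.1 hne hxy (left_mem_line hx.1 y) hm hmx.symm (right_mem_line x hy.1) hq.1
        hxq.symm h.symm
  · refine ⟨x * y * x, hP.res_cj hd ha hda hx hy, fun h => hpx ?_, fun h => hqy ?_⟩
    · have h' := (hpy.mul_right h).mul_right hpy
      rwa [hP.braid hx.1 hy.1 hxy, show y * (y * x * y) * y = (y * y) * x * (y * y) by group, hP.sq hy.1,
        one_mul, mul_one] at h'
    · have h' := (hxq.symm.mul_right h.symm).mul_right hxq.symm
      rwa [show x * (x * y * x) * x = (x * x) * y * (x * x) by group, hP.sq hx.1, one_mul, mul_one] at h'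

end Polar

/-- The parities of the edges of a graph without chordless four-cycles agree around five-cycles. -/
theorem parity_five {R : Set G} (hcj : ∀ o ∈ R, ∀ m ∈ R, o * m * o ∈ R) (hsq : ∀ o ∈ R, o * o = 1)
    (hbraid : ∀ o ∈ R, ∀ m ∈ R, ¬ Commute o m → o * m * o = m * o * m) (π : G → G → Bool)
    (htri : ∀ o ∈ R, ∀ m ∈ R, ∀ p ∈ R, ¬ Commute o m → ¬ Commute m p → ¬ Commute o p →
      (π o m ^^ π m p) = π o p)
    (hsymm : ∀ o ∈ R, ∀ m ∈ R, ¬ Commute o m → π o m = π m o)
    {o m p q n : G} (ho : o ∈ R) (hm : m ∈ R) (hp : p ∈ R) (hq : q ∈ R) (hn : n ∈ R)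
    (hom : ¬ Commute o m) (hmp : ¬ Commute m p) (hpq : ¬ Commute p q) (hon : ¬ Commute o n)
    (hnq : ¬ Commute n q) : ((π o m ^^ π m p) ^^ π p q) = (π o n ^^ π n q) := by
  have hne : ∀ {x y : G}, ¬ Commute x y → ¬ Commute y x := fun h h' => h h'.symm
  have apex : ∀ {o m p : G}, o ∈ R → m ∈ R → ¬ Commute o m → Commute p o → ¬ Commute p m →
      ¬ Commute p (o * m * o) := fun {o m p} ho _ _ h1 h2 h => h2 (by
    have h' := (h1.mul_right h).mul_right h1
    rwa [show o * (o * m * o) * o = (o * o) * m * (o * o) by group, hsq o ho, one_mul, mul_one] at h')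
  have hoh : ∀ {o m : G}, o ∈ R → m ∈ R → ¬ Commute o m →
      ¬ Commute o (o * m * o) ∧ ¬ Commute (o * m * o) m := fun {o m} ho hm hom => by
    refine ⟨fun h => hom ?_, fun h => hom ?_⟩
    · have h' := ((Commute.refl o).mul_right h).mul_right (Commute.refl o)
      rwa [show o * (o * m * o) * o = (o * o) * m * (o * o) by group, hsq o ho, one_mul, mul_one] at h'
    · rw [hbraid o ho m hm hom] at h
      have h' := ((Commute.refl m).mul_right h.symm).mul_right (Commute.refl m)
      rw [show m * (m * o * m) * m = (m * m) * o * (m * m) by group, hsq m hm, one_mul, mul_one] at h'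
      exact h'.symm
  have four : ∀ {o m p n : G}, o ∈ R → m ∈ R → p ∈ R → n ∈ R → ¬ Commute o m → ¬ Commute m p →
      ¬ Commute o n → ¬ Commute n p → (π o m ^^ π m p) = (π o n ^^ π n p) := by
    intro o m p n ho hm hp hn hom hmp hon hnp
    by_cases hop : Commute o p
    swap
    · rw [htri o ho m hm p hp hom hmp hop, htri o ho n hn p hp hon hnp hop]
    by_cases hmn : Commute m n
    swap
    · rw [← htri o ho m hm n hn hom hmn hon, ← htri m hm n hn p hp hmn hnp hmp]
      revert hom
      cases π o m <;> cases π m n <;> cases π n p <;> simp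
    obtain ⟨hoh', hhm⟩ := hoh ho hm hom
    have hph := apex ho hm hom hop.symm (hne hmp)
    have hnh : ¬ Commute n (o * m * o) := by
      rw [hbraid o ho m hm hom]
      exact apex hm ho (hne hom) hmn.symm (hne hon)
    have hh := hcj o ho m hm
    have e0 := htri o ho _ hh m hm hoh' hhm hom
    have e1 := htri _ hh m hm p hp hhm hmp (hne hph)
    have e3 := htri o ho _ hh n hn hoh' (hne hnh) hon
    have e2 := htri _ hh n hn p hp (hne hnh) hnp (hne hph)
    revert e0 e1 e2 e3
    generalize π o m = i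
    generalize π o n = j
    generalize π o (o * m * o) = x
    generalize π (o * m * o) m = y
    generalize π (o * m * o) p = z
    generalize π (o * m * o) n = w
    generalize π m p = v
    generalize π n p = t
    revert x y z w v t i j
    decide
  by_cases hop : Commute o p
  swap
  · rw [htri o ho m hm p hp hom hmp hop]
    exact four ho hp hq hn hop hpq hon hnq
  by_cases hmn : Commute m n
  swap
  · have e1 := htri o ho n hn m hm hon (hne hmn) hom
    have e2 := four hn hm hp hq (hne hmn) hmp hnq (hne hpq)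
    rw [hsymm p hp q hq hpq]
    revert e1 e2
    generalize π o m = x
    generalize π m p = y
    generalize π q p = z
    generalize π o n = w
    generalize π n q = v
    generalize π n m = t
    revert x y z w v t
    decide
  obtain ⟨hoh', hhm⟩ := hoh ho hm hom
  have hph := apex ho hm hom hop.symm (hne hmp)
  have hnh : ¬ Commute n (o * m * o) := by
    rw [hbraid o ho m hm hom]
    exact apex hm ho (hne hom) hmn.symm (hne hon)
  have hh := hcj o ho m hm
  have e1 := htri o ho _ hh m hm hoh' hhm hom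
  have e2 := htri _ hh m hm p hp hhm hmp (hne hph)
  have e3 := htri o ho _ hh n hn hoh' (hne hnh) hon
  have e4 := four hh hp hq hn (hne hph) hpq (hne hnh) hnq
  revert e1 e2 e3 e4
  generalize π o m = x
  generalize π m p = y
  generalize π p q = z
  generalize π o n = w
  generalize π n q = v
  generalize π o (o * m * o) = t
  generalize π (o * m * o) m = i
  generalize π (o * m * o) p = j
  generalize π (o * m * o) n = l
  revert x y z w v t i j l
  decide

variable {F : Type*} [Field F] [Fintype F]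

/-- Linear coordinates exist. -/
theorem exists_coord [Finite G] (hF : Fintype.card F = 4) (hP : Polar D 4) {d a : G} (hd : d ∈ D) (ha : a ∈ D)
    (hda : ¬ Commute d a) : ∃ τ M : G → G → F, Coord D d a τ M := by
  classical
  set R := perp2 D d a
  have hX : ∀ {p}, p ∈ R → p ∈ X D d p := fun {p} hp =>
    mem_X_self hp.1 (hP.res_facts ha hda hp).2.1
  have hex : ∀ p, ∃ σ : G → F, p ∈ R → σ p = 0 ∧ Set.BijOn σ (X D d p) Set.univ := by
    intro p
    by_cases hp : p ∈ R
    swap
    · exact ⟨0, fun h => absurd h hp⟩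
    obtain ⟨-, hpd, -, hdp, -⟩ := hP.res_facts ha hda hp
    have hc : Nat.card (X D d p) = Nat.card F := by
      rw [Nat.card_coe_set_eq, hP.card_X hd hp.1 hpd.symm hdp, Nat.card_eq_fintype_card, hF]
    obtain ⟨e⟩ : Nonempty (X D d p ≃ F) := ⟨(Finite.card_eq.1 hc).some⟩
    let e' := e.trans (Equiv.swap (e ⟨p, hX hp⟩) 0)
    refine ⟨fun x => if h : x ∈ X D d p then e' ⟨x, h⟩ else 0, fun _ => ⟨?_, ?_, ?_, ?_⟩⟩
    · simp [hX hp, e']
    · exact fun x _ => Set.mem_univ _
    · intro x hx y hy h
      simp only [dif_pos hx, dif_pos hy] at h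
      exact congrArg Subtype.val (e'.injective h)
    · exact fun t _ => ⟨_, (e'.symm t).2, by simp⟩
  choose σ hσ using hex
  have hinv : ∀ p, ∃ g : F → G, p ∈ R → ∀ t, g t ∈ X D d p ∧ σ p (g t) = t := by
    intro p
    by_cases hp : p ∈ R
    swap
    · exact ⟨fun _ => p, fun h => absurd h hp⟩
    choose g hg hg' using fun t => (hσ p hp).2.surjOn (Set.mem_univ t)
    exact ⟨g, fun _ t => ⟨hg t, hg' t⟩⟩
  choose inv hinv using hinv
  let A : G → G → F → F := fun p q t => σ q (shift (inv p t) p q)
  have hA : ∀ {p q b x}, p ∈ R → q ∈ R → b ∈ X D d p → x ∈ X D d q →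
      σ q (shift b p x) = σ q x + A p q (σ p b) := by
    intro p q b x hp hq hb hx
    rw [hP.shift_translate hd ha hda hF hp hq (hσ q hq).2.injOn (hσ q hq).1 hb hx]
    have : inv p (σ p b) = b := (hσ p hp).2.injOn (hinv p hp _).1 hb (hinv p hp _).2
    simp only [A, this]
  have hA0 : ∀ {p q}, p ∈ R → q ∈ R → A p q 0 = 0 := by
    intro p q hp hq
    have h := hA hp hq (hX hp) (hX hq)
    rw [hP.shift_self hp.1, (hσ q hq).1, (hσ p hp).1, zero_add] at h
    exact h.symm
  have hAcom : ∀ {p q}, p ∈ R → q ∈ R → Commute p q → ∀ t, A p q t = 0 := by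
    intro p q hp hq hpq t
    obtain ⟨hpD, hpd, -, hdp, -⟩ := hP.res_facts ha hda hp
    obtain ⟨hqD, hqd, -, hdq, -⟩ := hP.res_facts ha hda hq
    show σ q (shift (inv p t) p q) = 0
    rw [hP.shift_fix (hinv p hp t).1.1.1 hpD (hP.X_perp hd hpD hqD hdp hdq hpq (hinv p hp t).1 (hX hq)).symm
      hpq.symm, (hσ q hq).1]
  have hback : ∀ {p q}, p ∈ R → q ∈ R → ¬ Commute p q → ∀ t, A q p (A p q t) = t := by
    intro p q hp hq hpq t
    have hb := (hinv p hp t).1
    have he : shift (inv p t) p q ∈ X D d q := hP.shift_mem hd ha hda hp hq hb (hX hq)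
    have h := hA hq hp he (hX hp)
    rw [hP.shift_back hd ha hda hp hq hpq hb, (hσ p hp).1, (hinv p hp t).2, zero_add] at h
    exact h.symm
  have hrow : ∀ {v q u}, v ∈ R → q ∈ R → u ∈ R → ¬ Commute q u → ∀ t,
      A v (q * u * q) t = A q (q * u * q) (A v q t) + A u (q * u * q) (A v u t) := by
    intro v q u hv hq hu hqu t
    have hw := hP.res_cj hd ha hda hq hu
    have hb := (hinv v hv t).1
    have he := hP.shift_mem hd ha hda hv hq hb (hX hq)
    have hf := hP.shift_mem hd ha hda hv hu hb (hX hu)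
    show σ _ (shift (inv v t) v (q * u * q)) = _
    rw [hP.conj_third ha hda hv hb.1.1, hP.third_eq_shift ha hda (f := shift (inv v t) v u) hq,
      hA hq hw he (by rw [hP.cj_eq_shift hd ha hda hq hu hqu hf]; exact hP.shift_mem hd ha hda hu hw hf (hX hw)),
      hP.cj_eq_shift hd ha hda hq hu hqu hf, hA hu hw hf (hX hw), (hσ _ hw).1, zero_add, add_comm]
  -- parity
  have hshape : ∀ p q, ∃ b : Bool, p ∈ R → q ∈ R → ¬ Commute p q → ∀ t, A p q t = A p q 1 * Four.fr b t := by
    intro p q
    by_cases h : p ∈ R ∧ q ∈ R ∧ ¬ Commute p q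
    · obtain ⟨hp, hq, hpq⟩ := h
      obtain ⟨b, hb⟩ := Four.shape hF (f := A p q)
        (Function.LeftInverse.injective (hback hp hq hpq)) (hA0 hp hq)
      exact ⟨b, fun _ _ _ => hb⟩
    · exact ⟨false, fun h1 h2 h3 => absurd ⟨h1, h2, h3⟩ h⟩
  choose π hπ using hshape
  have hne1 : ∀ {p q}, p ∈ R → q ∈ R → ¬ Commute p q → A p q 1 ≠ 0 := fun {p q} hp hq hpq h => by
    have := hback hp hq hpq 1
    rw [h, hA0 hq hp] at this
    exact zero_ne_one this
  have hcomp : ∀ {p q r}, p ∈ R → q ∈ R → r ∈ R → ¬ Commute q p → ¬ Commute r q → ∀ t,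
      A q p (A r q t) = A q p 1 * Four.fr (π q p) (A r q 1) * Four.fr (π q p ^^ π r q) t := by
    intro p q r hp hq hr hqp hrq t
    rw [hπ r q hr hq hrq t, hπ q p hq hp hqp, Four.fr_mul, Four.fr_fr hF, mul_assoc]
  have hsymm : ∀ p ∈ R, ∀ q ∈ R, ¬ Commute p q → π p q = π q p := by
    intro p hp q hq hpq
    have hqp : ¬ Commute q p := fun h => hpq h.symm
    have h1 := fun t => (hcomp hp hq hp hqp hpq t).symm.trans (hback hp hq hpq t)
    have hc : A q p 1 * Four.fr (π q p) (A p q 1) = 1 := by
      have := h1 1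
      rwa [Four.fr_one, mul_one] at this
    have h2 : ∀ t : F, Four.fr (π q p ^^ π p q) t = Four.fr false t := fun t => by
      have := h1 t
      rw [hc, one_mul] at this
      exact this
    have := Four.fr_inj hF h2
    revert this
    cases π p q <;> cases π q p <;> simp
  have htri : ∀ r ∈ R, ∀ q ∈ R, ∀ p ∈ R, ¬ Commute r q → ¬ Commute q p → ¬ Commute r p →
      (π r q ^^ π q p) = π r p := by
    intro r hr q hq p hp hrq hqp hrp
    by_contra hne
    set u := q * p * q with hu
    have huR : u ∈ R := hP.res_cj hd ha hda hq hp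
    have hpu : ¬ Commute p u := third_not_commute_right hP.closed hq.1 hp.1 hqp
    have hqu : ∀ t, A q u t = A p u (A q p t) := fun t => by
      have h := hrow hq hq hp hqp t
      rwa [hAcom hq hq (Commute.refl q), hA0 hq huR, zero_add] at h
    have hru : ∀ t, A r u t = A p u (A q p (A r q t)) + A p u (A r p t) := fun t => by
      rw [← hqu]; exact hrow hr hq hp hqp t
    have hne0 : A q p 1 * Four.fr (π q p) (A r q 1) ≠ 0 := fun h => by
      have h' := hcomp hp hq hr hqp hrq 1
      rw [h, zero_mul] at h'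
      have h1 := hback hq hp hqp (A r q 1)
      rw [h', hA0 hp hq] at h1
      exact hne1 hr hq hrq h1.symm
    obtain ⟨t, ht, hagree⟩ := Four.exists_agree hF
      (b := π q p ^^ π r q) (b' := π r p)
      (fun h => hne (by rw [Bool.xor_comm]; exact h)) hne0 (hne1 hr hp hrp)
    rw [← hcomp hp hq hr hqp hrq, ← hπ r p hr hp hrp] at hagree
    have hz : A r u t = 0 := by rw [hru, hagree, Four.add_self hF]
    have hruc : Commute r u := by
      by_contra h
      have := hback hr huR h t
      rw [hz, hA0 huR hr] at this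
      exact ht this.symm
    refine hne ?_
    have hall : ∀ s, A q p (A r q s) = A r p s := fun s => by
      have h0 := hAcom hr huR hruc s
      rw [hru] at h0
      have h1 : A p u (A q p (A r q s)) = A p u (A r p s) := by
        linear_combination h0 - A p u (A r p s) * Four.two_eq_zero hF
      exact Function.LeftInverse.injective (hback hp huR hpu) h1
    have hc : A q p 1 * Four.fr (π q p) (A r q 1) = A r p 1 := by
      have := (hcomp hp hq hr hqp hrq 1).symm.trans (hall 1)
      rwa [Four.fr_one, mul_one] at this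
    rw [Bool.xor_comm]
    refine Four.fr_inj hF fun s => ?_
    have := (hcomp hp hq hr hqp hrq s).symm.trans ((hall s).trans (hπ r p hr hp hrp s))
    rw [hc] at this
    exact mul_left_cancel₀ (hne1 hr hp hrp) this
  -- signs
  by_cases hR : ∃ o, o ∈ R
  swap
  · refine ⟨0, 0, ?_⟩
    constructor <;> intro p hp <;> exact absurd ⟨p, hp⟩ hR
  obtain ⟨o, ho⟩ := hR
  have hmid : ∀ p, ∃ m, p ∈ R → m ∈ R ∧ ¬ Commute o m ∧ ¬ Commute m p := by
    intro p
    by_cases hp : p ∈ R
    · obtain ⟨m, hm, h1, h2⟩ := hP.exists_far_both hd ha hda ho hp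
      exact ⟨m, fun _ => ⟨hm, h1, h2⟩⟩
    · exact ⟨p, fun h => absurd h hp⟩
  choose mid hmid using hmid
  let ε : G → Bool := fun p => π o (mid p) ^^ π (mid p) p
  have hε : ∀ {p q}, p ∈ R → q ∈ R → ¬ Commute p q → (ε q ^^ π p q) = ε p := by
    intro p q hp hq hpq
    obtain ⟨hm, hom, hmp⟩ := hmid p hp
    obtain ⟨hn, hon, hnq⟩ := hmid q hq
    have h := parity_five (fun _ h _ h' => hP.res_cj hd ha hda h h') (fun _ h => hP.sq h.1)
      (fun _ h _ h' hc => hP.braid h.1 h'.1 hc) π htri hsymm ho hm hp hq hn hom hmp hpq hon hnq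
    simp only [ε, ← h, Bool.xor_assoc, Bool.xor_self, Bool.xor_false]
  let M : G → G → F := fun q p => Four.fr (ε q) (A p q 1)
  refine ⟨fun p x => Four.fr (ε p) (σ p x), M, ?_, ?_, ?_, ?_, ?_⟩
  · intro p hp
    show Four.fr (ε p) (σ p p) = 0
    rw [(hσ p hp).1, Four.fr_zero]
  · intro p hp
    have hb : Function.Bijective (Four.fr (F := F) (ε p)) :=
      Function.Involutive.bijective (Four.fr_self hF (ε p))
    exact (Set.bijOn_univ.2 hb).comp (hσ p hp).2
  · intro p hp q hq
    constructor
    · intro h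
      by_contra hpq
      have h' := congrArg (Four.fr (ε p)) h
      rw [Four.fr_self hF, Four.fr_zero] at h'
      exact hne1 hq hp (fun hc => hpq hc.symm) h'
    · intro h
      show Four.fr (ε p) (A q p 1) = 0
      rw [hAcom hq hp h.symm, Four.fr_zero]
  · intro p hp q hq
    show Four.fr (ε q) (A p q 1) = Four.fr (ε p) (A q p 1) ^ 2
    by_cases hpq : Commute p q
    · rw [hAcom hp hq hpq, hAcom hq hp hpq.symm, Four.fr_zero, Four.fr_zero]; ring
    have hqp : ¬ Commute q p := fun h => hpq h.symm
    have h1 := hcomp hp hq hp hqp hpq 1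
    rw [Four.fr_one, mul_one, hback hp hq hpq] at h1
    have h2 := congrArg (Four.fr (ε p)) h1
    rw [Four.fr_one, Four.fr_mul, Four.fr_fr hF,
      show (ε p ^^ π q p) = ε q from hε hq hp hqp] at h2
    have hx0 : Four.fr (ε p) (A q p 1) ≠ 0 := fun h => hne1 hq hp hqp (by
      have := congrArg (Four.fr (ε p)) h
      rwa [Four.fr_self hF, Four.fr_zero] at this)
    have h3 := Four.cube hF hx0
    linear_combination -(Four.fr (ε q) (A p q 1)) * h3 - (Four.fr (ε p) (A q p 1)) ^ 2 * h2
  · intro p hp q hq b hb x hx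
    show Four.fr (ε q) (σ q (shift b p x)) = Four.fr (ε q) (σ q x) + Four.fr (ε p) (σ p b) * Four.fr (ε q) (A p q 1)
    rw [hA hp hq hb hx, Four.fr_add hF]
    congr 1
    by_cases hpq : Commute p q
    · rw [hAcom hp hq hpq, hAcom hp hq hpq, Four.fr_zero, mul_zero]
    · rw [hπ p q hp hq hpq, Four.fr_mul, Four.fr_fr hF, hε hp hq hpq, mul_comm]

namespace Coord

variable {d a : G} {τ M : G → G → F}

/-- Coordinates on the third line. -/
theorem third [Finite G] (hc : Coord D d a τ M) (hP : Polar D 4) (hd : d ∈ D) (ha : a ∈ D)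
    (hda : ¬ Commute d a) {q u e f : G} (hq : q ∈ perp2 D d a) (hu : u ∈ perp2 D d a)
    (hqu : ¬ Commute q u) (he : e ∈ X D d q) (hf : f ∈ X D d u) :
    τ (q * u * q) (e * f * e) = M (q * u * q) q * τ q e + M (q * u * q) u * τ u f := by
  have hw := hP.res_cj hd ha hda hq hu
  have hwX := mem_X_self hw.1 (hP.res_facts ha hda hw).2.1
  have hg : q * f * q ∈ X D d (q * u * q) := by
    rw [hP.cj_eq_shift hd ha hda hq hu hqu hf]; exact hP.shift_mem hd ha hda hu hw hf hwX
  rw [hP.third_eq_shift ha hda (f := f) hq, hc.shift q hq _ hw e he _ hg,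
    hP.cj_eq_shift hd ha hda hq hu hqu hf, hc.shift u hu _ hw f hf _ hwX, hc.zero _ hw]
  ring

/-- The rows of the matrix satisfy the relation of the lines of the residue. -/
theorem row [Finite G] (hc : Coord D d a τ M) (hP : Polar D 4) (hd : d ∈ D) (ha : a ∈ D)
    (hda : ¬ Commute d a) {q u v : G} (hq : q ∈ perp2 D d a) (hu : u ∈ perp2 D d a)
    (hqu : ¬ Commute q u) (hv : v ∈ perp2 D d a) :
    M (q * u * q) v = M (q * u * q) q * M q v + M (q * u * q) u * M u v := by
  have hw := hP.res_cj hd ha hda hq hu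
  have hX : ∀ {p}, p ∈ perp2 D d a → p ∈ X D d p := fun {p} hp =>
    mem_X_self hp.1 (hP.res_facts ha hda hp).2.1
  obtain ⟨b, hb, hb1⟩ := (hc.bij v hv).surjOn (Set.mem_univ (1 : F))
  have h := hc.third hP hd ha hda hq hu hqu (hP.shift_mem hd ha hda hv hq hb (hX hq))
    (hP.shift_mem hd ha hda hv hu hb (hX hu))
  rwa [← hP.conj_third ha hda hv hb.1.1, hc.shift v hv _ hw b hb _ (hX hw), hc.zero _ hw, hb1,
    hc.shift v hv q hq b hb q (hX hq), hc.zero q hq, hc.shift v hv u hu b hb u (hX hu), hc.zero u hu, hb1,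
    zero_add, zero_add, zero_add, one_mul, one_mul, one_mul] at h

end Coord

end Cfsg.Agent.Lib.FischerUnit14
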