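import Cfsg.Agent.Lib.FischerUnit14.CoordDefs
import Cfsg.Agent.Lib.UnitaryFour.Transvection

/-!
# Realising Hermitian matrices over four elements, and hyperbolic coordinates

A Hermitian matrix is the Gram matrix of a spanning family: a vector of norm one is split off until the
matrix is zero. Also the elementary rules for `hv`.
-/

set_option autoImplicit false

namespace Cfsg.Agent.Lib.FischerUnit14

open Cfsg Cfsg.Agent.Lib.Unitary Cfsg.Agent.Lib.UnitaryFour.Transvection

universe u v

variable {F : Type v} [Field F] [Fintype F]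

private theorem gram_step {ι : Type u} [Fintype ι] (hF : Fintype.card F = 2 ^ 2) :
    ∀ (N : ℕ) (M : ι → ι → F), Nat.card {x : ι → F // ∃ b, ∑ a, x a * M a b ≠ 0} ≤ N →
      (∀ a b, M b a = M a b ^ 2) → ∃ k, ∃ Φ : ι → Fin k → F,
        (∀ a b, hermForm k F 2 (Φ a) (Φ b) = M a b) ∧ Submodule.span F (Set.range Φ) = ⊤ := by
  classical
  intro N
  induction N with
  | zero =>
    intro M hN _
    refine ⟨0, fun _ _ => 0, fun a b => ?_, Subsingleton.elim _ _⟩
    have h0 : ∀ (x : ι → F) (b : ι), ∑ a, x a * M a b = 0 := fun x b => by_contra fun hne => by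
      have : 0 < Nat.card {x : ι → F // ∃ b, ∑ a, x a * M a b ≠ 0} := by
        have : Nonempty {x : ι → F // ∃ b, ∑ a, x a * M a b ≠ 0} := ⟨⟨x, b, hne⟩⟩
        exact Nat.card_pos
      omega
    have := h0 (Pi.single a 1) b
    simpa [hermForm, Pi.single_apply] using this.symm
  | succ N ih =>
    intro M hN hM
    by_cases hzero : ∀ a b, M a b = 0
    · exact ⟨0, fun _ _ => 0, fun a b => by simp [hermForm, hzero], Subsingleton.elim _ _⟩
    obtain ⟨a₀, b₀, hab⟩ : ∃ a b, M a b ≠ 0 := by simpa using hzero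
    -- a vector of norm one for the form of `M`
    let H : (ι → F) → (ι → F) → F := fun x y => ∑ b, (∑ a, x a * M a b) * y b ^ 2
    have hpow : ∀ (s : Finset ι) (f : ι → F), (∑ i ∈ s, f i) ^ 2 = ∑ i ∈ s, f i ^ 2 :=
      fun s f => sum_pow_q hF s f
    have hHconj : ∀ x y, H x y ^ 2 = H y x := by
      intro x y
      simp only [H, hpow, mul_pow, pow_q_q hF, Finset.sum_mul]
      rw [Finset.sum_comm]
      exact Finset.sum_congr rfl fun a _ => Finset.sum_congr rfl fun b _ => by rw [← hM a b]; ring
    have hHsingle : ∀ a b (c d : F), H (Pi.single a c) (Pi.single b d) = c * M a b * d ^ 2 := by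
      intro a b c d
      simp [H, Pi.single_apply, ite_pow, zero_pow]
    have hHadd : ∀ x y z, H (x + y) z = H x z + H y z ∧ H z (x + y) = H z x + H z y := by
      intro x y z
      simp [H, add_mul, mul_add, Finset.sum_add_distrib, add_pow_q hF]
    obtain ⟨v, hv1⟩ : ∃ v, H v v = 1 := by
      obtain ⟨v, hv⟩ : ∃ v, H v v ≠ 0 := by
        by_contra hno
        push Not at hno
        refine hab (eq_zero_of_trace_mul_eq_zero hF fun c => ?_)
        have h1 := hno (Pi.single a₀ c + Pi.single b₀ 1)
        rw [(hHadd _ _ _).1, (hHadd _ _ _).2, (hHadd _ _ _).2, hno, hno, hHsingle, hHsingle, hM a₀ b₀]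
          at h1
        linear_combination h1
      refine ⟨v, ?_⟩
      have h1 : H v v * (H v v - 1) = 0 := by linear_combination hHconj v v
      exact sub_eq_zero.1 ((mul_eq_zero.1 h1).resolve_left hv)
    obtain ⟨r, hr⟩ : ∃ r : ι → F, ∀ a, r a = ∑ b, M a b * v b ^ 2 := ⟨_, fun _ => rfl⟩
    have hrv : ∑ a, v a * r a = 1 := by
      rw [← hv1]
      simp only [H, hr, Finset.mul_sum, Finset.sum_mul]
      rw [Finset.sum_comm]
      exact Finset.sum_congr rfl fun a _ => Finset.sum_congr rfl fun b _ => by ring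
    have hrconj : ∀ b, ∑ a, v a * M a b = r b ^ 2 := by
      intro b
      rw [hr, hpow]
      exact Finset.sum_congr rfl fun a _ => by rw [mul_pow, pow_q_q hF, ← hM b a, mul_comm]
    let M' : ι → ι → F := fun a b => M a b - r a * r b ^ 2
    have hM' : ∀ a b, M' b a = M' a b ^ 2 := by
      intro a b
      simp only [M', sub_pow_q hF, mul_pow, pow_q_q hF, ← hM a b]
      ring
    have hrad : ∀ (x : ι → F) b, ∑ a, x a * M' a b = ∑ a, x a * M a b - (∑ a, x a * r a) * r b ^ 2 := by
      intro x b
      simp only [M', mul_sub, Finset.sum_sub_distrib, Finset.sum_mul, mul_assoc]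
    have hv' : ∀ b, ∑ a, v a * M' a b = 0 := fun b => by rw [hrad, hrv, one_mul, hrconj, sub_self]
    obtain ⟨k, Φ, hΦ, hspan⟩ := ih M' (by
      have : Fintype {x : ι → F // ∃ b, ∑ a, x a * M a b ≠ 0} := Fintype.ofFinite _
      have : Fintype {x : ι → F // ∃ b, ∑ a, x a * M' a b ≠ 0} := Fintype.ofFinite _
      rw [Nat.card_eq_fintype_card] at hN ⊢
      have hsub : ∀ x : ι → F, (∃ b, ∑ a, x a * M' a b ≠ 0) → ∃ b, ∑ a, x a * M a b ≠ 0 := by
        rintro x ⟨b, hb⟩
        by_contra hno
        push Not at hno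
        refine hb ?_
        have hx : ∑ a, x a * r a = 0 := by
          simp only [hr, Finset.mul_sum]
          rw [Finset.sum_comm]
          refine Finset.sum_eq_zero fun b _ => ?_
          rw [← zero_mul (v b ^ 2), ← hno b, Finset.sum_mul]
          exact Finset.sum_congr rfl fun a _ => by ring
        rw [hrad, hx, hno, zero_mul, sub_zero]
      have hlt := Fintype.card_lt_of_injective_not_surjective
        (fun x : {x : ι → F // ∃ b, ∑ a, x a * M' a b ≠ 0} =>
          (⟨x.1, hsub x.1 x.2⟩ : {x : ι → F // ∃ b, ∑ a, x a * M a b ≠ 0}))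
        (fun x y e => Subtype.ext (congrArg Subtype.val e :)) fun hsurj => by
          have hvin : ∃ b, ∑ a, v a * M a b ≠ 0 := by
            by_contra hno
            push Not at hno
            simp [H, hno] at hv1
          obtain ⟨⟨x, b, hb⟩, hx⟩ := hsurj ⟨v, hvin⟩
          refine hb ?_
          rw [show x = v from congrArg Subtype.val hx]
          exact hv' b
      omega) hM'
    refine ⟨k + 1, fun a => Fin.cons (r a) (Φ a), fun a b => ?_, ?_⟩
    · rw [hermForm, Fin.sum_univ_succ]
      simp only [Fin.cons_zero, Fin.cons_succ]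
      rw [show (∑ i : Fin k, Φ a i * Φ b i ^ 2) = M' a b from hΦ a b]
      simp only [M']
      ring
    · obtain ⟨S, hS⟩ : ∃ S, S = Submodule.span F (Set.range fun a => (Fin.cons (r a) (Φ a) : Fin (k + 1) → F)) :=
        ⟨_, rfl⟩
      rw [← hS]
      have hΦS : ∀ a, (Fin.cons (r a) (Φ a) : Fin (k + 1) → F) ∈ S :=
        fun a => hS ▸ Submodule.subset_span ⟨a, rfl⟩
      have hψ : ∑ a, v a • Φ a = 0 := by
        refine herm_nondeg_left hF fun y => ?_
        have hy : y ∈ Submodule.span F (Set.range Φ) := hspan ▸ Submodule.mem_top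
        induction hy using Submodule.span_induction with
        | mem y hy =>
          obtain ⟨b, rfl⟩ := hy
          rw [herm_sum_left]
          simp only [herm_smul_left, hΦ]
          exact hv' b
        | zero => exact herm_zero_right _ hF
        | add y z _ _ h1 h2 => rw [herm_add_right _ _ _ hF, h1, h2, add_zero]
        | smul c y _ h1 => rw [herm_smul_right, h1, mul_zero]
      have he : (Fin.cons 1 0 : Fin (k + 1) → F) ∈ S := by
        have : (Fin.cons 1 0 : Fin (k + 1) → F) = ∑ a, v a • (Fin.cons (r a) (Φ a) : Fin (k + 1) → F) := by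
          funext i
          refine Fin.cases ?_ (fun j => ?_) i
          · simpa using hrv.symm
          · simpa using (congrFun hψ j).symm
        rw [this]
        exact Submodule.sum_mem _ fun a _ => Submodule.smul_mem _ _ (hΦS a)
      let L : (Fin k → F) →ₗ[F] (Fin (k + 1) → F) :=
        { toFun := fun y => Fin.cons 0 y
          map_add' := fun y z => by funext i; refine Fin.cases ?_ (fun j => ?_) i <;> simp
          map_smul' := fun c y => by funext i; refine Fin.cases ?_ (fun j => ?_) i <;> simp }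
      have hL : ∀ y, L y ∈ S := by
        have : Submodule.span F (Set.range Φ) ≤ S.comap L := by
          rw [Submodule.span_le]
          rintro _ ⟨a, rfl⟩
          have e : L (Φ a) = (Fin.cons (r a) (Φ a) : Fin (k + 1) → F) - r a • Fin.cons 1 0 := by
            funext i
            refine Fin.cases ?_ (fun j => ?_) i <;> simp [L]
          show L (Φ a) ∈ S
          rw [e]
          exact Submodule.sub_mem _ (hΦS a) (Submodule.smul_mem _ _ he)
        intro y
        exact this (hspan ▸ Submodule.mem_top)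
      refine eq_top_iff.2 fun y _ => ?_
      have e : y = y 0 • (Fin.cons 1 0 : Fin (k + 1) → F) + L (Fin.tail y) := by
        funext i
        refine Fin.cases ?_ (fun j => ?_) i <;> simp [L, Fin.tail]
      rw [e]
      exact Submodule.add_mem _ (Submodule.smul_mem _ _ he) (hL _)

/-- A Hermitian matrix over four elements is the Gram matrix of a spanning family. -/
theorem gram_realise {ι : Type u} [Finite ι] (hF : Fintype.card F = 4) (M : ι → ι → F)
    (hM : ∀ a b, M b a = M a b ^ 2) :
    ∃ k, ∃ Φ : ι → Fin k → F, (∀ a b, hermForm k F 2 (Φ a) (Φ b) = M a b) ∧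
      Submodule.span F (Set.range Φ) = ⊤ :=
  have := Fintype.ofFinite ι
  gram_step (by rw [hF]; norm_num) _ M le_rfl hM

/-- A primitive cube root of unity. -/
theorem exists_cube_root (hF : Fintype.card F = 4) : ∃ ω : F, ω ^ 2 + ω + 1 = 0 := by
  obtain ⟨ω, -, -, h⟩ := exists_omega (show Fintype.card F = 2 ^ 2 by rw [hF]; norm_num)
  exact ⟨ω, h⟩

variable {k : ℕ} {ω : F}

/-- The form in hyperbolic coordinates. -/
theorem herm_hv (hF : Fintype.card F = 4) (hω : ω ^ 2 + ω + 1 = 0) (α β α' β' : F)
    (w w' : Fin k → F) :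
    hermForm (k + 2) F 2 (hv ω α β w) (hv ω α' β' w') =
      α * β' ^ 2 + β * α' ^ 2 + hermForm k F 2 w w' := by
  have h2 := two_eq_zero (show Fintype.card F = 2 ^ 2 by rw [hF]; norm_num)
  simp only [hermForm, hv, Fin.sum_univ_succ, Fin.cons_zero, Fin.cons_succ]
  generalize (∑ i : Fin k, w i * w' i ^ 2) = s
  have h3 : ω ^ 3 = 1 := by linear_combination (ω - 1) * hω
  linear_combination (α * α' ^ 2 + β * β' ^ 2) * h2 +
    (α * α' * β' * (ω + ω ^ 2) + β * α' * β' * (ω ^ 2 + ω ^ 4)) * h2 +
    α * β' ^ 2 * (ω * h3 + hω - h2) + β * α' ^ 2 * (hω - h2) +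
    β * β' ^ 2 * ((ω ^ 3 + 1) * h3 + h3)

/-- Every vector has hyperbolic coordinates. -/
theorem exists_hv (hF : Fintype.card F = 4) (hω : ω ^ 2 + ω + 1 = 0) (x : Fin (k + 2) → F) :
    ∃ α β w, hv ω α β w = x := by
  have h2 := two_eq_zero (show Fintype.card F = 2 ^ 2 by rw [hF]; norm_num)
  refine ⟨x 0 + (x 0 + x 1) * ω, x 0 + x 1, fun i => x i.succ.succ, funext fun i => ?_⟩
  refine Fin.cases ?_ (fun j => Fin.cases ?_ (fun l => ?_) j) i
  · simp only [hv, Fin.cons_zero]
    linear_combination (x 0 + x 1) * ω * h2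
  · simp only [hv, Fin.cons_zero, Fin.cons_succ]
    show _ = x 1
    linear_combination (x 0 + x 1) * hω - x 1 * h2 + (0 : F) * h2
  · simp [hv]

/-- Hyperbolic coordinates are unique. -/
theorem hv_inj (hF : Fintype.card F = 4) (hω : ω ^ 2 + ω + 1 = 0) {α β α' β' : F} {w w' : Fin k → F}
    (h : hv ω α β w = hv ω α' β' w') : α = α' ∧ β = β' ∧ w = w' := by
  have h2 := two_eq_zero (show Fintype.card F = 2 ^ 2 by rw [hF]; norm_num)
  simp only [hv] at h
  obtain ⟨h0, h'⟩ := Fin.cons_inj.1 h
  obtain ⟨h1, h3⟩ := Fin.cons_inj.1 h'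
  have hb : β = β' := by linear_combination (β - β') * hω - h0 - h1 + (α - α') * h2
  exact ⟨by subst hb; linear_combination h0, hb, h3⟩

omit [Fintype F] in
/-- `hv` is additive. -/
theorem hv_add (α β α' β' : F) (w w' : Fin k → F) :
    hv ω (α + α') (β + β') (w + w') = hv ω α β w + hv ω α' β' w' := by
  funext i
  refine Fin.cases ?_ (fun j => Fin.cases ?_ (fun l => ?_) j) i <;> simp [hv] <;> ring

omit [Fintype F] in
/-- `hv` is homogeneous. -/
theorem hv_smul (c α β : F) (w : Fin k → F) : hv ω (c * α) (c * β) (c • w) = c • hv ω α β w := by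
  funext i
  refine Fin.cases ?_ (fun j => Fin.cases ?_ (fun l => ?_) j) i <;> simp [hv] <;> ring

end Cfsg.Agent.Lib.FischerUnit14
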