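import Cfsg.Agent.Lib.FischerUnit14.Line
import Cfsg.Agent.Lib.UnitaryFour.Transvection

/-!
# A model from an equivariant map to isotropic vectors

A bijection of the members with the isotropic points which turns the generators fixing `d`, and `a`, into
transvections makes the class a model: the conjugators acting by isometries form a subgroup containing
generators, and every member is a conjugate of one of the given ones.
-/

set_option autoImplicit false

namespace Cfsg.Agent.Lib.FischerUnit14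

open Cfsg Cfsg.Agent.Lib.ThreeTranspositions Cfsg.Agent.Lib.Unitary
open Cfsg.Agent.Lib.UnitaryFour.Transvection

variable {G : Type*} [Group G] {D : Set G} {s : ℕ} {F : Type*} [Field F] [Fintype F]

omit [Fintype F] in
private theorem isoVec_smul {n : ℕ} {v : Fin n → F} (hv : IsoVec 2 v) {c : F} (hc : c ≠ 0) :
    IsoVec 2 (c • v) :=
  ⟨smul_ne_zero hc hv.1, by rw [herm_smul_left, herm_smul_right, hv.2, mul_zero, mul_zero]⟩

/-- A map of the members to isotropic vectors, bijective on points and equivariant for the members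
commuting with `d` and for `a`, gives a model. -/
theorem hasModel_of_vec [Finite G] (hP : Polar D s) (hF : Fintype.card F = 4) {n : ℕ} (φ : G → Fin n → F)
    {d a : G} (hd : d ∈ D) (ha : a ∈ D) (hda : ¬ Commute d a) (hiso : ∀ x ∈ D, IsoVec 2 (φ x))
    (hinj : ∀ x ∈ D, ∀ y ∈ D, ∀ c : F, c ≠ 0 → φ y = c • φ x → x = y)
    (hsurj : ∀ v : Fin n → F, IsoVec 2 v → ∃ x ∈ D, ∃ c : F, c ≠ 0 ∧ v = c • φ x)
    (hequiv : ∀ u ∈ D, (u = a ∨ Commute u d) → ∀ x ∈ D, ∃ c : F, c ≠ 0 ∧
      φ (u * x * u) = c • (φ x + hermForm n F 2 (φ x) (φ u) • φ u)) :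
    HasModel F D n := by
  classical
  have hF' : Fintype.card F = 2 ^ 2 := by rw [hF]; norm_num
  -- the conjugators acting on the points by isometries
  let K : Subgroup G :=
    { carrier := {g | ∃ A : SU n F 2, ∀ x ∈ D, ∃ c : F, c ≠ 0 ∧ φ (g * x * g⁻¹) = c • act A (φ x)}
      one_mem' := ⟨1, fun x _ => ⟨1, one_ne_zero, by rw [act_one, one_smul, one_mul, inv_one, mul_one]⟩⟩
      mul_mem' := by
        rintro g h ⟨A, hA⟩ ⟨B, hB⟩
        refine ⟨A * B, fun x hx => ?_⟩
        obtain ⟨c, hc, e⟩ := hA _ (hP.conj_mem h hx)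
        obtain ⟨c', hc', e'⟩ := hB x hx
        refine ⟨c * c', mul_ne_zero hc hc', ?_⟩
        rw [show g * h * x * (g * h)⁻¹ = g * (h * x * h⁻¹) * g⁻¹ by group, e, e', act_smul, act_mul,
          smul_smul]
      inv_mem' := by
        rintro g ⟨A, hA⟩
        refine ⟨A⁻¹, fun x hx => ?_⟩
        obtain ⟨c, hc, e⟩ := hA _ (hP.conj_mem g⁻¹ hx)
        rw [show g * (g⁻¹ * x * g⁻¹⁻¹) * g⁻¹ = x by group] at e
        refine ⟨c⁻¹, inv_ne_zero hc, ?_⟩
        rw [e, act_smul, act_inv_self, smul_smul, inv_mul_cancel₀ hc, one_smul] }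
  have hgenK : ∀ u ∈ D, (u = a ∨ Commute u d) → u ∈ K := fun u hu hu' =>
    ⟨tv hF' (φ u) (hiso u hu).2, fun x hx => by
      obtain ⟨c, hc, e⟩ := hequiv u hu hu' x hx
      exact ⟨c, hc, by rw [hP.inv hu, e, act_tv]⟩⟩
  have hC : Subgroup.closure {x | x ∈ D ∧ Commute x d} ≤ K :=
    (Subgroup.closure_le K).2 fun u hu => hgenK u hu.1 (Or.inr hu.2)
  -- every member acts as the transvection at its vector
  have hall : ∀ u ∈ D, ∀ x ∈ D, ∃ c : F, c ≠ 0 ∧
      φ (u * x * u) = c • (φ x + hermForm n F 2 (φ x) (φ u) • φ u) := by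
    intro u hu x hx
    by_cases hud : Commute u d
    · exact hequiv u hu (Or.inr hud) x hx
    obtain ⟨g, hg, hgu⟩ := hP.trans d hd a ha u hu hda fun h => hud h.symm
    obtain ⟨A, hA⟩ := hC hg
    obtain ⟨x', hx', rfl⟩ : ∃ x' ∈ D, g * x' * g⁻¹ = x :=
      ⟨g⁻¹ * x * g⁻¹⁻¹, hP.conj_mem _ hx, by group⟩
    obtain ⟨c₁, hc₁, e₁⟩ := hA _ (hP.cj_mem ha hx')
    obtain ⟨c₂, hc₂, e₂⟩ := hequiv a ha (Or.inl rfl) x' hx'
    obtain ⟨c₃, hc₃, e₃⟩ := hA x' hx'
    obtain ⟨c₄, hc₄, e₄⟩ := hA a ha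
    rw [hgu] at e₄
    refine ⟨c₁ * c₂ * c₃⁻¹, mul_ne_zero (mul_ne_zero hc₁ hc₂) (inv_ne_zero hc₃), ?_⟩
    rw [show u * (g * x' * g⁻¹) * u = g * (a * x' * a) * g⁻¹ by rw [← hgu]; group, e₁, e₂, e₃, e₄,
      herm_smul_left, herm_smul_right, act_herm, act_smul, act_add, act_smul]
    simp only [smul_add, smul_smul]
    congr 2
    · field_simp
    · field_simp
      linear_combination (hermForm n F 2 (φ x') (φ a)) * (cube_eq_one hF' hc₄).symm
  -- the map on vectors
  have hex : ∀ v : Fin n → F, ∃ x ∈ D, IsoVec 2 v → ∃ c : F, c ≠ 0 ∧ v = c • φ x := by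
    intro v
    by_cases hv : IsoVec 2 v
    · obtain ⟨x, hx, h⟩ := hsurj v hv
      exact ⟨x, hx, fun _ => h⟩
    · exact ⟨d, hd, fun h => absurd h hv⟩
  choose f hfD hf using hex
  have hf_eq : ∀ x ∈ D, ∀ (c : F), c ≠ 0 → f (c • φ x) = x := by
    intro x hx c hc
    obtain ⟨c', hc', e⟩ := hf _ (isoVec_smul (hiso x hx) hc)
    refine hinj _ (hfD _) x hx (c⁻¹ * c') (mul_ne_zero (inv_ne_zero hc) hc') ?_
    rw [mul_smul, ← e, smul_smul, inv_mul_cancel₀ hc, one_smul]
  have hcomm : ∀ x ∈ D, ∀ y ∈ D, (Commute x y ↔ hermForm n F 2 (φ x) (φ y) = 0) := by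
    intro x hx y hy
    obtain ⟨c, hc, e⟩ := hall y hy x hx
    constructor
    · intro h
      rw [show y * x * y = x by rw [h.symm.eq, mul_assoc, hP.sq hy, mul_one]] at e
      by_contra h0
      have hne : c * hermForm n F 2 (φ x) (φ y) ≠ 0 := mul_ne_zero hc h0
      have e' : φ y = ((c * hermForm n F 2 (φ x) (φ y))⁻¹ * (1 - c)) • φ x := by
        rw [mul_smul, sub_smul, one_smul]
        nth_rewrite 2 [e]
        rw [smul_add, add_sub_cancel_left, smul_smul c, smul_smul, inv_mul_cancel₀ hne, one_smul]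
      by_cases hz : (c * hermForm n F 2 (φ x) (φ y))⁻¹ * (1 - c) = 0
      · exact (hiso y hy).1 (by rw [e', hz, zero_smul])
      · have hxy := hinj x hx y hy _ hz e'
        exact h0 (hxy ▸ (hiso x hx).2)
    · intro h
      rw [h, zero_smul, add_zero] at e
      have h' := hinj x hx _ (hP.cj_mem hy hx) c hc e
      show x * y = y * x
      nth_rewrite 1 [h']
      rw [mul_assoc, hP.sq hy, mul_one]
  refine ⟨f, fun v _ => hfD v, fun x hx => ⟨φ x, hiso x hx, by simpa using hf_eq x hx 1 one_ne_zero⟩,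
    fun v w hv hw => ?_, fun v w hv hw => ?_, fun v w hv hw => ?_⟩
  all_goals
    obtain ⟨c, hc, ev⟩ := hf v hv
    obtain ⟨c', hc', ew⟩ := hf w hw
  · constructor
    · intro h
      refine ⟨c' * c⁻¹, mul_ne_zero hc' (inv_ne_zero hc), ?_⟩
      conv_rhs => rw [ev]
      rw [smul_smul, mul_assoc, inv_mul_cancel₀ hc, mul_one, h]
      exact ew
    · rintro ⟨k, hk, rfl⟩
      conv_rhs => rw [ev, smul_smul, hf_eq _ (hfD v) _ (mul_ne_zero hk hc)]
  · rw [hcomm _ (hfD v) _ (hfD w)]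
    conv_rhs => rw [ev, ew, herm_smul_left, herm_smul_right]
    simp [hc, hc']
  · obtain ⟨k, hk, e⟩ := hall _ (hfD v) _ (hfD w)
    have he : w + hermForm n F 2 w v • v = (c' * k⁻¹) • φ (f v * f w * f v) := by
      rw [e, smul_smul, mul_assoc, inv_mul_cancel₀ hk, mul_one, smul_add, smul_smul]
      nth_rewrite 1 2 [ew]
      nth_rewrite 1 2 [ev]
      rw [herm_smul_left, herm_smul_right, smul_smul]
      congr 2
      linear_combination (c' * hermForm n F 2 (φ (f w)) (φ (f v))) *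
        UnitaryFour.Transvection.cube_eq_one hF' hc
    rw [he, hf_eq _ (hP.cj_mem (hfD v) (hfD w)) _ (mul_ne_zero hc' (inv_ne_zero hk))]

end Cfsg.Agent.Lib.FischerUnit14
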