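import Cfsg.Agent.Lib.FischerUnit14.Polar

/-!
# Lines of three points leave no affine plane

For `d`, `x` not commuting with `z = d x d`, and `r` commuting with both, let `a` be the third point of the
line of `d` and `r`. The lines of `x`, `r` and of `z`, `r` are completed by `a z a` and `a x a`, so a member
not commuting with `r` commutes with `d`, `x` or `z`; a member commuting with the whole residue is moved to
such a member by `a`.

Owner: helper67.
-/

set_option autoImplicit false

namespace Cfsg.Agent.Lib.FischerUnit14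

open Cfsg Cfsg.Agent.Lib.ThreeTranspositions

universe u

variable {G : Type u} [Group G] [Finite G] {D : Set G}

namespace Polar

variable (hP : Polar D 2)
include hP

/-- A line has nothing but three distinct points of it. -/
theorem three_points {a b u v w x : G} (ha : a ∈ D) (hb : b ∈ D) (hne : a ≠ b) (hab : Commute a b)
    (hu : u ∈ lineC D a b) (hv : v ∈ lineC D a b) (hw : w ∈ lineC D a b) (huv : u ≠ v) (huw : u ≠ w)
    (hvw : v ≠ w) (hx : x ∈ lineC D a b) : x = u ∨ x = v ∨ x = w := by
  have h : ({u, v, w} : Set G) = lineC D a b := by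
    refine Set.eq_of_subset_of_ncard_le ?_ ?_ (Set.toFinite _)
    · rintro _ (rfl | rfl | rfl) <;> assumption
    · rw [hP.card_line a ha b hb hne hab,
        Set.ncard_eq_three.2 ⟨u, v, w, huv, huw, hvw, rfl⟩]
  rw [← h] at hx
  exact hx

/-- The third point of a line. -/
theorem exists_third {a b : G} (ha : a ∈ D) (hb : b ∈ D) (hne : a ≠ b) (hab : Commute a b) :
    ∃ c ∈ lineC D a b, c ≠ a ∧ c ≠ b := by
  by_contra hn
  push Not at hn
  have hsub : lineC D a b ⊆ {a, b} := fun c hc => by
    by_cases h : c = a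
    · exact Or.inl h
    · exact Or.inr (hn c hc h)
  have := Set.ncard_le_ncard hsub (Set.toFinite _)
  rw [hP.card_line a ha b hb hne hab, Set.ncard_pair hne] at this
  omega

omit [Finite G] in
/-- The lines of `x` and `d x d` with a residue point. -/
theorem residue_lines {d x r a : G} (hd : d ∈ D) (hx : x ∈ D) (hdx : ¬ Commute d x)
    (hr : r ∈ perp2 D d x) (ha : a ∈ lineC D d r) (had : a ≠ d) (har : a ≠ r) :
    (a * (d * x * d) * a ∈ lineC D x r ∧ a * (d * x * d) * a ≠ x ∧ a * (d * x * d) * a ≠ r) ∧
      (a * x * a ∈ lineC D (d * x * d) r ∧ a * x * a ≠ d * x * d ∧ a * x * a ≠ r) := by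
  have hdr : Commute d r := hr.2.1.symm
  have hrd : r ≠ d := by rintro rfl; exact hdx hr.2.2
  have hadc : Commute a d := line_commute_left hd hdr ha
  have hrl : r ∈ lineC D a d := by
    rw [lineC_comm, hP.line_eq_left hd hr.1 hrd.symm hdr ha had]; exact right_mem_line d hr.1
  have main : ∀ {w : G}, w ∈ D → ¬ Commute d w → Commute r w →
      a * (d * w * d) * a ∈ lineC D w r ∧ a * (d * w * d) * a ≠ w ∧ a * (d * w * d) * a ≠ r := by
    intro w hw hdw hrw
    have hwa : ¬ Commute w a := fun h => hdw (hP.line_all hd hr.1 hrd.symm hdr ha (right_mem_line d hr.1) har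
      (left_mem_line hd r) hw h hrw.symm).symm
    obtain ⟨-, -, hne, hl⟩ := hP.pair (o := r) hw ha.1 hd hadc had hwa (fun h => hdw h.symm)
    obtain ⟨h1, h2⟩ := hl hrl hrw
    rw [show a * (d * w * d) * a = a * d * w * d * a by group]
    exact ⟨h1, hne, h2⟩
  refine ⟨main hx hdx hr.2.2, ?_⟩
  have h := main (hP.cj_mem hd hx) (third_not_commute_left hP.closed hd hx hdx)
    ((hr.2.1.mul_right hr.2.2).mul_right hr.2.1)
  rwa [show d * (d * x * d) * d = (d * d) * x * (d * d) by group, hP.sq hd, one_mul, mul_one] at h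

/-- A member not commuting with a residue point is not apart from the triangle. -/
theorem not_apart {d x r y : G} (hd : d ∈ D) (hx : x ∈ D) (hdx : ¬ Commute d x) (hr : r ∈ perp2 D d x)
    (hy : y ∈ D) (hyr : ¬ Commute y r) : Commute y d ∨ Commute y x ∨ Commute y (d * x * d) := by
  by_contra hn
  push Not at hn
  obtain ⟨hyd, hyx, hyz⟩ := hn
  have hdr : Commute d r := hr.2.1.symm
  have hrd : r ≠ d := by rintro rfl; exact hdx hr.2.2
  obtain ⟨a, ha, had, har⟩ := hP.exists_third hd hr.1 hrd.symm hdr
  obtain ⟨⟨hb, hbx, hbr⟩, ⟨hc, hcz, hcr⟩⟩ := hP.residue_lines hd hx hdx hr ha had har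
  set z := d * x * d
  have hzD : z ∈ D := hP.cj_mem hd hx
  have hrx : r ≠ x := by rintro rfl; exact hdx hdr
  have hzr : Commute z r := ((hr.2.1.mul_right hr.2.2).mul_right hr.2.1).symm
  have hrz : r ≠ z := by
    intro h; exact third_not_commute_left hP.closed hd hx hdx (by rwa [h] at hdr)
  have pick : ∀ {p c : G}, p ∈ D → p ≠ r → Commute p r → c ∈ lineC D p r → c ≠ p → c ≠ r →
      ¬ Commute y p → Commute y c := by
    intro p c hp hpr hpc hc hcp hcr hyp
    obtain ⟨o, ho, hyo⟩ := hP.proj p hp r hr.1 hpr hpc y hy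
    rcases hP.three_points hp hr.1 hpr hpc (left_mem_line hp r) (right_mem_line p hr.1) hc hpr hcp.symm
      hcr.symm ho with rfl | rfl | rfl
    · exact absurd hyo hyp
    · exact absurd hyo hyr
    · exact hyo
  have hya : Commute y a := pick hd hrd.symm hdr ha had har hyd
  have hyb := pick hx hrx.symm hr.2.2.symm hb hbx hbr hyx
  refine hyz ?_
  have h := (hya.mul_right hyb).mul_right hya
  rwa [show a * (a * z * a) * a = (a * a) * z * (a * a) by group, hP.sq ha.1, one_mul, mul_one] at h

/-- Lines of three points leave no affine plane. -/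
theorem noPlane (hwall : ∀ d ∈ D, ∃ b ∈ D, b ≠ d ∧ Commute d b) :
    ∀ a ∈ D, ∀ b ∈ D, ∀ x ∈ D, ¬ Commute a b → Commute x a ∨ Commute x b ∨ Commute x (a * b * a) := by
  intro d hd x hx y hy hdx
  by_contra hn
  have hall : ∀ p ∈ perp2 D d x, Commute y p := fun p hp =>
    by_contra fun h => hn (hP.not_apart hd hx hdx hp hy h)
  push Not at hn
  obtain ⟨hyd, hyx, hyz⟩ := hn
  obtain ⟨b, hb, hbd, hdb⟩ := hwall d hd
  obtain ⟨r, hr, -, -⟩ := exists_residue_point hP.proj hd hx hdx hb hdb hbd
  obtain ⟨q, hq, hrq⟩ := residue_nondeg hP.line_eq hP.proj hP.subset_eq hd hx hdx hr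
  have hrD := hr.1
  have hqD := hq.1
  have hr2 : r ∈ perp2 D d x := hr
  have hdr : Commute d r := hr.2.1.symm
  have hrd : r ≠ d := by rintro rfl; exact hdx hr.2.2
  obtain ⟨a, ha, had, har⟩ := hP.exists_third hd hrD hrd.symm hdr
  obtain ⟨⟨hbl, hbx, hbr⟩, ⟨hcl, hcz, hcr⟩⟩ := hP.residue_lines hd hx hdx hr2 ha had har
  set z := d * x * d with hz
  have hzD : z ∈ D := hP.cj_mem hd hx
  have hadc : Commute a d := line_commute_left hd hdr ha
  have hyr : Commute y r := hall r hr2
  have hrx : r ≠ x := by rintro rfl; exact hdx hdr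
  have hzr : Commute z r := ((hr.2.1.mul_right hr.2.2).mul_right hr.2.1).symm
  have hrz : r ≠ z := by
    intro h; exact third_not_commute_left hP.closed hd hx hdx (by rwa [h] at hdr)
  have flip : ∀ {p w : G}, Commute (a * p * a) w → Commute p (a * w * a) := fun {p w} h => by
    have h' := (Commute.conj_iff a).2 h
    rwa [hP.inv ha.1, show a * (a * p * a) * a = (a * a) * p * (a * a) by group, hP.sq ha.1, one_mul,
      mul_one] at h'
  have hy'D := hP.cj_mem ha.1 hy
  have hy'q : ¬ Commute (a * y * a) q := by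
    intro h
    have hyq := flip h
    set q' := a * q * a
    have hq'D : q' ∈ D := hP.cj_mem ha.1 hqD
    have hdq' : Commute d q' := (hadc.symm.mul_right hq.2.1.symm).mul_right hadc.symm
    have hq'd : q' ≠ d := fun h => hyd (h ▸ hyq)
    obtain ⟨w, hw, hxw⟩ := hP.proj d hd q' hq'D hq'd.symm hdq' x hx
    have hyw : Commute y w := hall w ⟨hw.1, line_commute_left hd hdq' hw, hxw.symm⟩
    by_cases hwq : w = q'
    · subst hwq
      have hqc : Commute q (a * x * a) := by
        have h' := (Commute.conj_iff a).2 hxw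
        rw [hP.inv ha.1, show a * (a * q * a) * a = (a * a) * q * (a * a) by group, hP.sq ha.1, one_mul,
          mul_one] at h'
        exact h'.symm
      exact hrq (hP.line_all hzD hrD hrz.symm hzr (left_mem_line hzD r) hcl hcz.symm (right_mem_line z hrD) hqD
        ((hq.2.1.mul_right hq.2.2).mul_right hq.2.1) hqc).symm
    · exact hyd (hP.line_all hd hq'D hq'd.symm hdq' hw (right_mem_line d hq'D) hwq (left_mem_line hd q') hy
        hyw hyq)
  rcases hP.not_apart hd hx hdx hq hy'D hy'q with h | h | h
  · refine hyd ?_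
    have h' := flip h
    rwa [hadc.eq, mul_assoc, hP.sq ha.1, mul_one] at h'
  · exact hyz (hP.line_all hzD hrD hrz.symm hzr (right_mem_line z hrD) hcl hcr.symm (left_mem_line hzD r) hy
      hyr (flip h))
  · exact hyx (hP.line_all hx hrD hrx.symm hr.2.2.symm (right_mem_line x hrD) hbl hbr.symm (left_mem_line hx r)
      hy hyr (flip h))

end Polar

/-- The form of `FischerThm.NoPlane` for a primitive class. -/
theorem noPlane_of_polar_two (hP : FischerThm.Prim D) (hpol : Polar D 2) : FischerThm.NoPlane D := by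
  intro a ha b hb c hc hab hac hbc _
  rcases hpol.noPlane hP.wall a ha b hb c hc hab with h | h | h
  · exact absurd h.symm hac
  · exact absurd h.symm hbc
  · exact h

end Cfsg.Agent.Lib.FischerUnit14
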