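import Cfsg.Agent.Lib.FischerUnit14.Shift

/-!
# Lines have three or five points

The product of `add a d x e`, `x`, `e`, `q` carries `a` to `d a d`. For eight points besides `d` a shift would
move such a product to one fixing `a`, which is absurd.
-/

set_option autoImplicit false
set_option linter.unusedSectionVars false

namespace Cfsg.Agent.Lib.FischerUnit14

open Cfsg Cfsg.Agent.Lib.ThreeTranspositions

variable {G : Type*} [Group G] {D : Set G} {s : ℕ}

/-- The product of four translates is a product of four products through the origin. -/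
theorem quad_identity {p u v k w x y z : G} (hc : ([p, u, v, k, w, x, y, z] : List G).Pairwise Commute)
    (hsq : ∀ t ∈ ([p, u, v, k, w] : List G), t * t = 1) :
    k * u * v * p * (x * w * u * p) * (y * w * v * p) * (z * w * k * p) = z * x * y * w := by
  set f : Fin 8 → G := fun i => [p, u, v, k, w, x, y, z].get i with hf
  have hall : ∀ i j, Commute (f i) (f j) := fun i j => by
    rcases lt_trichotomy i j with h | rfl | h
    · exact List.pairwise_iff_get.1 hc i j h
    · exact Commute.refl _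
    · exact (List.pairwise_iff_get.1 hc j i h).symm
  have hperm : List.Perm ([3, 1, 2, 0, 5, 4, 1, 0, 6, 4, 2, 0, 7, 4, 3, 0] : List (Fin 8))
      [7, 5, 6, 4, 3, 3, 1, 1, 2, 2, 0, 0, 0, 0, 4, 4] := by decide
  have h := (hperm.map f).prod_eq' (List.pairwise_of_forall_mem_list fun a ha b hb => by
    obtain ⟨i, -, rfl⟩ := List.mem_map.1 ha
    obtain ⟨j, -, rfl⟩ := List.mem_map.1 hb
    exact hall i j)
  simp only [List.map_cons, List.map_nil, List.prod_cons, List.prod_nil, mul_one, hf] at h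
  change k * (u * (v * (p * (x * (w * (u * (p * (y * (w * (v * (p * (z * (w * (k * p)))))))))))))) =
    z * (x * (y * (w * (k * (k * (u * (u * (v * (v * (p * (p * (p * (p * (w * w)))))))))))))) at h
  simp only [← mul_assoc] at h ⊢
  rw [h]
  simp only [mul_assoc, hsq p (by simp), hsq u (by simp), hsq v (by simp), hsq k (by simp), hsq w (by simp),
    mul_one]

theorem conj_four {t₁ t₂ t₃ t₄ a d : G} (hd : d * d = 1) (h1 : t₁ * a * t₁⁻¹ = d * a * d)
    (h2 : t₂ * a * t₂⁻¹ = d * a * d) (h3 : t₃ * a * t₃⁻¹ = d * a * d) (h4 : t₄ * a * t₄⁻¹ = d * a * d)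
    (c1 : Commute t₁ d) (c2 : Commute t₂ d) (c3 : Commute t₃ d) :
    t₁ * t₂ * t₃ * t₄ * a * (t₁ * t₂ * t₃ * t₄)⁻¹ = a := by
  have hstep : ∀ {t : G}, Commute t d → t * a * t⁻¹ = d * a * d → t * (d * a * d) * t⁻¹ = a := by
    intro t ht h
    calc t * (d * a * d) * t⁻¹ = (t * d) * a * (d * t⁻¹) := by group
      _ = (d * t) * a * (t⁻¹ * d) := by rw [ht.eq, ht.inv_left.eq]
      _ = d * (t * a * t⁻¹) * d := by group
      _ = (d * d) * a * (d * d) := by rw [h]; group
      _ = a := by rw [hd, one_mul, mul_one]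
  calc t₁ * t₂ * t₃ * t₄ * a * (t₁ * t₂ * t₃ * t₄)⁻¹
      = t₁ * (t₂ * (t₃ * (t₄ * a * t₄⁻¹) * t₃⁻¹) * t₂⁻¹) * t₁⁻¹ := by group
    _ = a := by rw [h4, hstep c3 h3, h2, hstep c1 h1]

namespace Polar

variable (hP : Polar D s)
include hP

theorem line_inv₄ {c x e q : G} (hc : c ∈ D) (hx : x ∈ D) (he : e ∈ D) (hq : q ∈ D) :
    (c * x * e * q)⁻¹ = q * e * x * c := by
  rw [mul_inv_rev, mul_inv_rev, mul_inv_rev, hP.inv hc, hP.inv hx, hP.inv he, hP.inv hq]; group

theorem quad_conj {d a q x e : G} (hd : d ∈ D) (ha : a ∈ D) (hda : ¬ Commute d a) (hq : q ∈ perp2 D d a)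
    (hx : x ∈ X D d q) (he : e ∈ X D d q) (hxq : x ≠ q) (heq : e ≠ q) (hne : x ≠ e) :
    add a d x e * x * e * q * a * (add a d x e * x * e * q)⁻¹ = d * a * d := by
  obtain ⟨hqD, hqd, -, hdq, haq⟩ := hP.res_facts ha hda hq
  obtain ⟨hcX, -, -, -, hrel⟩ := hP.add_facts hd ha hda hq hx he hxq heq hne
  set c := add a d x e
  have hcd : Commute c d := line_commute_left hd hdq hcX.1
  have hqa : q * a * q = a := by rw [← haq.eq, mul_assoc, hP.sq hqD, mul_one]
  rw [hP.line_inv₄ hcX.1.1 hx.1.1 he.1.1 hqD,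
    show c * x * e * q * a * (q * e * x * c) = c * (x * e * (q * a * q) * e * x) * c by group, hqa, hrel]
  calc c * (d * c * a * c * d) * c = (c * d) * c * a * c * (d * c) := by group
    _ = (d * c) * c * a * c * (c * d) := by rw [hcd.eq]
    _ = d * (c * c) * a * (c * c) * d := by group
    _ = d * a * d := by rw [hP.sq hcX.1.1, mul_one, mul_one]

theorem exists_new [Finite G] {d q : G} (hd : d ∈ D) (hq : q ∈ D) (hne : d ≠ q) (hdq : Commute d q)
    (T : Finset G) (h : T.card < s) : ∃ x ∈ X D d q, x ∉ T := by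
  by_contra hall
  push Not at hall
  have := Set.ncard_le_ncard (t := (↑T : Set G)) hall T.finite_toSet
  rw [hP.card_X hd hq hne hdq, Set.ncard_coe_finset] at this
  omega

/-- There are at most five points on a line. -/
theorem s_le_four [Finite G] {d a p r : G} (hd : d ∈ D) (ha : a ∈ D) (hda : ¬ Commute d a)
    (hp : p ∈ perp2 D d a) (hr : r ∈ perp2 D d a) (hpr : ¬ Commute p r) : s ≤ 4 := by
  classical
  by_contra hs
  obtain ⟨hpD, hpd, -, hdp, hap⟩ := hP.res_facts ha hda hp
  obtain ⟨hrD, hrd, -, hdr, har⟩ := hP.res_facts ha hda hr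
  have hpX := mem_X_self hpD hpd
  obtain ⟨u, hu, hup⟩ := hP.exists_new hd hpD hpd.symm hdp {p} (by simp; omega)
  obtain ⟨v, hv, hvT⟩ := hP.exists_new hd hpD hpd.symm hdp {p, u}
    (lt_of_le_of_lt (Finset.card_insert_le _ _) (by simp; omega))
  simp only [Finset.mem_insert, Finset.mem_singleton, not_or] at hup hvT
  obtain ⟨hvp, hvu⟩ := hvT
  obtain ⟨hk, hkp, hku, hkv, -⟩ := hP.add_facts hd ha hda hp hu hv hup hvp (Ne.symm hvu)
  set k := add a d u v
  obtain ⟨w, hw, hwT⟩ := hP.exists_new hd hpD hpd.symm hdp {p, u, v, k}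
    (lt_of_le_of_lt ((Finset.card_insert_le _ _).trans (Nat.add_le_add_right ((Finset.card_insert_le _ _).trans
      (Nat.add_le_add_right (Finset.card_insert_le _ _) 1)) 1)) (by simp; omega))
  simp only [Finset.mem_insert, Finset.mem_singleton, not_or] at hwT
  obtain ⟨hwp, hwu, hwv, hwk⟩ := hwT
  obtain ⟨c, hc, hcw⟩ := hP.shift_surj hd ha hda hr hp (fun h => hpr h.symm) hpX hw
  have hrp : ¬ Commute r p := fun h => hpr h.symm
  have hcr : c ≠ r := fun e => hwp (by rw [← hcw, e, hP.shift_self hrD])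
  obtain ⟨hA, -, -, -, -⟩ := hP.add_facts hd ha hda hp hw hu hwp hup hwu
  obtain ⟨hB, -, -, -, -⟩ := hP.add_facts hd ha hda hp hw hv hwp hvp hwv
  obtain ⟨hC, -, -, -, -⟩ := hP.add_facts hd ha hda hp hw hk hwp hkp hwk
  have hsu : shift c r u = add a d w u := by
    rw [← hcw]; exact hP.shift_add hd ha hda hr hp hrp hc hcr hu hup (hcw ▸ Ne.symm hwu)
  have hsv : shift c r v = add a d w v := by
    rw [← hcw]; exact hP.shift_add hd ha hda hr hp hrp hc hcr hv hvp (hcw ▸ Ne.symm hwv)
  have hsk : shift c r k = add a d w k := by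
    rw [← hcw]; exact hP.shift_add hd ha hda hr hp hrp hc hcr hk hkp (hcw ▸ Ne.symm hwk)
  set g := c * r with hg
  set P := k * u * v * p with hPdef
  have hcomX : ∀ {x y}, x ∈ X D d p → y ∈ X D d p → Commute x y := fun hx hy => hP.X_commute hd hpD hdp hx hy
  have hdX : ∀ {x}, x ∈ X D d p → Commute x d := fun hx => line_commute_left hd hdp hx.1
  -- the translated product fixes `a`
  have himg : g * P * g⁻¹ = add a d w k * add a d w u * add a d w v * w := by
    rw [← hsk, ← hsu, ← hsv, ← hcw, hP.shift_eq_conj hc.1.1 hrD, hP.shift_eq_conj hc.1.1 hrD,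
      hP.shift_eq_conj hc.1.1 hrD, hP.shift_eq_conj hc.1.1 hrD, ← hg, hPdef]
    group
  have hfix : g * P * g⁻¹ * a * (g * P * g⁻¹)⁻¹ = a := by
    rw [himg, ← quad_identity (p := p) (u := u) (v := v) (k := k) (w := w)]
    · have hd4 : ∀ {x y z : G}, x ∈ X D d p → y ∈ X D d p → z ∈ X D d p →
          Commute (x * y * z * p) d := fun hx hy hz =>
        ((((hdX hx).mul_left (hdX hy)).mul_left (hdX hz)).mul_left hdp.symm)
      exact conj_four (hP.sq hd) (hP.quad_conj hd ha hda hp hu hv hup hvp (Ne.symm hvu))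
        (hP.quad_conj hd ha hda hp hw hu hwp hup hwu) (hP.quad_conj hd ha hda hp hw hv hwp hvp hwv)
        (hP.quad_conj hd ha hda hp hw hk hwp hkp hwk) (hd4 hk hu hv) (hd4 hA hw hu) (hd4 hB hw hv)
    · refine List.pairwise_of_forall_mem_list fun x hx y hy => ?_
      have hmem : ∀ t ∈ [p, u, v, k, w, add a d w u, add a d w v, add a d w k], t ∈ X D d p := by
        simp only [List.forall_mem_cons, List.not_mem_nil, false_implies, implies_true, and_true]
        exact ⟨hpX, hu, hv, hk, hw, hA, hB, hC⟩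
      exact hcomX (hmem x hx) (hmem y hy)
    · simp only [List.forall_mem_cons, List.not_mem_nil, false_implies, implies_true, and_true]
      exact ⟨hP.sq hpD, hP.sq hu.1.1, hP.sq hv.1.1, hP.sq hk.1.1, hP.sq hw.1.1⟩
  have hga : g * a * g⁻¹ = c * a * c := by
    rw [hg, hP.shift_inv hc.1.1 hrD,
      show c * r * a * (r * c) = c * (r * a * r) * c by group]
    rw [← har.eq, mul_assoc a r r, hP.sq hrD, mul_one]
  have hPa : P * a * P⁻¹ = d * a * d := hP.quad_conj hd ha hda hp hu hv hup hvp (Ne.symm hvu)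
  have hgg : g * g = 1 := hP.shift_sq hc.1.1 hrD (line_commute_right hrD hdr hc.1)
  have hgi : g⁻¹ = g := inv_eq_of_mul_eq_one_right hgg
  have hPd : Commute P d := (((hdX hk).mul_left (hdX hu)).mul_left (hdX hv)).mul_left hdp.symm
  set x := d * c * a * c * d with hx
  have hPca : P * (c * a * c) * P⁻¹ = c * a * c := by
    rw [← hga]
    calc P * (g * a * g⁻¹) * P⁻¹ = g * ((g⁻¹ * P * g) * a * (g⁻¹ * P * g)⁻¹) * g⁻¹ := by group
      _ = g * ((g * P * g⁻¹) * a * (g * P * g⁻¹)⁻¹) * g⁻¹ := by rw [hgi]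
      _ = g * a * g⁻¹ := by rw [hfix]
  have hPx : P * x * P⁻¹ = x := by
    rw [hx]
    calc P * (d * c * a * c * d) * P⁻¹ = (P * d) * (c * a * c) * (d * P⁻¹) := by group
      _ = (d * P) * (c * a * c) * (P⁻¹ * d) := by rw [hPd.eq, hPd.inv_left.eq]
      _ = d * (P * (c * a * c) * P⁻¹) * d := by group
      _ = _ := by rw [hPca]; group
  have hac : ¬ Commute a c := hP.not_commute_X hd ha hda hr hc hcr
  obtain ⟨hxa, himg', -, -⟩ :=
    hP.pair (o := r) ha hd hc.1.1 (line_commute_left hd hdr hc.1).symm hc.2.symm (fun h => hda h.symm) hac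
  -- `d P` fixes `a` and moves `x` to `d x d`
  have hxD : x ∈ D := by
    have h := hP.cj_mem (g := a * d * a) (hP.cj_mem ha hd) hc.1.1
    rw [himg'] at h
    exact h
  have hdxa : Commute (d * x * d) a := by
    have h := (Commute.conj_iff (d * P)).2 hxa
    have e1 : d * P * x * (d * P)⁻¹ = d * x * d := by
      calc d * P * x * (d * P)⁻¹ = d * (P * x * P⁻¹) * d⁻¹ := by group
        _ = _ := by rw [hPx, hP.inv hd]
    have e2 : d * P * a * (d * P)⁻¹ = a := by
      calc d * P * a * (d * P)⁻¹ = d * (P * a * P⁻¹) * d⁻¹ := by group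
        _ = (d * d) * a * (d * d) := by rw [hPa, hP.inv hd]; group
        _ = a := by rw [hP.sq hd, one_mul, mul_one]
    rwa [e1, e2] at h
  refine hda ?_
  by_cases hdx : Commute d x
  · exfalso
    have h := (Commute.conj_iff d).2 hdx
    rw [hP.inv hd, hP.sq hd, one_mul, hx,
      show d * (d * c * a * c * d) * d = (d * d) * (c * a * c) * (d * d) by group, hP.sq hd, one_mul,
      mul_one] at h
    have h2 := (Commute.conj_iff c).2 h
    rw [hP.inv hc.1.1, show c * (c * a * c) * c = (c * c) * a * (c * c) by group, hP.sq hc.1.1, one_mul,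
      mul_one, (line_commute_left hd hdr hc.1).eq, mul_assoc d c c, hP.sq hc.1.1, mul_one] at h2
    exact hda h2
  · have hxd : ¬ Commute x d := fun h => hdx h.symm
    have hd' : d = x * (d * x * d) * x := by
      rw [← hP.braid hxD hd hxd, show x * (x * d * x) * x = (x * x) * d * (x * x) by group, hP.sq hxD, one_mul,
        mul_one]
    rw [hd']
    exact (hxa.mul_left hdxa).mul_left hxa

end Polar

end Cfsg.Agent.Lib.FischerUnit14
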