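import Cfsg.Agent.Lib.FischerUnit14.Ctx
import Cfsg.Agent.Lib.FischerUnit14.Coord
import Cfsg.Agent.Lib.FischerUnit14.Gram
import Cfsg.Agent.Lib.FischerUnit14.Model
import Cfsg.Agent.Lib.FischerUnit14.Final
import Cfsg.Agent.Lib.FischerUnit14.NoPlane
import Cfsg.Agent.Lib.FischerUnit14.Quad
import Cfsg.Agent.Lib.FischerThm.Params
import Mathlib.FieldTheory.Finite.GaloisField

/-!
# Node C from an equivariant map to isotropic vectors

A non-central local 2-core gives the polar space, with lines of three or five points; three give no affine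
plane, five give coordinates and so, by an equivariant map to isotropic vectors, a unitary group.
-/

set_option autoImplicit false

namespace Cfsg.Agent.Lib.FischerUnit14

open Cfsg Cfsg.Agent.Lib.ThreeTranspositions Cfsg.Agent.Lib.Unitary
open scoped Classical

universe u

variable {G : Type u} [Group G] [Finite G] {D : Set G}

/-- The residue is spread over at least two dimensions. -/
theorem exists_ctx {F : Type*} [Field F] [Fintype F] (hF : Fintype.card F = 4) (hP : Polar D 4) {d a p r : G}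
    (hd : d ∈ D) (ha : a ∈ D) (hda : ¬ Commute d a) (hp : p ∈ perp2 D d a) (hr : r ∈ perp2 D d a)
    (hpr : ¬ Commute p r) :
    ∃ (τ M : G → G → F) (k : ℕ) (Φ : G → Fin k → F), Ctx D d a τ M Φ ∧ 2 ≤ k := by
  obtain ⟨τ, M, hc⟩ := exists_coord hF hP hd ha hda
  obtain ⟨k, Φ, hΦ, hspan⟩ := gram_realise hF (fun i j : perp2 D d a => M i j)
    fun i j => hc.M_conj i i.2 j j.2
  refine ⟨τ, M, k, fun g => if h : g ∈ perp2 D d a then Φ ⟨g, h⟩ else 0,
    ⟨hF, hP, hd, ha, hda, hc, fun q hq u hu hqu e he f hf => hc.third hP hd ha hda hq hu hqu he hf,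
      fun q hq u hu hqu v hv => hc.row hP hd ha hda hq hu hqu hv,
      fun p hp q hq => by simp only [dif_pos hp, dif_pos hq]; exact hΦ _ _, ?_⟩, ?_⟩
  · rw [← hspan]
    congr 1
    ext v
    constructor
    · rintro ⟨g, hg, rfl⟩
      exact ⟨⟨g, hg⟩, by simp only [dif_pos hg]⟩
    · rintro ⟨g, rfl⟩
      exact ⟨g, g.2, by simp only [dif_pos g.2]⟩
  · by_contra hk
    have h1 : M p r ≠ 0 := fun h => hpr ((hc.M_eq_zero p hp r hr).1 h)
    have h0 : M p p = 0 := (hc.M_eq_zero p hp p hp).2 (Commute.refl p)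
    rw [← hΦ ⟨p, hp⟩ ⟨r, hr⟩] at h1
    rw [← hΦ ⟨p, hp⟩ ⟨p, hp⟩] at h0
    rcases (by omega : k = 0 ∨ k = 1) with rfl | rfl
    · exact h1 (by simp [hermForm])
    · simp [hermForm] at h0 h1
      exact h1.1 h0

/-- Node C, given an equivariant map of the members to isotropic vectors. -/
theorem nodeC_of_vec
    (hvec : ∀ (G : Type u) [Group G] [Finite G] (F : Type) [Field F] [Fintype F] (D : Set G) (d a : G)
      (τ M : G → G → F) (k : ℕ) (Φ : G → Fin k → F), Ctx D d a τ M Φ → 2 ≤ k →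
      ∃ φ : G → Fin (k + 2) → F, (∀ x ∈ D, IsoVec 2 (φ x)) ∧
        (∀ x ∈ D, ∀ y ∈ D, ∀ c : F, c ≠ 0 → φ y = c • φ x → x = y) ∧
        (∀ v : Fin (k + 2) → F, IsoVec 2 v → ∃ x ∈ D, ∃ c : F, c ≠ 0 ∧ v = c • φ x) ∧
        (∀ u ∈ D, (u = a ∨ Commute u d) → ∀ x ∈ D, ∃ c : F, c ≠ 0 ∧
          φ (u * x * u) = c • (φ x + hermForm (k + 2) F 2 (φ x) (φ u) • φ u))) :
    FischerThm.NodeC.{u} := by
  intro G _ _ D _ hP hplane d hd h2
  obtain ⟨s, hpol⟩ := exists_polar hP hd h2
  obtain ⟨a, ha, hda⟩ : ∃ a ∈ D, ¬ Commute d a := by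
    by_contra hall
    push Not at hall
    have hmem : d ∈ Subgroup.center G := Subgroup.mem_center_iff.2 fun g => by
      have hg : g ∈ Subgroup.closure D := hpol.gen.ge (Subgroup.mem_top g)
      suffices Commute g d from this.eq
      induction hg using Subgroup.closure_induction with
      | mem x hx => exact (hall x hx).symm
      | one => exact Commute.one_left d
      | mul x y _ _ hx hy => exact hx.mul_left hy
      | inv x _ hx => exact hx.inv_left
    rw [hP.hZ, Subgroup.mem_bot] at hmem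
    have := hP.hD.1.1 d hd
    rw [hmem, orderOf_one] at this
    omega
  obtain ⟨b, hb, hbd, hdb⟩ := hP.wall d hd
  obtain ⟨p, hp, -⟩ := hpol.exists_res hd ha hda hb hdb.symm hbd
  obtain ⟨r, hr, hpr⟩ := hpol.res_nondeg hd ha hda hp
  have hle := hpol.s_le_four hd ha hda hp hr hpr
  obtain ⟨j, rfl⟩ := hpol.pow_two
  rcases Nat.lt_or_ge j 2 with hj | hj
  · have h := hpol.two_le
    interval_cases j
    · norm_num at h
    · exact absurd (noPlane_of_polar_two hP hpol) hplane
  have hj2 : j = 2 := by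
    by_contra hne
    have : 2 ^ 3 ≤ 2 ^ j := Nat.pow_le_pow_right (by norm_num) (by omega)
    omega
  subst hj2
  have : Fact (Nat.Prime 2) := ⟨Nat.prime_two⟩
  let F := GaloisField 2 2
  let : Fintype F := Fintype.ofFinite F
  have hF : Fintype.card F = 4 := by
    rw [← Nat.card_eq_fintype_card]
    exact GaloisField.card 2 2 (by norm_num)
  obtain ⟨τ, M, k, Φ, hS, hk⟩ := exists_ctx (F := F) hF hpol hd ha hda hp hr hpr
  obtain ⟨φ, hiso, hinj, hsurj, hequiv⟩ := hvec G F D d a τ M k Φ hS hk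
  exact ⟨k + 2, by omega, F, inferInstance, inferInstance, hF, psu_of_model hP.cls hP.hZ hF (by omega)
    (hasModel_of_vec hpol hF φ hd ha hda hiso hinj hsurj hequiv)⟩

end Cfsg.Agent.Lib.FischerUnit14
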