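import Cfsg.Agent.Lib.FischerUnit14.Shift

/-!
# Coordinates on the lines through a member

Every `X D d p` is identified with `F`, the zero being `p`; the shifts become translations with the coefficients
of a Hermitian matrix on the residue. Route: `notes/fischer_nodeC_helper67.md`.
-/

set_option autoImplicit false

namespace Cfsg.Agent.Lib.FischerUnit14

variable {G : Type*} [Group G] {F : Type*} [Field F] [Fintype F]

/-- The vector `α e + β f + w`, `e` and `f` being isotropic with product one in the first two coordinates. -/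
def hv {k : ℕ} (ω α β : F) (w : Fin k → F) : Fin (k + 2) → F :=
  Fin.cons (α + β * ω) (Fin.cons (α + β * ω ^ 2) w)

/-- Linear coordinates `τ` with coefficients `M`. -/
structure Coord (D : Set G) (d a : G) (τ M : G → G → F) : Prop where
  zero : ∀ p ∈ perp2 D d a, τ p p = 0
  bij : ∀ p ∈ perp2 D d a, Set.BijOn (τ p) (X D d p) Set.univ
  M_eq_zero : ∀ p ∈ perp2 D d a, ∀ q ∈ perp2 D d a, (M p q = 0 ↔ Commute p q)
  M_conj : ∀ p ∈ perp2 D d a, ∀ q ∈ perp2 D d a, M q p = M p q ^ 2
  shift : ∀ p ∈ perp2 D d a, ∀ q ∈ perp2 D d a, ∀ b ∈ X D d p, ∀ x ∈ X D d q,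
    τ q (shift b p x) = τ q x + τ p b * M q p

end Cfsg.Agent.Lib.FischerUnit14
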