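import Cfsg.Agent.Lib.Unitary.Simple

/-!
# The field of four elements
-/

set_option autoImplicit false

namespace Cfsg.Agent.Lib.FischerUnit14

variable {F : Type*} [Field F] [Fintype F]

theorem four_two (hF : Fintype.card F = 4) : (2 : F) = 0 := by
  have h : ((4 : ℕ) : F) = 0 := by rw [← hF]; exact FiniteField.cast_card_eq_zero F
  have h' : (2 : F) * 2 = 0 := by rw [← h]; norm_num
  exact mul_self_eq_zero.1 h'

theorem four_pow (hF : Fintype.card F = 4) (x : F) : x ^ 4 = x := by
  rw [← hF]; exact FiniteField.pow_card x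

theorem four_add_self (hF : Fintype.card F = 4) (x : F) : x + x = 0 := by
  linear_combination x * four_two hF

theorem four_sq_add (hF : Fintype.card F = 4) (x y : F) : (x + y) ^ 2 = x ^ 2 + y ^ 2 := by
  linear_combination x * y * four_two hF

theorem four_cube (hF : Fintype.card F = 4) {x : F} (hx : x ≠ 0) : x ^ 3 = 1 :=
  mul_right_cancel₀ hx (by linear_combination four_pow hF x)

theorem four_eq_of_add (hF : Fintype.card F = 4) {x y : F} (h : x + y = 0) : x = y := by
  linear_combination h - y * four_two hF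

/-- Three different non-zero elements add to zero. -/
theorem four_third (hF : Fintype.card F = 4) {u v w : F} (hu : u ≠ 0) (hv : v ≠ 0) (hw : w ≠ 0)
    (huv : u ≠ v) (huw : u ≠ w) (hvw : v ≠ w) : w = u + v := by
  have key : ∀ {x y : F}, x ≠ 0 → y ≠ 0 → x ≠ y → x ^ 2 + x * y + y ^ 2 = 0 := fun {x y} hx hy h =>
    mul_left_cancel₀ (sub_ne_zero.2 h)
      (by linear_combination four_cube hF hx - four_cube hF hy)
  have h1 := key hu hv huv
  have h2 := key hu hw huw
  have h3 : u + v + w = 0 := mul_left_cancel₀ (sub_ne_zero.2 hvw) (by linear_combination h1 - h2)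
  linear_combination h3 - (u + v) * four_two hF

/-- The elements with trace one. -/
theorem four_trace (hF : Fintype.card F = 4) {x : F} (h0 : x ≠ 0) (h1 : x ≠ 1) : x ^ 2 + x + 1 = 0 :=
  mul_left_cancel₀ (sub_ne_zero.2 h1) (by linear_combination four_cube hF h0)

theorem four_root (hF : Fintype.card F = 4) {k k' : F} (h : k ^ 2 + k + 1 = 0) (h' : k' ^ 2 + k' + 1 = 0)
    (hne : k ≠ k') : k' = k + 1 := by
  have h3 : k + k' + 1 = 0 := mul_left_cancel₀ (sub_ne_zero.2 hne) (by linear_combination h - h')
  linear_combination h3 - (k + 1) * four_two hF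

theorem four_cases (hF : Fintype.card F = 4) (x : F) : x = 0 ∨ x = 1 ∨ x ^ 2 + x + 1 = 0 := by
  by_cases h0 : x = 0
  · exact Or.inl h0
  by_cases h1 : x = 1
  · exact Or.inr (Or.inl h1)
  exact Or.inr (Or.inr (four_trace hF h0 h1))

end Cfsg.Agent.Lib.FischerUnit14
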