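import Cfsg.Agent.Lib.FischerUnit14.Proj
import Cfsg.Agent.Lib.FischerUnit14.CoordDefs
import Cfsg.Agent.Lib.FischerUnit14.Four

/-!
# Coordinates of the projections

`sig` is the coordinate of the projection on the line of `d` and `p`, `one` the index of the point of the line
of `a` and `p`. Both are computed for the conjugates by the neighbours of `d`.
-/

set_option autoImplicit false
set_option linter.unusedSectionVars false

namespace Cfsg.Agent.Lib.FischerUnit14

open Cfsg Cfsg.Agent.Lib.ThreeTranspositions Cfsg.Agent.Lib.Unitary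
open scoped Classical

variable {G : Type*} [Group G] [Finite G] {F : Type*} [Field F] [Fintype F]

/-- Coordinates on the lines and vectors on the residue. -/
structure Ctx (D : Set G) (d a : G) (τ M : G → G → F) {k : ℕ} (Φ : G → Fin k → F) : Prop where
  card : Fintype.card F = 4
  polar : Polar D 4
  hd : d ∈ D
  ha : a ∈ D
  hda : ¬ Commute d a
  coord : Coord D d a τ M
  third : ∀ q ∈ perp2 D d a, ∀ u ∈ perp2 D d a, ¬ Commute q u → ∀ e ∈ X D d q, ∀ f ∈ X D d u,
    τ (q * u * q) (e * f * e) = M (q * u * q) q * τ q e + M (q * u * q) u * τ u f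
  row : ∀ q ∈ perp2 D d a, ∀ u ∈ perp2 D d a, ¬ Commute q u → ∀ v ∈ perp2 D d a,
    M (q * u * q) v = M (q * u * q) q * M q v + M (q * u * q) u * M u v
  gram : ∀ p ∈ perp2 D d a, ∀ q ∈ perp2 D d a, hermForm k F 2 (Φ p) (Φ q) = M p q
  span : Submodule.span F (Φ '' perp2 D d a) = ⊤

/-- The coordinate of the projection of `y`. -/
noncomputable def sig (D : Set G) (d : G) (τ : G → G → F) (y p : G) : F := τ p (prj D d y p)

/-- The coordinate of the index of the point of the line of `a` and `p` commuting with `y`. -/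
noncomputable def one (D : Set G) (d a : G) (τ : G → G → F) (y p : G) : F :=
  τ p (@Classical.epsilon G ⟨p⟩ fun b => b ∈ X D d p ∧ Commute y (L1 d a p b))

namespace Ctx

variable {D : Set G} {d a : G} {τ M : G → G → F} {k : ℕ} {Φ : G → Fin k → F} (S : Ctx D d a τ M Φ)
include S

theorem card' : Fintype.card F = 2 ^ 2 := by rw [S.card]; norm_num

theorem tau_inj {p x x' : G} (hp : p ∈ perp2 D d a) (hx : x ∈ X D d p) (hx' : x' ∈ X D d p)
    (h : τ p x = τ p x') : x = x' :=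
  (S.coord.bij p hp).injOn hx hx' h

theorem self_X {p : G} (hp : p ∈ perp2 D d a) : p ∈ X D d p :=
  mem_X_self hp.1 (S.polar.res_facts S.ha S.hda hp).2.1

theorem tau_eq_zero {p x : G} (hp : p ∈ perp2 D d a) (hx : x ∈ X D d p) : τ p x = 0 ↔ x = p :=
  ⟨fun h => S.tau_inj hp hx (S.self_X hp) (h.trans (S.coord.zero p hp).symm),
    fun h => h.symm ▸ S.coord.zero p hp⟩

theorem tau_surj {p : G} (hp : p ∈ perp2 D d a) (u : F) : ∃ x ∈ X D d p, τ p x = u :=
  (S.coord.bij p hp).surjOn (Set.mem_univ u)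

theorem M_self {p : G} (hp : p ∈ perp2 D d a) : M p p = 0 :=
  (S.coord.M_eq_zero p hp p hp).2 (Commute.refl p)

theorem M_ne {p q : G} (hp : p ∈ perp2 D d a) (hq : q ∈ perp2 D d a) (h : ¬ Commute p q) : M p q ≠ 0 :=
  fun h' => h ((S.coord.M_eq_zero p hp q hq).1 h')

theorem tau_plus {p t b : G} (hp : p ∈ perp2 D d a) (ht : t ∈ X D d p) (htp : t ≠ p) (hb : b ∈ X D d p) :
    τ p (plus d a p t b) = τ p t + τ p b := by
  unfold plus
  split_ifs with h1 h2
  · rw [h1, S.coord.zero p hp, add_zero]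
  · rw [h2, S.coord.zero p hp, four_add_self S.card]
  · obtain ⟨hc, hcp, hct, hcb, -⟩ := S.polar.add_facts S.hd S.ha S.hda hp ht hb htp h1 (Ne.symm h2)
    exact four_third S.card (fun h => htp ((S.tau_eq_zero hp ht).1 h)) (fun h => h1 ((S.tau_eq_zero hp hb).1 h))
      (fun h => hcp ((S.tau_eq_zero hp hc).1 h)) (fun h => h2 (S.tau_inj hp ht hb h).symm)
      (fun h => hct (S.tau_inj hp ht hc h).symm) (fun h => hcb (S.tau_inj hp hb hc h).symm)

theorem sig_eq {y p x : G} (hp : p ∈ perp2 D d a) (hy : y ∈ D) (hyd : ¬ Commute y d) (hx : x ∈ X D d p)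
    (hyx : Commute y x) : sig D d τ y p = τ p x := by
  rw [sig, S.polar.prj_eq S.hd S.ha S.hda hp hy hyd hx hyx]

theorem prj_facts {y p : G} (hp : p ∈ perp2 D d a) (hy : y ∈ D) (hyd : ¬ Commute y d) :
    prj D d y p ∈ X D d p ∧ Commute y (prj D d y p) :=
  S.polar.prj_spec S.hd S.ha S.hda hp hy hyd

theorem sig_eq_zero {y p : G} (hp : p ∈ perp2 D d a) (hy : y ∈ D) (hyd : ¬ Commute y d) :
    sig D d τ y p = 0 ↔ Commute y p := by
  rw [sig, S.tau_eq_zero hp (S.prj_facts hp hy hyd).1, S.polar.prj_eq_self_iff S.hd S.ha S.hda hp hy hyd]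

/-- A point of `X D d p` carries `X D d q` to the line of the third point. -/
theorem cj_X {p q t x : G} (hp : p ∈ perp2 D d a) (hq : q ∈ perp2 D d a) (hpq : ¬ Commute p q)
    (ht : t ∈ X D d p) (hx : x ∈ X D d q) : t * x * t ∈ X D d (p * q * p) := by
  obtain ⟨hpD, hpd, -, hdp, -⟩ := S.polar.res_facts S.ha S.hda hp
  obtain ⟨hqD, hqd, -, hdq, -⟩ := S.polar.res_facts S.ha S.hda hq
  have htd := line_commute_left S.hd hdp ht.1
  have htq : ¬ Commute t q :=
    S.polar.X_not_commute S.hd hpD hqD hpd hqd hdp hdq hpq ht (mem_X_self hqD hqd)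
  obtain ⟨hr, hrd, -, hdr, -⟩ := S.polar.res_facts S.ha S.hda (S.polar.res_third hp hq)
  have h1 : t * q * t ∈ lineC D d (p * q * p) := by
    rw [S.polar.braid ht.1.1 hqD htq, S.polar.braid hpD hqD hpq]
    have := S.polar.line_cj hqD ht.1
    rwa [S.polar.cj_of_commute hqD hdq.symm] at this
  have h2 : t * x * t ∈ lineC D d (t * q * t) := by
    have := S.polar.line_cj ht.1.1 hx.1
    rwa [S.polar.cj_of_commute ht.1.1 htd] at this
  have hne : ∀ {z : G}, z ≠ d → t * z * t ≠ d := fun {z} hz h => hz (by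
    rw [← S.polar.cj_cj ht.1.1 z, h, S.polar.cj_of_commute ht.1.1 htd])
  refine ⟨?_, hne hx.2⟩
  rwa [S.polar.line_eq_left S.hd hr hrd.symm hdr h1 (hne hqd)] at h2

theorem sig_third {y q u : G} (hq : q ∈ perp2 D d a) (hu : u ∈ perp2 D d a) (hqu : ¬ Commute q u)
    (hy : y ∈ D) (hyd : ¬ Commute y d) :
    sig D d τ y (q * u * q) = M (q * u * q) q * sig D d τ y q + M (q * u * q) u * sig D d τ y u := by
  obtain ⟨he, hye⟩ := S.prj_facts hq hy hyd
  obtain ⟨hf, hyf⟩ := S.prj_facts hu hy hyd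
  rw [S.sig_eq (S.polar.res_third hq hu) hy hyd (S.cj_X hq hu hqu he hf) ((hye.mul_right hyf).mul_right hye)]
  exact S.third q hq u hu hqu _ he _ hf

theorem sig_conj {y p q t : G} (hp : p ∈ perp2 D d a) (hq : q ∈ perp2 D d a) (hy : y ∈ D)
    (hyd : ¬ Commute y d) (ht : t ∈ X D d p) :
    sig D d τ (t * y * t) q = sig D d τ y q + (τ p t + sig D d τ y p) * M q p := by
  obtain ⟨hpD, hpd, -, hdp, -⟩ := S.polar.res_facts S.ha S.hda hp
  obtain ⟨hty, htyd, -⟩ := S.polar.res_conj S.hd S.ha S.hda hp hy hyd ht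
  by_cases hpq : Commute p q
  · obtain ⟨he, hye⟩ := S.prj_facts hq hy hyd
    have hte : Commute t (prj D d y q) :=
      S.polar.X_perp S.hd hpD hq.1 hdp hq.2.1.symm hpq ht he
    rw [(S.coord.M_eq_zero q hq p hp).2 hpq.symm, mul_zero, add_zero, sig,
      S.polar.prj_eq S.hd S.ha S.hda hq hty htyd he ((S.polar.commute_cj_right ht.1.1 hte).2 hye), sig]
  set w := p * q * p with hw'
  have hw := S.polar.res_third hp hq
  have hpw : ¬ Commute p w := third_not_commute_left S.polar.closed hp.1 hq.1 hpq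
  have hwq : p * w * p = q := S.polar.cj_cj hp.1 q
  obtain ⟨he, hye⟩ := S.prj_facts hw hy hyd
  have h1 := S.cj_X hp hw hpw ht he
  have h2 := S.third p hp w hw hpw t ht _ he
  have h3 := S.sig_third hp hw hpw hy hyd
  rw [hwq] at h1 h2 h3
  rw [S.sig_eq hq hty htyd h1 (S.polar.commute_cj ht.1.1 hye), h2, h3]
  simp only [sig]
  linear_combination (-(M q p * τ p (prj D d y p))) * four_two S.card

theorem sig_d {y p : G} (hp : p ∈ perp2 D d a) (hy : y ∈ D) (hyd : ¬ Commute y d) :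
    sig D d τ (d * y * d) p = sig D d τ y p := by
  obtain ⟨he, hye⟩ := S.prj_facts hp hy hyd
  have hde : Commute d (prj D d y p) :=
    (line_commute_left S.hd (S.polar.res_facts S.ha S.hda hp).2.2.2.1 he.1).symm
  rw [sig, S.polar.prj_eq S.hd S.ha S.hda hp (S.polar.cj_mem S.hd hy)
    (fun h => hyd ((S.polar.commute_cj_right S.hd (Commute.refl d)).1 h)) he
    ((S.polar.commute_cj_right S.hd hde).2 hye), sig]

theorem one_eq {y p b : G} (hp : p ∈ perp2 D d a) (hy : y ∈ D) (hyp : ¬ Commute y p) (hb : b ∈ X D d p)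
    (h : Commute y (L1 d a p b)) : one D d a τ y p = τ p b := by
  obtain ⟨h1, h2⟩ := Classical.epsilon_spec (p := fun b => b ∈ X D d p ∧ Commute y (L1 d a p b)) ⟨b, hb, h⟩
  exact congrArg (τ p) (S.polar.L1_unique S.hd S.ha S.hda hp hy hyp h1 hb h2 h)

theorem exists_one {y p : G} (hp : p ∈ perp2 D d a) (hy : y ∈ D) (hyp : ¬ Commute y p) :
    ∃ b ∈ X D d p, Commute y (L1 d a p b) ∧ τ p b = one D d a τ y p := by
  obtain ⟨b, hb, h⟩ := S.polar.exists_L1 S.hd S.ha S.hda hp hy hyp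
  exact ⟨b, hb, h, (S.one_eq hp hy hyp hb h).symm⟩

theorem one_L2 {y p b : G} (hp : p ∈ perp2 D d a) (hy : y ∈ D) (hyd : ¬ Commute y d) (hyp : ¬ Commute y p)
    (hb : b ∈ X D d p) (h : Commute y (L2 d a p b)) :
    one D d a τ y p = τ p b + sig D d τ y p := by
  obtain ⟨e, he, hye⟩ : ∃ e ∈ X D d p, prj D d y p = e := ⟨_, (S.prj_facts hp hy hyd).1, rfl⟩
  have hep : e ≠ p := fun h' => hyp ((S.polar.prj_eq_self_iff S.hd S.ha S.hda hp hy hyd).1 (hye.trans h'))
  obtain ⟨b₁, hb₁, h₁, hb₁'⟩ := S.exists_one hp hy hyp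
  have h₂ := S.polar.L2_of_L1 S.hd S.ha S.hda hp hy hyd hyp hb₁ h₁
  rw [hye] at h₂
  have hpm := S.polar.plus_mem S.hd S.ha S.hda hp he hep hb₁
  have hdp : Commute d p := hp.2.1.symm
  rw [S.polar.L2_eq S.hd] at h h₂
  have h' := S.polar.commute_cj S.hd h
  have h₂' := S.polar.commute_cj S.hd h₂
  rw [S.polar.cj_cj S.hd] at h' h₂'
  have heq : b = plus d a p e b₁ := S.polar.L1_unique S.hd S.ha S.hda hp (S.polar.cj_mem S.hd hy)
    (fun h => hyp ((S.polar.commute_cj_right S.hd hdp).1 h)) hb hpm h' h₂'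
  rw [heq, S.tau_plus hp he hep hb₁, sig, hye, ← hb₁']
  linear_combination (-(τ p e)) * four_two S.card

theorem one_self_conj {y p : G} (hp : p ∈ perp2 D d a) (hy : y ∈ D) (hyp : ¬ Commute y p) :
    one D d a τ (p * y * p) p = one D d a τ y p := by
  obtain ⟨b, hb, h, hb'⟩ := S.exists_one hp hy hyp
  have hcm : Commute p (L1 d a p b) :=
    (line_commute_right hp.1 hp.2.2.symm (S.polar.L1_mem S.hd S.ha S.hda hp hb).1).symm
  rw [S.one_eq hp (S.polar.cj_mem hp.1 hy) (fun h => hyp ((S.polar.commute_cj_right hp.1 (Commute.refl p)).1 h))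
    hb ((S.polar.commute_cj_right hp.1 hcm).2 h), hb']

theorem one_conj {y p t : G} (hp : p ∈ perp2 D d a) (hy : y ∈ D) (hyd : ¬ Commute y d) (hyp : ¬ Commute y p)
    (ht : t ∈ X D d p) (htp : t ≠ p) :
    one D d a τ (t * y * t) p = one D d a τ y p + τ p t + sig D d τ y p := by
  obtain ⟨hty, htyd, htyp⟩ := S.polar.res_conj S.hd S.ha S.hda hp hy hyd ht
  obtain ⟨b, hb, h, hb'⟩ := S.exists_one hp hy hyp
  have h' := S.polar.commute_cj ht.1.1 h
  rw [S.polar.conj_L1 S.hd S.ha S.hda hp ht htp hb] at h'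
  rw [S.one_L2 hp hty htyd (fun e => hyp (htyp.1 e)) (S.polar.plus_mem S.hd S.ha S.hda hp ht htp hb) h',
    S.tau_plus hp ht htp hb, S.sig_conj hp hp hy hyd ht, S.M_self hp, hb']
  ring

/-- The index on the line of `a` and `p` decides commuting with `a` and with `d * a * d`. -/
theorem near_iff {y p : G} (hp : p ∈ perp2 D d a) (hy : y ∈ D) (hyd : ¬ Commute y d) (hyp : ¬ Commute y p) :
    (Commute y a ↔ one D d a τ y p = 0) ∧
      (Commute y (d * a * d) ↔ one D d a τ y p = sig D d τ y p) := by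
  obtain ⟨b, hb, h, hb'⟩ := S.exists_one hp hy hyp
  have hpX := S.self_X hp
  refine ⟨⟨fun ha => ?_, fun h0 => ?_⟩, ⟨fun hz => ?_, fun h0 => ?_⟩⟩
  · rw [S.one_eq hp hy hyp hpX (by rwa [L1, if_pos rfl]), S.coord.zero p hp]
  · rw [← hb', S.tau_eq_zero hp hb] at h0
    rwa [L1, if_pos h0] at h
  · rw [S.one_L2 hp hy hyd hyp hpX (by rwa [L2, if_pos rfl]), S.coord.zero p hp, zero_add]
  · obtain ⟨he, -⟩ := S.prj_facts hp hy hyd
    have hbe : b = prj D d y p := S.tau_inj hp hb he (hb'.trans h0)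
    have hep : prj D d y p ≠ p := fun e => hyp ((S.polar.prj_eq_self_iff S.hd S.ha S.hda hp hy hyd).1 e)
    have h2 := S.polar.L2_of_L1 S.hd S.ha S.hda hp hy hyd hyp hb h
    rwa [show plus d a p (prj D d y p) b = p by simp [plus, hbe, hep], L2, if_pos rfl] at h2

end Ctx

end Cfsg.Agent.Lib.FischerUnit14
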