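import Cfsg.Agent.Lib.ThreeTranspositions.Basic
import Cfsg.Agent.Lib.Unitary.Simple

/-!
# The polar space of a set of 3-transpositions with twins

Interfaces of the recognition of the unitary groups over four elements (node C of Fischer's theorem).
The route is in `notes/fischer_nodeC_helper14.md`.
-/

set_option autoImplicit false

namespace Cfsg.Agent.Lib.FischerUnit14

open Cfsg Cfsg.Agent.Lib.ThreeTranspositions Cfsg.Agent.Lib.Unitary

variable {G : Type*} [Group G]

/-- The members commuting with both. -/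
def perp2 (D : Set G) (a b : G) : Set G := {x | x ∈ D ∧ Commute x a ∧ Commute x b}

/-- The line of two commuting members: those commuting with all common partners. -/
def lineC (D : Set G) (a b : G) : Set G := {x | x ∈ D ∧ ∀ y ∈ perp2 D a b, Commute x y}

/-- Lines have `s + 1` points, two of their points determine them, and every point commutes with some point
of each line. -/
structure Polar (D : Set G) (s : ℕ) : Prop where
  closed : IsClosedSet D
  gen : Subgroup.closure D = ⊤
  center : Subgroup.center G = ⊥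
  two_le : 2 ≤ s
  pow_two : ∃ j : ℕ, s = 2 ^ j
  card_line : ∀ a ∈ D, ∀ b ∈ D, a ≠ b → Commute a b → (lineC D a b).ncard = s + 1
  line_eq : ∀ a ∈ D, ∀ b ∈ D, a ≠ b → Commute a b →
    ∀ u ∈ lineC D a b, ∀ v ∈ lineC D a b, u ≠ v → lineC D u v = lineC D a b
  proj : ∀ a ∈ D, ∀ b ∈ D, a ≠ b → Commute a b → ∀ y ∈ D, ∃ x ∈ lineC D a b, Commute y x
  subset_eq : ∀ a ∈ D, ∀ b ∈ D, (∀ x ∈ D, Commute x a → Commute x b) → a = b
  trans : ∀ d ∈ D, ∀ a ∈ D, ∀ y ∈ D, ¬ Commute d a → ¬ Commute d y →
    ∃ g ∈ Subgroup.closure {x | x ∈ D ∧ Commute x d}, g * a * g⁻¹ = y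

variable {F : Type*} [Field F] [Fintype F]

/-- `P` is the set of isotropic points of the unitary space of dimension `m` over `F`, commutation being
orthogonality and conjugation the transvection. -/
structure IsModel (P : Set G) (m : ℕ) (f : (Fin m → F) → G) : Prop where
  mem : ∀ v, IsoVec 2 v → f v ∈ P
  surj : ∀ x ∈ P, ∃ v, IsoVec 2 v ∧ f v = x
  eq_iff : ∀ v w, IsoVec 2 v → IsoVec 2 w → (f v = f w ↔ ∃ c : F, c ≠ 0 ∧ w = c • v)
  commute_iff : ∀ v w, IsoVec 2 v → IsoVec 2 w → (Commute (f v) (f w) ↔ hermForm m F 2 v w = 0)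
  conj : ∀ v w, IsoVec 2 v → IsoVec 2 w → f v * f w * f v = f (w + hermForm m F 2 w v • v)

variable (F)

/-- `P` has some model of dimension `m`. -/
def HasModel (P : Set G) (m : ℕ) : Prop := ∃ f : (Fin m → F) → G, IsModel P m f

end Cfsg.Agent.Lib.FischerUnit14
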