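import Cfsg.Agent.Lib.FischerUnit14.Defs

/-!
# Lines of the polar space

Elementary consequences of `Polar`, and the line through `a` obtained from two points `u`, `v` not commuting
with it: `u * v * a * v * u`.
-/

set_option autoImplicit false
set_option linter.unusedSectionVars false

namespace Cfsg.Agent.Lib.FischerUnit14

open Cfsg Cfsg.Agent.Lib.ThreeTranspositions

variable {G : Type*} [Group G] {D : Set G} {s : ℕ}

theorem lineC_comm (a b : G) : lineC D a b = lineC D b a := by
  ext x
  exact ⟨fun h => ⟨h.1, fun y hy => h.2 y ⟨hy.1, hy.2.2, hy.2.1⟩⟩,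
    fun h => ⟨h.1, fun y hy => h.2 y ⟨hy.1, hy.2.2, hy.2.1⟩⟩⟩

theorem left_mem_line {a : G} (ha : a ∈ D) (b : G) : a ∈ lineC D a b := ⟨ha, fun _ hy => hy.2.1.symm⟩

theorem right_mem_line (a : G) {b : G} (hb : b ∈ D) : b ∈ lineC D a b := ⟨hb, fun _ hy => hy.2.2.symm⟩

theorem line_subset {a b : G} : lineC D a b ⊆ D := fun _ h => h.1

theorem line_perp {a b x y : G} (hx : x ∈ lineC D a b) (hy : y ∈ D) (h1 : Commute y a) (h2 : Commute y b) :
    Commute x y :=
  hx.2 y ⟨hy, h1, h2⟩

theorem line_commute_left {a b x : G} (ha : a ∈ D) (hab : Commute a b) (hx : x ∈ lineC D a b) :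
    Commute x a :=
  hx.2 a ⟨ha, Commute.refl a, hab⟩

theorem line_commute_right {a b x : G} (hb : b ∈ D) (hab : Commute a b) (hx : x ∈ lineC D a b) :
    Commute x b :=
  hx.2 b ⟨hb, hab.symm, Commute.refl b⟩

theorem line_commute {a b x y : G} (ha : a ∈ D) (hb : b ∈ D) (hab : Commute a b) (hx : x ∈ lineC D a b)
    (hy : y ∈ lineC D a b) : Commute x y :=
  hx.2 y ⟨hy.1, line_commute_left ha hab hy, line_commute_right hb hab hy⟩

namespace Polar

variable (hP : Polar D s)
include hP

theorem sq {a : G} (ha : a ∈ D) : a * a = 1 := ThreeTranspositions.mul_self hP.closed.1 ha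

theorem inv {a : G} (ha : a ∈ D) : a⁻¹ = a := inv_eq_of_mul_eq_one_right (hP.sq ha)

theorem conj_mem (g : G) {a : G} (ha : a ∈ D) : g * a * g⁻¹ ∈ D := hP.closed.2 g a ha

theorem cj_mem {g a : G} (hg : g ∈ D) (ha : a ∈ D) : g * a * g ∈ D := by
  have h := hP.conj_mem g ha
  rwa [hP.inv hg] at h

theorem braid {a b : G} (ha : a ∈ D) (hb : b ∈ D) (h : ¬ Commute a b) : a * b * a = b * a * b :=
  ThreeTranspositions.braid hP.closed.1 ha hb h

/-- Conjugation by the third point carries one point to the other. -/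
theorem third_conj {u a : G} (hu : u ∈ D) (ha : a ∈ D) (h : ¬ Commute a u) :
    a * u * a * u * (a * u * a) = a := by
  have b := hP.braid ha hu h
  calc a * u * a * u * (a * u * a) = a * u * a * u * (u * a * u) := by rw [b]
    _ = a * u * a * (u * u) * a * u := by group
    _ = a * u * (a * a) * u := by rw [hP.sq hu]; group
    _ = a * (u * u) := by rw [hP.sq ha]; group
    _ = a := by rw [hP.sq hu, mul_one]

theorem third_conj' {u a : G} (hu : u ∈ D) (ha : a ∈ D) (h : ¬ Commute a u) :
    a * u * a * a * (a * u * a) = u := by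
  have b := hP.braid ha hu h
  calc a * u * a * a * (a * u * a) = a * u * (a * a) * a * u * a := by group
    _ = a * (u * a * u) * a := by rw [hP.sq ha]; group
    _ = a * (a * u * a) * a := by rw [b]
    _ = (a * a) * u * (a * a) := by group
    _ = u := by rw [hP.sq ha, one_mul, mul_one]

/-- A member commuting with two points of a line commutes with all of it. -/
theorem line_all {a b u v x y : G} (ha : a ∈ D) (hb : b ∈ D) (hne : a ≠ b) (hab : Commute a b)
    (hu : u ∈ lineC D a b) (hv : v ∈ lineC D a b) (huv : u ≠ v) (hx : x ∈ lineC D a b) (hy : y ∈ D)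
    (h1 : Commute y u) (h2 : Commute y v) : Commute y x := by
  rw [← hP.line_eq a ha b hb hne hab u hu v hv huv] at hx
  exact (line_perp hx hy h1 h2).symm

/-- A member not commuting with some point of a line commutes with at most one. -/
theorem proj_unique {a b u v x y : G} (ha : a ∈ D) (hb : b ∈ D) (hne : a ≠ b) (hab : Commute a b)
    (hu : u ∈ lineC D a b) (hv : v ∈ lineC D a b) (hx : x ∈ lineC D a b) (hy : y ∈ D)
    (hxy : ¬ Commute y x) (h1 : Commute y u) (h2 : Commute y v) : u = v :=
  by_contra fun huv => hxy (hP.line_all ha hb hne hab hu hv huv hx hy h1 h2)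

theorem line_eq_left {a b v : G} (ha : a ∈ D) (hb : b ∈ D) (hne : a ≠ b) (hab : Commute a b)
    (hv : v ∈ lineC D a b) (hva : v ≠ a) : lineC D a v = lineC D a b :=
  hP.line_eq a ha b hb hne hab a (left_mem_line ha b) v hv (Ne.symm hva)

theorem line_conj (g : G) {a b x : G} (hx : x ∈ lineC D a b) :
    g * x * g⁻¹ ∈ lineC D (g * a * g⁻¹) (g * b * g⁻¹) := by
  refine ⟨hP.conj_mem g hx.1, fun y hy => ?_⟩
  have h : ∀ {z}, Commute y (g * z * g⁻¹) → Commute (g⁻¹ * y * g⁻¹⁻¹) z := fun {z} hc => by
    have h' := (Commute.conj_iff g⁻¹).2 hc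
    rwa [show g⁻¹ * (g * z * g⁻¹) * g⁻¹⁻¹ = z by group] at h'
  have h' := (Commute.conj_iff g).2 (hx.2 _ ⟨hP.conj_mem g⁻¹ hy.1, h hy.2.1, h hy.2.2⟩)
  rwa [show g * (g⁻¹ * y * g⁻¹⁻¹) * g⁻¹ = y by group] at h'

theorem line_cj {g a b x : G} (hg : g ∈ D) (hx : x ∈ lineC D a b) :
    g * x * g ∈ lineC D (g * a * g) (g * b * g) := by
  have h := hP.line_conj g hx
  rwa [hP.inv hg] at h

/-- Two points `u`, `v` of a line not commuting with `a` give `u v a v u` on the line through `a` and the
projection `o` of `a`: it is the image of `v` under the third point of `a` and `u`. -/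
theorem pair {a o u v : G} (ha : a ∈ D) (hu : u ∈ D) (hv : v ∈ D) (huv : Commute u v) (hne : u ≠ v)
    (hau : ¬ Commute a u) (hav : ¬ Commute a v) :
    Commute (u * v * a * v * u) a ∧ a * u * a * v * (a * u * a) = u * v * a * v * u ∧
      u * v * a * v * u ≠ a ∧
      (o ∈ lineC D u v → Commute o a → u * v * a * v * u ∈ lineC D a o ∧ u * v * a * v * u ≠ o) := by
  have hcomm : Commute (u * v * a * v * u) a := by
    have h1 := (Commute.conj_iff u).2 ((Commute.conj_iff a).2 huv.symm)
    rw [hP.inv hu, hP.inv ha] at h1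
    rw [hP.braid ha hv hav, hP.braid ha hu hau,
      show u * (u * a * u) * u = (u * u) * a * (u * u) by group, hP.sq hu, one_mul, mul_one] at h1
    rwa [show u * (v * a * v) * u = u * v * a * v * u by group] at h1
  have himg : a * u * a * v * (a * u * a) = u * v * a * v * u := by
    calc a * u * a * v * (a * u * a) = a * u * (a * v * a) * u * a := by group
      _ = a * (u * v * a * v * u) * a := by rw [hP.braid ha hv hav]; group
      _ = (u * v * a * v * u) * (a * a) := by rw [← hcomm.eq]; group
      _ = u * v * a * v * u := by rw [hP.sq ha, mul_one]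
  have hg : (a * u * a) ∈ D := hP.cj_mem ha hu
  have hne_a : u * v * a * v * u ≠ a := by
    intro h
    have := himg.trans (h.trans (hP.third_conj hu ha hau).symm)
    exact hne (mul_left_cancel (mul_right_cancel this)).symm
  refine ⟨hcomm, himg, hne_a, fun ho hoa => ?_⟩
  have hfix : a * u * a * o * (a * u * a) = o := by
    have h1 : Commute o (a * u * a) := (hoa.mul_right (line_commute_left hu huv ho)).mul_right hoa
    rw [← h1.eq, mul_assoc, hP.sq hg, mul_one]
  have hl := hP.line_cj hg ho
  rw [himg, hP.third_conj hu ha hau, hfix] at hl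
  have hw : u * v * a * v * u ∈ D := himg ▸ hP.cj_mem hg hv
  have hoa' : o ≠ a := fun h => hau (h ▸ line_commute_left hu huv ho)
  refine ⟨?_, fun h => hav ?_⟩
  · rw [hP.line_eq_left ha hw hne_a.symm hcomm.symm hl hoa']
    exact right_mem_line a hw
  · have hvo : v = o := mul_left_cancel (mul_right_cancel ((himg.trans h).trans hfix.symm))
    exact hvo ▸ hoa.symm

end Polar

end Cfsg.Agent.Lib.FischerUnit14
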