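import Cfsg.Agent.Lib.FischerUnit14.Res

/-!
# Projections of a member not commuting with `d`

For `p` in the residue, `L1 d a p b` runs over the line of `a` and `p`, `L2 d a p b` over its image under `d`.
A member not commuting with `p` commutes with one point of each.
-/

set_option autoImplicit false
set_option linter.unusedSectionVars false

namespace Cfsg.Agent.Lib.FischerUnit14

open Cfsg Cfsg.Agent.Lib.ThreeTranspositions
open scoped Classical

variable {G : Type*} [Group G] {D : Set G} {s : ℕ}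

/-- The point of `X D d p` commuting with `y`. -/
noncomputable def prj (D : Set G) (d y p : G) : G :=
  @Classical.epsilon G ⟨p⟩ fun x => x ∈ X D d p ∧ Commute y x

/-- The point of the line of `a` and `p` with index `b`. -/
noncomputable def L1 (d a p b : G) : G := if b = p then a else d * b * a * b * d

/-- The point of the line of `d * a * d` and `p` with index `b`. -/
noncomputable def L2 (d a p b : G) : G := if b = p then d * a * d else b * a * b

/-- The sum of two points of `X D d p`, `t` not being zero. -/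
noncomputable def plus (d a p t b : G) : G := if b = p then t else if b = t then p else add a d t b

namespace Polar

variable (hP : Polar D s)
include hP

theorem prj_spec {d a y p : G} (hd : d ∈ D) (ha : a ∈ D) (hda : ¬ Commute d a) (hp : p ∈ perp2 D d a)
    (hy : y ∈ D) (hyd : ¬ Commute y d) : prj D d y p ∈ X D d p ∧ Commute y (prj D d y p) := by
  obtain ⟨hpD, hpd, -, hdp, -⟩ := hP.res_facts ha hda hp
  obtain ⟨x, hx, hyx⟩ := hP.proj d hd p hpD hpd.symm hdp y hy
  exact Classical.epsilon_spec (p := fun x => x ∈ X D d p ∧ Commute y x)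
    ⟨x, ⟨hx, fun h => hyd (h ▸ hyx)⟩, hyx⟩

theorem prj_eq {d a y p x : G} (hd : d ∈ D) (ha : a ∈ D) (hda : ¬ Commute d a) (hp : p ∈ perp2 D d a)
    (hy : y ∈ D) (hyd : ¬ Commute y d) (hx : x ∈ X D d p) (hyx : Commute y x) : prj D d y p = x := by
  obtain ⟨hpD, hpd, -, hdp, -⟩ := hP.res_facts ha hda hp
  obtain ⟨h1, h2⟩ := hP.prj_spec hd ha hda hp hy hyd
  exact hP.proj_unique hd hpD hpd.symm hdp h1.1 hx.1 (left_mem_line hd p) hy hyd h2 hyx

theorem prj_eq_self_iff {d a y p : G} (hd : d ∈ D) (ha : a ∈ D) (hda : ¬ Commute d a) (hp : p ∈ perp2 D d a)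
    (hy : y ∈ D) (hyd : ¬ Commute y d) : prj D d y p = p ↔ Commute y p := by
  obtain ⟨hpD, hpd, -, -, -⟩ := hP.res_facts ha hda hp
  exact ⟨fun h => h ▸ (hP.prj_spec hd ha hda hp hy hyd).2,
    hP.prj_eq hd ha hda hp hy hyd (mem_X_self hpD hpd)⟩

theorem L1_mem {d a p b : G} (hd : d ∈ D) (ha : a ∈ D) (hda : ¬ Commute d a) (hp : p ∈ perp2 D d a)
    (hb : b ∈ X D d p) : L1 d a p b ∈ lineC D a p ∧ L1 d a p b ≠ p ∧ (b ≠ p → L1 d a p b ≠ a) := by
  obtain ⟨hpD, hpd, hpa, hdp, hap⟩ := hP.res_facts ha hda hp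
  unfold L1
  split_ifs with h
  · exact ⟨left_mem_line ha p, hpa.symm, fun h' => absurd h h'⟩
  · obtain ⟨-, -, hne, hw⟩ := hP.pair (o := p) ha hd hb.1.1 (line_commute_left hd hdp hb.1).symm hb.2.symm
      (fun h => hda h.symm) (hP.not_commute_X hd ha hda hp hb h)
    have hpl : p ∈ lineC D d b := by
      rw [hP.line_eq_left hd hpD hpd.symm hdp hb.1 hb.2]; exact right_mem_line d hpD
    exact ⟨(hw hpl hap.symm).1, (hw hpl hap.symm).2, fun _ => hne⟩

theorem L1_inj {d a p b c : G} (hd : d ∈ D) (ha : a ∈ D) (hda : ¬ Commute d a) (hp : p ∈ perp2 D d a)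
    (hb : b ∈ X D d p) (hc : c ∈ X D d p) (h : L1 d a p b = L1 d a p c) : b = c := by
  by_contra hne
  by_cases hbp : b = p
  · exact (hP.L1_mem hd ha hda hp hc).2.2 (fun e => hne (hbp.trans e.symm)) (by rw [← h, L1, if_pos hbp])
  by_cases hcp : c = p
  · exact (hP.L1_mem hd ha hda hp hb).2.2 hbp (by rw [h, L1, if_pos hcp])
  rw [L1, L1, if_neg hbp, if_neg hcp, show d * b * a * b * d = d * (b * a * b) * d by group,
    show d * c * a * c * d = d * (c * a * c) * d by group] at h
  have h' := mul_left_cancel (mul_right_cancel h)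
  rw [← hP.braid ha hb.1.1 (hP.not_commute_X hd ha hda hp hb hbp),
    ← hP.braid ha hc.1.1 (hP.not_commute_X hd ha hda hp hc hcp)] at h'
  exact hne (mul_left_cancel (mul_right_cancel h'))

theorem L1_surj [Finite G] {d a p x : G} (hd : d ∈ D) (ha : a ∈ D) (hda : ¬ Commute d a)
    (hp : p ∈ perp2 D d a) (hx : x ∈ lineC D a p) (hxp : x ≠ p) : ∃ b ∈ X D d p, L1 d a p b = x := by
  obtain ⟨hpD, hpd, hpa, hdp, hap⟩ := hP.res_facts ha hda hp
  have heq : L1 d a p '' X D d p = lineC D a p \ {p} := by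
    refine Set.eq_of_subset_of_ncard_le ?_ ?_
    · rintro _ ⟨b, hb, rfl⟩
      exact ⟨(hP.L1_mem hd ha hda hp hb).1, (hP.L1_mem hd ha hda hp hb).2.1⟩
    · rw [Set.ncard_image_of_injOn fun b hb c hc h => hP.L1_inj hd ha hda hp hb hc h,
        hP.card_X hd hpD hpd.symm hdp, Set.ncard_sdiff_singleton_of_mem (right_mem_line a hpD),
        hP.card_line a ha p hpD hpa.symm hap]
      omega
  exact heq.ge ⟨hx, hxp⟩

theorem exists_L1 [Finite G] {d a p y : G} (hd : d ∈ D) (ha : a ∈ D) (hda : ¬ Commute d a)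
    (hp : p ∈ perp2 D d a) (hy : y ∈ D) (hyp : ¬ Commute y p) :
    ∃ b ∈ X D d p, Commute y (L1 d a p b) := by
  obtain ⟨hpD, hpd, hpa, hdp, hap⟩ := hP.res_facts ha hda hp
  obtain ⟨x, hx, hyx⟩ := hP.proj a ha p hpD hpa.symm hap y hy
  obtain ⟨b, hb, rfl⟩ := hP.L1_surj hd ha hda hp hx fun h => hyp (h ▸ hyx)
  exact ⟨b, hb, hyx⟩

theorem L1_unique {d a p y b c : G} (hd : d ∈ D) (ha : a ∈ D) (hda : ¬ Commute d a)
    (hp : p ∈ perp2 D d a) (hy : y ∈ D) (hyp : ¬ Commute y p) (hb : b ∈ X D d p) (hc : c ∈ X D d p)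
    (h1 : Commute y (L1 d a p b)) (h2 : Commute y (L1 d a p c)) : b = c := by
  obtain ⟨hpD, -, hpa, -, hap⟩ := hP.res_facts ha hda hp
  exact hP.L1_inj hd ha hda hp hb hc (hP.proj_unique ha hpD hpa.symm hap (hP.L1_mem hd ha hda hp hb).1
    (hP.L1_mem hd ha hda hp hc).1 (right_mem_line a hpD) hy hyp h1 h2)

/-- A member commuting with `p` and another point of the line of `a` and `p` commutes with all its points. -/
theorem L1_all {d a p y b c : G} (hd : d ∈ D) (ha : a ∈ D) (hda : ¬ Commute d a) (hp : p ∈ perp2 D d a)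
    (hy : y ∈ D) (hyp : Commute y p) (hb : b ∈ X D d p) (hc : c ∈ X D d p)
    (h1 : Commute y (L1 d a p b)) : Commute y (L1 d a p c) := by
  obtain ⟨hpD, -, hpa, -, hap⟩ := hP.res_facts ha hda hp
  exact hP.line_all ha hpD hpa.symm hap (hP.L1_mem hd ha hda hp hb).1 (right_mem_line a hpD)
    (hP.L1_mem hd ha hda hp hb).2.1 (hP.L1_mem hd ha hda hp hc).1 hy h1 hyp

theorem L2_eq {d a p b : G} (hd : d ∈ D) : L2 d a p b = d * L1 d a p b * d := by
  unfold L1 L2
  split_ifs
  · rfl
  · rw [show d * (d * b * a * b * d) * d = d * (d * (b * a * b) * d) * d by group, hP.cj_cj hd]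

theorem plus_mem {d a p t b : G} (hd : d ∈ D) (ha : a ∈ D) (hda : ¬ Commute d a) (hp : p ∈ perp2 D d a)
    (ht : t ∈ X D d p) (htp : t ≠ p) (hb : b ∈ X D d p) : plus d a p t b ∈ X D d p := by
  obtain ⟨hpD, hpd, -, -, -⟩ := hP.res_facts ha hda hp
  unfold plus
  split_ifs with h1 h2
  exacts [ht, mem_X_self hpD hpd, (hP.add_facts hd ha hda hp ht hb htp h1 (Ne.symm h2)).1]

/-- A point of `X D d p` carries the line of `a` and `p` to the line of `d * a * d` and `p`. -/
theorem conj_L1 {d a p t b : G} (hd : d ∈ D) (ha : a ∈ D) (hda : ¬ Commute d a) (hp : p ∈ perp2 D d a)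
    (ht : t ∈ X D d p) (htp : t ≠ p) (hb : b ∈ X D d p) :
    t * L1 d a p b * t = L2 d a p (plus d a p t b) := by
  obtain ⟨hpD, hpd, -, hdp, -⟩ := hP.res_facts ha hda hp
  have htd : t * d = d * t := (line_commute_left hd hdp ht.1).eq
  unfold L1 plus
  by_cases hbp : b = p
  · simp [L2, hbp, htp]
  rw [if_neg hbp, if_neg hbp]
  by_cases hbt : b = t
  · rw [if_pos hbt, L2, if_pos rfl, hbt]
    calc t * (d * t * a * t * d) * t = (t * d) * t * a * t * (d * t) := by group
      _ = (d * t) * t * a * t * (t * d) := by rw [htd]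
      _ = d * (t * t) * a * (t * t) * d := by group
      _ = d * a * d := by rw [hP.sq ht.1.1, mul_one, mul_one]
  rw [if_neg hbt]
  obtain ⟨-, hcp, -, -, hrel⟩ := hP.add_facts hd ha hda hp ht hb htp hbp (Ne.symm hbt)
  rw [L2, if_neg hcp]
  calc t * (d * b * a * b * d) * t = (t * d) * b * a * b * (d * t) := by group
    _ = (d * t) * b * a * b * (t * d) := by rw [htd]
    _ = d * (t * b * a * b * t) * d := by group
    _ = d * (d * (add a d t b * a * add a d t b) * d) * d := by rw [hrel]; group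
    _ = _ := hP.cj_cj hd _

theorem res_conj {d a p y : G} (hd : d ∈ D) (ha : a ∈ D) (hda : ¬ Commute d a) (hp : p ∈ perp2 D d a)
    (hy : y ∈ D) (hyd : ¬ Commute y d) {t : G} (ht : t ∈ X D d p) :
    t * y * t ∈ D ∧ ¬ Commute (t * y * t) d ∧ (Commute (t * y * t) p ↔ Commute y p) := by
  obtain ⟨hpD, hpd, -, hdp, -⟩ := hP.res_facts ha hda hp
  exact ⟨hP.cj_mem ht.1.1 hy,
    fun h => hyd ((hP.commute_cj_right ht.1.1 (line_commute_left hd hdp ht.1)).1 h),
    hP.commute_cj_right ht.1.1 (line_commute_right hpD hdp ht.1)⟩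

/-- For `y` commuting with `p` a point of `X D d p` exchanges commuting with `a` and with `d * a * d`. -/
theorem swap {d a p y t : G} (hd : d ∈ D) (ha : a ∈ D) (hda : ¬ Commute d a) (hp : p ∈ perp2 D d a)
    (hy : y ∈ D) (hyp : Commute y p) (ht : t ∈ X D d p) (htp : t ≠ p) :
    (Commute y a → Commute (t * y * t) (d * a * d)) ∧ (Commute y (d * a * d) → Commute (t * y * t) a) := by
  obtain ⟨hpD, hpd, -, hdp, -⟩ := hP.res_facts ha hda hp
  have key : ∀ {y}, y ∈ D → Commute y p → Commute y a → Commute (t * y * t) (d * a * d) := by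
    intro y hy hyp hya
    have h := hP.commute_cj ht.1.1 (hP.L1_all hd ha hda hp hy hyp (b := p) (mem_X_self hpD hpd) ht
      (by rwa [L1, if_pos rfl]))
    rwa [hP.conj_L1 hd ha hda hp ht htp ht, show plus d a p t t = p by simp [plus, htp], L2, if_pos rfl] at h
  refine ⟨key hy hyp, fun hyz => ?_⟩
  have hyp' : Commute (d * y * d) p := (hP.commute_cj_right hd hdp).2 hyp
  have hya' : Commute (d * y * d) a := by
    have h := hP.commute_cj hd hyz
    rwa [hP.cj_cj hd] at h
  have h := hP.commute_cj hd (key (hP.cj_mem hd hy) hyp' hya')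
  rwa [hP.cj_cj hd, show d * (t * (d * y * d) * t) * d = (d * t * d) * y * (d * t * d) by group,
    hP.cj_of_commute hd (line_commute_left hd hdp ht.1).symm] at h

/-- The two points commuting with `y` on the lines of `a` and of `d * a * d` differ by the projection. -/
theorem L2_of_L1 {d a p y b : G} (hd : d ∈ D) (ha : a ∈ D) (hda : ¬ Commute d a) (hp : p ∈ perp2 D d a)
    (hy : y ∈ D) (hyd : ¬ Commute y d) (hyp : ¬ Commute y p) (hb : b ∈ X D d p)
    (h : Commute y (L1 d a p b)) : Commute y (L2 d a p (plus d a p (prj D d y p) b)) := by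
  obtain ⟨he, hye⟩ := hP.prj_spec hd ha hda hp hy hyd
  have hep : prj D d y p ≠ p := fun e => hyp (e ▸ hye)
  rw [← hP.conj_L1 hd ha hda hp he hep hb]
  exact (hye.mul_right h).mul_right hye

end Polar

end Cfsg.Agent.Lib.FischerUnit14
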