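import Cfsg.Agent.Lib.FischerUnit14.Shift

/-!
# The residue of two members

The members other than `d` commuting with `d` lie on unique lines through `d` and the residue; the residue is
nondegenerate and any two of its members have a common non-commuting one. Also induction along the conjugates
of `a` under the centraliser of `d`.
-/

set_option autoImplicit false
set_option linter.unusedSectionVars false

namespace Cfsg.Agent.Lib.FischerUnit14

open Cfsg Cfsg.Agent.Lib.ThreeTranspositions

variable {G : Type*} [Group G] {D : Set G} {s : ℕ}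

namespace Polar

variable (hP : Polar D s)
include hP

theorem cj_cj {g : G} (hg : g ∈ D) (x : G) : g * (g * x * g) * g = x := by
  rw [show g * (g * x * g) * g = (g * g) * x * (g * g) by group, hP.sq hg, one_mul, mul_one]

theorem commute_cj {g x y : G} (hg : g ∈ D) (h : Commute x y) : Commute (g * x * g) (g * y * g) := by
  have h' := (Commute.conj_iff g).2 h
  rwa [hP.inv hg] at h'

theorem commute_cj_iff {g x y : G} (hg : g ∈ D) : Commute (g * x * g) (g * y * g) ↔ Commute x y :=
  ⟨fun h => by simpa only [hP.cj_cj hg] using hP.commute_cj hg h, hP.commute_cj hg⟩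

theorem cj_of_commute {g x : G} (hg : g ∈ D) (h : Commute g x) : g * x * g = x := by
  rw [h.eq, mul_assoc, hP.sq hg, mul_one]

theorem commute_cj_right {g x y : G} (hg : g ∈ D) (h : Commute g y) :
    Commute (g * x * g) y ↔ Commute x y := by
  conv_lhs => rw [← hP.cj_of_commute hg h]
  exact hP.commute_cj_iff hg

theorem res_third {d a p q : G} (hp : p ∈ perp2 D d a) (hq : q ∈ perp2 D d a) :
    p * q * p ∈ perp2 D d a :=
  ⟨hP.cj_mem hp.1 hq.1, (hp.2.1.mul_left hq.2.1).mul_left hp.2.1, (hp.2.2.mul_left hq.2.2).mul_left hp.2.2⟩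

theorem res_line {d a p q u : G} (hd : d ∈ D) (ha : a ∈ D) (hp : p ∈ perp2 D d a) (hq : q ∈ perp2 D d a)
    (hu : u ∈ lineC D p q) : u ∈ perp2 D d a :=
  ⟨hu.1, line_perp hu hd hp.2.1.symm hq.2.1.symm, line_perp hu ha hp.2.2.symm hq.2.2.symm⟩

theorem exists_res {d a x : G} (hd : d ∈ D) (ha : a ∈ D) (hda : ¬ Commute d a) (hx : x ∈ D) (hxd : Commute x d)
    (hne : x ≠ d) : ∃ p ∈ perp2 D d a, x ∈ X D d p := by
  obtain ⟨p, hp, hap⟩ := hP.proj d hd x hx hne.symm hxd.symm a ha
  have hpd : p ≠ d := fun h => hda (h ▸ hap).symm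
  refine ⟨p, ⟨hp.1, line_commute_left hd hxd.symm hp, hap.symm⟩, ?_, hne⟩
  rw [hP.line_eq_left hd hx hne.symm hxd.symm hp hpd]
  exact right_mem_line d hx

theorem res_unique {d a p q x : G} (hd : d ∈ D) (ha : a ∈ D) (hda : ¬ Commute d a) (hp : p ∈ perp2 D d a)
    (hq : q ∈ perp2 D d a) (h1 : x ∈ X D d p) (h2 : x ∈ X D d q) : p = q := by
  obtain ⟨hpD, hpd, -, hdp, hap⟩ := hP.res_facts ha hda hp
  obtain ⟨hqD, hqd, -, hdq, haq⟩ := hP.res_facts ha hda hq
  have hq' : q ∈ lineC D d p := by
    rw [← hP.line_eq_left hd hpD hpd.symm hdp h1.1 h1.2, hP.line_eq_left hd hqD hqd.symm hdq h2.1 h2.2]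
    exact right_mem_line d hqD
  exact hP.proj_unique hd hpD hpd.symm hdp (right_mem_line d hpD) hq' (left_mem_line hd p) ha
    (fun h => hda h.symm) hap haq

theorem res_nondeg {d a p : G} (hd : d ∈ D) (ha : a ∈ D) (hda : ¬ Commute d a) (hp : p ∈ perp2 D d a) :
    ∃ q ∈ perp2 D d a, ¬ Commute p q := by
  by_contra hall
  push Not at hall
  obtain ⟨hpD, hpd, -, hdp, -⟩ := hP.res_facts ha hda hp
  refine hpd (hP.subset_eq d hd p hpD fun x hx hxd => ?_).symm
  by_cases hne : x = d
  · exact hne ▸ hdp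
  obtain ⟨r, hr, hxr⟩ := hP.exists_res hd ha hda hx hxd hne
  exact line_perp hxr.1 hpD hdp.symm (hall r hr)

/-- Two residue members have a common non-commuting one. -/
theorem res_common [Finite G] {d a p q : G} (hd : d ∈ D) (ha : a ∈ D) (hda : ¬ Commute d a)
    (hp : p ∈ perp2 D d a) (hq : q ∈ perp2 D d a) :
    ∃ x ∈ perp2 D d a, ¬ Commute p x ∧ ¬ Commute q x := by
  by_cases hpq : Commute p q
  swap
  · exact ⟨p * q * p, hP.res_third hp hq, fun h => third_not_commute_left hP.closed hp.1 hq.1 hpq h,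
      fun h => third_not_commute_right hP.closed hp.1 hq.1 hpq h⟩
  obtain ⟨x, hx, hpx⟩ := hP.res_nondeg hd ha hda hp
  obtain ⟨y, hy, hqy⟩ := hP.res_nondeg hd ha hda hq
  by_cases hqx : Commute q x
  swap
  · exact ⟨x, hx, hpx, hqx⟩
  by_cases hpy : Commute p y
  swap
  · exact ⟨y, hy, hpy, hqy⟩
  by_cases hxy : Commute x y
  swap
  · refine ⟨x * y * x, hP.res_third hx hy, fun h => hpx ?_, fun h => hqy ?_⟩
    · have hxy' : ¬ Commute x y := hxy
      have e : x * (y * (x * y * x) * y) = 1 := by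
        rw [hP.braid hx.1 hy.1 hxy',
          show y * (y * x * y) * y = (y * y) * x * (y * y) by group, hP.sq hy.1, one_mul, mul_one, hP.sq hx.1]
      have h3 : x = y * (x * y * x) * y := by
        calc x = x * 1 := (mul_one x).symm
          _ = x * (x * (y * (x * y * x) * y)) := by rw [e]
          _ = (x * x) * (y * (x * y * x) * y) := by group
          _ = _ := by rw [hP.sq hx.1, one_mul]
      rw [h3]
      exact (hpy.mul_right h).mul_right hpy
    · have h2 := (hqx.mul_right h).mul_right hqx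
      rwa [hP.cj_cj hx.1] at h2
  have hne : x ≠ y := fun h => hqy (h ▸ hqx)
  obtain ⟨v, hv, hvne⟩ : ∃ v ∈ lineC D x y, v ≠ x ∧ v ≠ y := by
    have hc := hP.card_line x hx.1 y hy.1 hne hxy
    by_contra hall
    push Not at hall
    have hsub : lineC D x y ⊆ {x, y} := fun v hv => (em (v = x)).elim Or.inl fun h => Or.inr (hall v hv h)
    have := Set.ncard_le_ncard hsub
    rw [Set.ncard_pair hne, hc] at this
    have := hP.two_le
    omega
  refine ⟨v, hP.res_line hd ha hx hy hv, fun h => hpx ?_, fun h => hqy ?_⟩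
  · exact hP.line_all hx.1 hy.1 hne hxy hv (right_mem_line x hy.1) hvne.2 (left_mem_line hx.1 y) hp.1 h hpy
  · exact hP.line_all hx.1 hy.1 hne hxy hv (left_mem_line hx.1 y) hvne.1 (right_mem_line x hy.1) hq.1 h hqx

/-- Induction along the conjugates of `a` by the members commuting with `d`. -/
theorem orbit_induction [Finite G] {d a : G} (hd : d ∈ D) (ha : a ∈ D) (hda : ¬ Commute d a) {Q : G → Prop}
    (h0 : Q a) (hd' : ∀ y ∈ D, ¬ Commute y d → Q y → Q (d * y * d))
    (ht : ∀ p ∈ perp2 D d a, ∀ t ∈ X D d p, ∀ y ∈ D, ¬ Commute y d → Q y → Q (t * y * t))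
    {y : G} (hy : y ∈ D) (hyd : ¬ Commute y d) : Q y := by
  obtain ⟨g, hg, rfl⟩ := hP.trans d hd a ha y hy hda fun h => hyd h.symm
  have hmon : g ∈ Submonoid.closure {x | x ∈ D ∧ Commute x d} := by
    rw [← Subgroup.mem_toSubmonoid, Subgroup.closure_toSubmonoid_of_finite] at hg
    exact hg
  suffices h : ∀ g ∈ Submonoid.closure {x | x ∈ D ∧ Commute x d}, ∀ y ∈ D, ¬ Commute y d → Q y →
      Q (g * y * g⁻¹) from h g hmon a ha (fun h => hda h.symm) h0
  intro g hg
  induction hg using Submonoid.closure_induction with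
  | mem t ht' =>
    intro y hy hyd hQ
    rw [hP.inv ht'.1]
    by_cases htd : t = d
    · rw [htd]; exact hd' y hy hyd hQ
    obtain ⟨p, hp, htp⟩ := hP.exists_res hd ha hda ht'.1 ht'.2 htd
    exact ht p hp t htp y hy hyd hQ
  | one => intro y hy hyd hQ; simpa using hQ
  | mul g h hg hh ihg ihh =>
    intro y hy hyd hQ
    have hcomm : ∀ k ∈ Submonoid.closure {x | x ∈ D ∧ Commute x d}, Commute k d := fun k hk => by
      induction hk using Submonoid.closure_induction with
      | mem t ht' => exact ht'.2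
      | one => exact Commute.one_left d
      | mul a b _ _ iha ihb => exact iha.mul_left ihb
    have hyd' : ¬ Commute (h * y * h⁻¹) d := fun hc => hyd ((Commute.conj_iff h).1 (by
      rwa [show h * d * h⁻¹ = d by rw [(hcomm h hh).eq, mul_inv_cancel_right]]))
    have := ihg _ (hP.conj_mem h hy) hyd' (ihh y hy hyd hQ)
    rwa [show g * (h * y * h⁻¹) * g⁻¹ = g * h * y * (g * h)⁻¹ by group] at this

end Polar

end Cfsg.Agent.Lib.FischerUnit14
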