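import Cfsg.Agent.Lib.FischerUnit14.Ctx

/-!
# The vector of a member not commuting with `d`

The coordinates `sig` of such a member `y` are the products with one vector `wv y`, whose norm is zero exactly
when `y` commutes with `a` or `d * a * d`. So only these two have `wv y = 0`. The ratio of `one` and `sig` is
`cv y`, independent of the residue point.
-/

set_option autoImplicit false
set_option linter.unusedSectionVars false

namespace Cfsg.Agent.Lib.FischerUnit14

open Cfsg Cfsg.Agent.Lib.ThreeTranspositions Cfsg.Agent.Lib.Unitary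
open scoped Classical

variable {G : Type*} [Group G] [Finite G] {F : Type*} [Field F] [Fintype F]

/-- Commuting with `a` or with `d * a * d`. -/
def Near (d a y : G) : Prop := Commute y a ∨ Commute y (d * a * d)

/-- The vector with the given products with the residue. -/
noncomputable def wv (D : Set G) (d a : G) (τ : G → G → F) {k : ℕ} (Φ : G → Fin k → F) (y : G) : Fin k → F :=
  Classical.epsilon fun w => ∀ p ∈ perp2 D d a, hermForm k F 2 (Φ p) w = sig D d τ y p

/-- The coefficient of `e`. -/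
noncomputable def cv (D : Set G) (d a : G) (τ : G → G → F) (y : G) : F :=
  if Commute y a then 0 else if Commute y (d * a * d) then 1 else
    one D d a τ y (@Classical.epsilon G ⟨d⟩ fun p => p ∈ perp2 D d a ∧ ¬ Commute y p) *
      sig D d τ y (@Classical.epsilon G ⟨d⟩ fun p => p ∈ perp2 D d a ∧ ¬ Commute y p) ^ 2

namespace Ctx

variable {D : Set G} {d a : G} {τ M : G → G → F} {k : ℕ} {Φ : G → Fin k → F} (S : Ctx D d a τ M Φ)
include S

theorem herm_ext {u v : Fin k → F}
    (h : ∀ p ∈ perp2 D d a, hermForm k F 2 (Φ p) u = hermForm k F 2 (Φ p) v) : u = v := by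
  have hu : ∀ x : Fin k → F, hermForm k F 2 x u = hermForm k F 2 x v := by
    intro x
    have hx : x ∈ Submodule.span F (Φ '' perp2 D d a) := by rw [S.span]; trivial
    induction hx using Submodule.span_induction with
    | mem y hy => obtain ⟨p, hp, rfl⟩ := hy; exact h p hp
    | zero => rw [herm_zero_left, herm_zero_left]
    | add y z _ _ hy hz => rw [herm_add_left, herm_add_left, hy, hz]
    | smul c y _ hy => rw [herm_smul_left, herm_smul_left, hy]
  rw [← sub_eq_zero]
  exact herm_nondeg_right S.card' fun x => by rw [herm_sub_right _ _ _ S.card', hu, sub_self]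

theorem iso_Phi {p : G} (hp : p ∈ perp2 D d a) : hermForm k F 2 (Φ p) (Φ p) = 0 := by
  rw [S.gram p hp p hp, S.M_self hp]

theorem herm_idem (w : Fin k → F) : hermForm k F 2 w w ^ 2 = hermForm k F 2 w w := herm_self_fixed _ S.card'

theorem near_iff_ratio {y p : G} (hp : p ∈ perp2 D d a) (hy : y ∈ D) (hyd : ¬ Commute y d)
    (hyp : ¬ Commute y p) :
    Near d a y ↔
      (one D d a τ y p * sig D d τ y p ^ 2) ^ 2 + one D d a τ y p * sig D d τ y p ^ 2 = 0 := by
  obtain ⟨h1, h2⟩ := S.near_iff hp hy hyd hyp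
  have hs : sig D d τ y p ≠ 0 := fun h => hyp ((S.sig_eq_zero hp hy hyd).1 h)
  rw [Near, h1, h2, show (one D d a τ y p * sig D d τ y p ^ 2) ^ 2 + one D d a τ y p * sig D d τ y p ^ 2 =
    sig D d τ y p * one D d a τ y p * (one D d a τ y p + sig D d τ y p) by
      linear_combination one D d a τ y p ^ 2 * sig D d τ y p * four_cube S.card hs,
    mul_eq_zero, mul_eq_zero]
  constructor
  · rintro (h | h)
    · exact Or.inl (Or.inr h)
    · exact Or.inr (by rw [h, four_add_self S.card])
  · rintro ((h | h) | h)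
    exacts [absurd h hs, Or.inl h, Or.inr (four_eq_of_add S.card h)]

/-- If the norm of `w` decides nearness, it is the trace of the ratio. -/
theorem norm_eq_trace {y p : G} {w : Fin k → F} (hp : p ∈ perp2 D d a) (hy : y ∈ D) (hyd : ¬ Commute y d)
    (hyp : ¬ Commute y p) (hw : Near d a y ↔ hermForm k F 2 w w = 0) :
    hermForm k F 2 w w =
      (one D d a τ y p * sig D d τ y p ^ 2) ^ 2 + one D d a τ y p * sig D d τ y p ^ 2 := by
  have hiff := hw.symm.trans (S.near_iff_ratio hp hy hyd hyp)
  set h := hermForm k F 2 w w with hh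
  set r := one D d a τ y p * sig D d τ y p ^ 2
  have h2 : (r ^ 2 + r) ^ 2 = r ^ 2 + r := by
    linear_combination four_pow S.card r + r ^ 3 * four_two S.card
  have hh2 : h * h = h := by rw [← pow_two]; exact S.herm_idem w
  by_cases h0 : h = 0
  · rw [h0, hiff.1 h0]
  have hr : r ^ 2 + r ≠ 0 := fun e => h0 (hiff.2 e)
  have e1 : h = 1 := (mul_eq_left₀ h0).1 hh2
  have e2 : r ^ 2 + r = 1 := (mul_eq_left₀ hr).1 ((pow_two _).symm.trans h2)
  rw [e1, e2]

/-- The two statements on `y` carried along the orbit of `a`. -/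
theorem exists_vec {y : G} (hy : y ∈ D) (hyd : ¬ Commute y d) :
    ∃ w : Fin k → F, (∀ p ∈ perp2 D d a, hermForm k F 2 (Φ p) w = sig D d τ y p) ∧
      (Near d a y ↔ hermForm k F 2 w w = 0) := by
  have hP := S.polar
  suffices h : y ∈ D ∧ ¬ Commute y d ∧ ∃ w : Fin k → F,
      (∀ p ∈ perp2 D d a, hermForm k F 2 (Φ p) w = sig D d τ y p) ∧
      (Near d a y ↔ hermForm k F 2 w w = 0) from h.2.2
  refine hP.orbit_induction S.hd S.ha S.hda (Q := fun y => y ∈ D ∧ ¬ Commute y d ∧ ∃ w : Fin k → F,
      (∀ p ∈ perp2 D d a, hermForm k F 2 (Φ p) w = sig D d τ y p) ∧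
      (Near d a y ↔ hermForm k F 2 w w = 0)) ?_ ?_ ?_ hy hyd
  · have had : ¬ Commute a d := fun h => S.hda h.symm
    refine ⟨S.ha, had, 0, fun p hp => ?_, ?_⟩
    · rw [herm_zero_right _ S.card', (S.sig_eq_zero hp S.ha had).2 hp.2.2.symm]
    · simp [Near, Commute.refl, herm_zero_left]
  · rintro y - - ⟨hy, hyd, w, hw, hn⟩
    refine ⟨hP.cj_mem S.hd hy, fun h => hyd ((hP.commute_cj_right S.hd (Commute.refl d)).1 h), w,
      fun p hp => by rw [hw p hp, S.sig_d hp hy hyd], ?_⟩
    rw [← hn, Near, Near, hP.commute_cj_iff S.hd]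
    have e : Commute (d * y * d) a ↔ Commute y (d * a * d) := by
      rw [← hP.commute_cj_iff S.hd, hP.cj_cj S.hd]
    rw [e, or_comm]
  · rintro p hp t ht y - - ⟨hy, hyd, w, hw, hn⟩
    obtain ⟨hty, htyd, htyp⟩ := hP.res_conj S.hd S.ha S.hda hp hy hyd ht
    set T := τ p t
    set σ := sig D d τ y p with hσ
    refine ⟨hty, htyd, w + (T + σ) ^ 2 • Φ p, fun q hq => ?_, ?_⟩
    · rw [herm_add_right _ _ _ S.card', herm_smul_right, hw q hq, S.gram q hq p hp, S.sig_conj hp hq hy hyd ht]
      linear_combination M q p * four_pow S.card (T + σ)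
    have hnorm : hermForm k F 2 (w + (T + σ) ^ 2 • Φ p) (w + (T + σ) ^ 2 • Φ p) =
        hermForm k F 2 w w + (((T + σ) ^ 2 * σ) ^ 2 + (T + σ) ^ 2 * σ) := by
      rw [herm_add_left, herm_add_right _ _ _ S.card', herm_add_right _ _ _ S.card', herm_smul_left,
        herm_smul_left, herm_smul_right, herm_smul_right, S.iso_Phi hp, hw p hp,
        ← herm_conj (Φ p) w S.card', hw p hp]
      ring
    rw [hnorm]
    by_cases hyp : Commute y p
    · have hσ0 : σ = 0 := (S.sig_eq_zero hp hy hyd).2 hyp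
      rw [hσ0]
      simp only [mul_zero, ne_eq, OfNat.ofNat_ne_zero, not_false_eq_true, zero_pow, add_zero]
      rw [← hn]
      by_cases htp : t = p
      · rw [htp, hP.cj_of_commute hp.1 hyp.symm]
      have hyp' : Commute (t * y * t) p := htyp.2 hyp
      constructor <;> intro h
      · rcases h with h | h
        · have h' := (hP.swap S.hd S.ha S.hda hp hty hyp' ht htp).1 h
          rw [hP.cj_cj ht.1.1] at h'
          exact Or.inr h'
        · have h' := (hP.swap S.hd S.ha S.hda hp hty hyp' ht htp).2 h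
          rw [hP.cj_cj ht.1.1] at h'
          exact Or.inl h'
      · rcases h with h | h
        exacts [Or.inr ((hP.swap S.hd S.ha S.hda hp hy hyp ht htp).1 h),
          Or.inl ((hP.swap S.hd S.ha S.hda hp hy hyp ht htp).2 h)]
    · have hyp' : ¬ Commute (t * y * t) p := fun h => hyp (htyp.1 h)
      have hσ0 : σ ≠ 0 := fun h => hyp ((S.sig_eq_zero hp hy hyd).1 h)
      rw [S.near_iff_ratio hp hty htyd hyp', S.norm_eq_trace hp hy hyd hyp hn,
        S.sig_conj hp hp hy hyd ht, S.M_self hp, mul_zero, add_zero, ← hσ]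
      refine Iff.of_eq (congrArg (· = 0) ?_)
      by_cases htp : t = p
      · have hT : T = 0 := by rw [show T = τ p t from rfl, htp, S.coord.zero p hp]
        rw [htp, S.one_self_conj hp hy hyp, hT]
        linear_combination -(σ ^ 3 + 2) * four_cube S.card hσ0 - four_two S.card
      · rw [S.one_conj hp hy hyd hyp ht htp]
        have h3 := four_cube S.card hσ0
        have h4 := four_pow S.card T
        set o := one D d a τ y p
        linear_combination T ^ 2 * σ * h3 - σ ^ 2 * h4 + (o * σ ^ 2 * (T * σ ^ 2 + σ ^ 3) - T * σ ^ 5 -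
          3 * T ^ 2 * σ ^ 4 - 2 * T ^ 3 * σ ^ 3 - T * σ ^ 2) * four_two S.card

theorem wv_spec {y : G} (hy : y ∈ D) (hyd : ¬ Commute y d) :
    ∀ p ∈ perp2 D d a, hermForm k F 2 (Φ p) (wv D d a τ Φ y) = sig D d τ y p :=
  Classical.epsilon_spec (p := fun w => ∀ p ∈ perp2 D d a, hermForm k F 2 (Φ p) w = sig D d τ y p)
    ((S.exists_vec hy hyd).imp fun _ h => h.1)

theorem wv_eq {y : G} {w : Fin k → F} (hy : y ∈ D) (hyd : ¬ Commute y d)
    (h : ∀ p ∈ perp2 D d a, hermForm k F 2 (Φ p) w = sig D d τ y p) : wv D d a τ Φ y = w :=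
  S.herm_ext fun p hp => by rw [S.wv_spec hy hyd p hp, h p hp]

theorem wv_near {y : G} (hy : y ∈ D) (hyd : ¬ Commute y d) :
    Near d a y ↔ hermForm k F 2 (wv D d a τ Φ y) (wv D d a τ Φ y) = 0 := by
  obtain ⟨w, hw, hn⟩ := S.exists_vec hy hyd
  rw [S.wv_eq hy hyd hw]
  exact hn

theorem wv_ne_zero {y : G} (hy : y ∈ D) (hyd : ¬ Commute y d) (hn : ¬ Near d a y) :
    wv D d a τ Φ y ≠ 0 := fun h => hn ((S.wv_near hy hyd).2 (by rw [h, herm_zero_left]))

theorem exists_support {y : G} (hy : y ∈ D) (hyd : ¬ Commute y d) (h : wv D d a τ Φ y ≠ 0) :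
    ∃ p ∈ perp2 D d a, ¬ Commute y p := by
  by_contra hall
  push Not at hall
  exact h (S.wv_eq hy hyd fun p hp => by
    rw [herm_zero_right _ S.card', (S.sig_eq_zero hp hy hyd).2 (hall p hp)])

/-- A member commuting with `a` and the whole residue is `a`. -/
theorem eq_of_commute_res {y : G} (hy : y ∈ D) (hyd : ¬ Commute y d) (hya : Commute y a)
    (hres : ∀ p ∈ perp2 D d a, Commute y p) : y = a := by
  by_contra hne
  obtain ⟨u, hu, hdu⟩ := S.polar.proj a S.ha y hy (Ne.symm hne) hya.symm d S.hd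
  have huR : u ∈ perp2 D d a := ⟨hu.1, hdu.symm, line_commute_left S.ha hya.symm hu⟩
  obtain ⟨q, hq, huq⟩ := S.polar.res_nondeg S.hd S.ha S.hda huR
  exact huq (line_perp hu hq.1 hq.2.2 (hres q hq).symm)

theorem eq_of_wv_zero {y : G} (hy : y ∈ D) (hyd : ¬ Commute y d) (h : wv D d a τ Φ y = 0) :
    y = a ∨ y = d * a * d := by
  have hres : ∀ p ∈ perp2 D d a, Commute y p := fun p hp => by
    rw [← S.sig_eq_zero hp hy hyd, ← S.wv_spec hy hyd p hp, h, herm_zero_right _ S.card']
  rcases (S.wv_near hy hyd).2 (by rw [h, herm_zero_left]) with hn | hn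
  · exact Or.inl (S.eq_of_commute_res hy hyd hn hres)
  · right
    have hd := S.hd
    have h' := S.eq_of_commute_res (y := d * y * d) (S.polar.cj_mem hd hy)
      (fun e => hyd ((S.polar.commute_cj_right hd (Commute.refl d)).1 e))
      (by simpa only [S.polar.cj_cj hd] using S.polar.commute_cj hd hn)
      fun p hp => (S.polar.commute_cj_right hd hp.2.1.symm).2 (hres p hp)
    rw [← h', S.polar.cj_cj hd]

theorem third_L1 {q u b b' : G} (hq : q ∈ perp2 D d a) (hu : u ∈ perp2 D d a) (hqu : ¬ Commute q u)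
    (hb : b ∈ X D d q) (hbq : b ≠ q) (hb' : b' ∈ X D d u) (hbu : b' ≠ u) :
    L1 d a q b * L1 d a u b' * L1 d a q b =
      if b * b' * b = q * u * q then q * u * q else L1 d a (q * u * q) (b * b' * b) := by
  have hP := S.polar
  have hc := S.cj_X hq hu hqu hb hb'
  have hw := hP.res_third hq hu
  set c := b * b' * b
  have hab := hP.not_commute_X S.hd S.ha S.hda hq hb hbq
  have hab' := hP.not_commute_X S.hd S.ha S.hda hu hb' hbu
  have hcore : L1 d a q b * L1 d a u b' * L1 d a q b = d * (a * c * a) * d := by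
    rw [L1, L1, if_neg hbq, if_neg hbu, show d * b * a * b * d = d * (b * a * b) * d by group,
      show d * b' * a * b' * d = d * (b' * a * b') * d by group,
      ← hP.braid S.ha hb.1.1 hab, ← hP.braid S.ha hb'.1.1 hab']
    calc d * (a * b * a) * d * (d * (a * b' * a) * d) * (d * (a * b * a) * d)
        = d * (a * b * a) * (d * d) * (a * b' * a) * (d * d) * (a * b * a) * d := by group
      _ = d * (a * b * (a * a) * b' * (a * a) * b * a) * d := by rw [hP.sq S.hd]; group
      _ = d * (a * (b * b' * b) * a) * d := by rw [hP.sq S.ha]; group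
  rw [hcore]
  split_ifs with h
  · rw [h, hP.cj_of_commute S.ha hw.2.2.symm, hP.cj_of_commute S.hd hw.2.1.symm]
  · rw [L1, if_neg h, hP.braid S.ha hc.1.1 (hP.not_commute_X S.hd S.ha S.hda hw hc h)]
    group

/-- For two non-commuting points of the support the ratios agree. -/
theorem ratio_eq_aux {y q u : G} (hy : y ∈ D) (hyd : ¬ Commute y d) (hn : ¬ Near d a y)
    (hq : q ∈ perp2 D d a) (hu : u ∈ perp2 D d a) (hqu : ¬ Commute q u) (hyq : ¬ Commute y q)
    (hyu : ¬ Commute y u) :
    one D d a τ y q * sig D d τ y q ^ 2 = one D d a τ y u * sig D d τ y u ^ 2 := by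
  have hP := S.polar
  have hw := hP.res_third hq hu
  have hroot : ∀ {p}, p ∈ perp2 D d a → ¬ Commute y p →
      (one D d a τ y p * sig D d τ y p ^ 2) ^ 2 + one D d a τ y p * sig D d τ y p ^ 2 + 1 = 0 := by
    intro p hp hyp
    have h := fun e => hn ((S.near_iff_ratio hp hy hyd hyp).2 e)
    rcases four_cases S.card (one D d a τ y p * sig D d τ y p ^ 2) with e | e | e
    · exact absurd (by rw [e]; ring) h
    · exact absurd (by rw [e]; linear_combination four_two S.card) h
    · exact e
  obtain ⟨b, hb, hyb, hb1⟩ := S.exists_one hq hy hyq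
  obtain ⟨b', hb', hyb', hb1'⟩ := S.exists_one hu hy hyu
  have hnb : b ≠ q := fun e => hn (Or.inl (by rwa [L1, if_pos e] at hyb))
  have hnb' : b' ≠ u := fun e => hn (Or.inl (by rwa [L1, if_pos e] at hyb'))
  have hy3 : Commute y (L1 d a q b * L1 d a u b' * L1 d a q b) := (hyb.mul_right hyb').mul_right hyb
  rw [S.third_L1 hq hu hqu hb hnb hb' hnb'] at hy3
  have hc := S.cj_X hq hu hqu hb hb'
  have hτ := S.third q hq u hu hqu b hb b' hb'
  have hsw := S.sig_third hq hu hqu hy hyd
  set w := q * u * q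
  set c := b * b' * b
  set σq := sig D d τ y q
  set σu := sig D d τ y u
  set A := M w q * σq
  set B := M w u * σu
  set kq := one D d a τ y q * σq ^ 2
  set ku := one D d a τ y u * σu ^ 2
  have hq3 := four_cube S.card fun e => hyq ((S.sig_eq_zero hq hy hyd).1 e)
  have hu3 := four_cube S.card fun e => hyu ((S.sig_eq_zero hu hy hyd).1 e)
  have hτc : τ w c = A * kq + B * ku := by
    rw [hτ, hb1, hb1']
    linear_combination -(M w q * one D d a τ y q) * hq3 - (M w u * one D d a τ y u) * hu3
  have hA : A ≠ 0 := mul_ne_zero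
    (S.M_ne hw hq fun e => third_not_commute_left hP.closed hq.1 hu.1 hqu e.symm)
    fun e => hyq ((S.sig_eq_zero hq hy hyd).1 e)
  have hB : B ≠ 0 := mul_ne_zero
    (S.M_ne hw hu fun e => third_not_commute_right hP.closed hq.1 hu.1 hqu e.symm)
    fun e => hyu ((S.sig_eq_zero hu hy hyd).1 e)
  by_cases hyw : Commute y w
  · have hcw : c = w := by
      by_contra hcw
      rw [if_neg hcw] at hy3
      have := hP.L1_all S.hd S.ha S.hda hw hy hyw hc (S.self_X hw) hy3
      rw [L1, if_pos rfl] at this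
      exact hn (Or.inl this)
    have h0 : A * kq + B * ku = 0 := by rw [← hτc, hcw, S.coord.zero w hw]
    have hAB : A = B := four_eq_of_add S.card (by rw [← hsw, S.sig_eq_zero hw hy hyd]; exact hyw)
    exact four_eq_of_add S.card (mul_left_cancel₀ hA (by rw [mul_zero]; linear_combination h0 + ku * hAB))
  · have hcw : c ≠ w := by
      intro hcw
      rw [if_pos hcw] at hy3
      exact hyw hy3
    rw [if_neg hcw] at hy3
    have hone := S.one_eq hw hy hyw hc hy3
    have hw3 := four_cube S.card fun e => hyw ((S.sig_eq_zero hw hy hyd).1 e)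
    set kw := one D d a τ y w * sig D d τ y w ^ 2 with hkw
    have hrel : kw * (A + B) = A * kq + B * ku := by
      rw [← hτc, ← hone, hkw, ← hsw]
      linear_combination one D d a τ y w * hw3
    by_contra hne
    have hku : ku = kq + 1 := four_root S.card (hroot hq hyq) (hroot hu hyu) hne
    by_cases e : kq = kw
    · exact hB (by linear_combination -hrel - (A + B) * e - B * hku)
    · have := four_root S.card (hroot hq hyq) (hroot hw hyw) e
      exact hA (by linear_combination hrel + B * hku - (A + B) * this)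

theorem ratio_eq {y p q : G} (hy : y ∈ D) (hyd : ¬ Commute y d) (hp : p ∈ perp2 D d a)
    (hq : q ∈ perp2 D d a) (hyp : ¬ Commute y p) (hyq : ¬ Commute y q) :
    one D d a τ y p * sig D d τ y p ^ 2 = one D d a τ y q * sig D d τ y q ^ 2 := by
  have hP := S.polar
  by_cases hn : Near d a y
  · have hs : ∀ {r}, r ∈ perp2 D d a → ¬ Commute y r → sig D d τ y r ^ 3 = 1 := fun hr hyr =>
      four_cube S.card fun e => hyr ((S.sig_eq_zero hr hy hyd).1 e)
    obtain ⟨h1, h2⟩ := S.near_iff hp hy hyd hyp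
    obtain ⟨h1', h2'⟩ := S.near_iff hq hy hyd hyq
    rcases hn with h | h
    · rw [h1.1 h, h1'.1 h]; ring
    · rw [h2.1 h, h2'.1 h]
      linear_combination hs hp hyp - hs hq hyq
  by_cases hpq : Commute p q
  swap
  · exact S.ratio_eq_aux hy hyd hn hp hq hpq hyp hyq
  obtain ⟨x, hx, hpx, hqx⟩ := hP.res_common S.hd S.ha S.hda hp hq
  by_cases hyx : Commute y x
  swap
  · exact (S.ratio_eq_aux hy hyd hn hp hx hpx hyp hyx).trans
      (S.ratio_eq_aux hy hyd hn hq hx hqx hyq hyx).symm
  have hyv : ¬ Commute y (x * p * x) := fun h => hyp ((hP.commute_cj_right hx.1 hyx.symm).1 h.symm).symm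
  have hpv : ¬ Commute p (x * p * x) :=
    third_not_commute_right hP.closed hx.1 hp.1 fun h => hpx h.symm
  have hqv : ¬ Commute q (x * p * x) := fun h => hqx (by
    rw [← hP.third_conj hp.1 hx.1 fun e => hpx e.symm]
    exact (h.mul_right hpq.symm).mul_right h)
  have hv := hP.res_third hx hp
  exact (S.ratio_eq_aux hy hyd hn hp hv hpv hyp hyv).trans
    (S.ratio_eq_aux hy hyd hn hq hv hqv hyq hyv).symm

theorem cv_eq {y p : G} (hy : y ∈ D) (hyd : ¬ Commute y d) (hp : p ∈ perp2 D d a) (hyp : ¬ Commute y p) :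
    cv D d a τ y = one D d a τ y p * sig D d τ y p ^ 2 := by
  obtain ⟨h1, h2⟩ := S.near_iff hp hy hyd hyp
  unfold cv
  split_ifs with ha hz
  · rw [h1.1 ha]; ring
  · rw [h2.1 hz]
    linear_combination -four_cube S.card fun e => hyp ((S.sig_eq_zero hp hy hyd).1 e)
  · obtain ⟨hr, hyr⟩ := Classical.epsilon_spec (p := fun p => p ∈ perp2 D d a ∧ ¬ Commute y p) ⟨p, hp, hyp⟩
    exact S.ratio_eq hy hyd hr hp hyr hyp

theorem cv_quad {y : G} (hy : y ∈ D) (hyd : ¬ Commute y d) :
    cv D d a τ y ^ 2 + cv D d a τ y + hermForm k F 2 (wv D d a τ Φ y) (wv D d a τ Φ y) = 0 := by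
  have hn := S.wv_near hy hyd
  by_cases hw : wv D d a τ Φ y = 0
  · rcases hn.2 (by rw [hw, herm_zero_left]) with h | h
    · simp [cv, h, hw, herm_zero_left]
    · rw [hw, herm_zero_left]
      unfold cv
      split_ifs
      · ring
      · linear_combination four_two S.card
  obtain ⟨p, hp, hyp⟩ := S.exists_support hy hyd hw
  rw [S.norm_eq_trace hp hy hyd hyp hn, S.cv_eq hy hyd hp hyp]
  exact four_add_self S.card _

end Ctx

end Cfsg.Agent.Lib.FischerUnit14
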