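import Cfsg.Agent.Lib.FischerUnit14.Line

/-!
# Shifts of the lines through a point

For `d`, `a` not commuting, `p` commuting with both and `b` on the line of `d` and `p`, the shift `b p` fixes `d`
and permutes every other line `X d q`. Where it moves `q` to `x`, it moves a third point `e` to the point
`add a d x e` determined by `x e a e x`; so shifts act on each line as one abelian group of translations.
-/

set_option autoImplicit false
set_option linter.unusedSectionVars false

namespace Cfsg.Agent.Lib.FischerUnit14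

open Cfsg Cfsg.Agent.Lib.ThreeTranspositions

variable {G : Type*} [Group G] {D : Set G} {s : ℕ}

/-- The points other than `d` of the line through `d` and `q`. -/
def X (D : Set G) (d q : G) : Set G := {x | x ∈ lineC D d q ∧ x ≠ d}

/-- Conjugation by the shift `b * p`. -/
def shift (b p x : G) : G := b * p * x * (p * b)

/-- The sum of `x` and `e` on their line, the zero being the projection of `a`. -/
def add (a d x e : G) : G := a * d * a * (x * e * a * e * x) * (a * d * a)

theorem mem_X_self {d q : G} (hq : q ∈ D) (h : q ≠ d) : q ∈ X D d q := ⟨right_mem_line d hq, h⟩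

namespace Polar

variable (hP : Polar D s)
include hP

theorem res_facts {d a q : G} (ha : a ∈ D) (hda : ¬ Commute d a) (hq : q ∈ perp2 D d a) :
    q ∈ D ∧ q ≠ d ∧ q ≠ a ∧ Commute d q ∧ Commute a q :=
  ⟨hq.1, fun h => hda (h ▸ hq.2.2), fun h => hda (h ▸ hq.2.1).symm, hq.2.1.symm, hq.2.2.symm⟩

theorem not_commute_X {d a q x : G} (hd : d ∈ D) (ha : a ∈ D) (hda : ¬ Commute d a) (hq : q ∈ perp2 D d a)
    (hx : x ∈ X D d q) (hxq : x ≠ q) : ¬ Commute a x := by
  obtain ⟨hqD, hqd, -, hdq, haq⟩ := hP.res_facts ha hda hq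
  exact fun h => hda (hP.line_all hd hqD hqd.symm hdq hx.1 (right_mem_line d hqD) hxq (left_mem_line hd q) ha h
    haq).symm

theorem X_commute {d q x y : G} (hd : d ∈ D) (hq : q ∈ D) (hdq : Commute d q) (hx : x ∈ X D d q)
    (hy : y ∈ X D d q) : Commute x y :=
  line_commute hd hq hdq hx.1 hy.1

/-- Members of two lines through `d` commute when their residue points do. -/
theorem X_perp {d p q b x : G} (hd : d ∈ D) (hp : p ∈ D) (hq : q ∈ D) (hdp : Commute d p) (hdq : Commute d q)
    (hpq : Commute p q) (hb : b ∈ X D d p) (hx : x ∈ X D d q) : Commute b x :=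
  line_perp hb.1 hx.1.1 (line_commute_left hd hdq hx.1) (line_perp hx.1 hp hdp.symm hpq)

/-- Members of two lines through `d` do not commute when their residue points do not. -/
theorem X_not_commute {d p q b x : G} (hd : d ∈ D) (hp : p ∈ D) (hq : q ∈ D) (hpd : p ≠ d) (hqd : q ≠ d)
    (hdp : Commute d p) (hdq : Commute d q) (hpq : ¬ Commute p q) (hb : b ∈ X D d p) (hx : x ∈ X D d q) :
    ¬ Commute b x := by
  intro h
  have h1 : Commute x p := hP.line_all hd hp hpd.symm hdp hb.1 (left_mem_line hd p) hb.2 (right_mem_line d hp)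
    hx.1.1 h.symm (line_commute_left hd hdq hx.1)
  exact hpq (hP.line_all hd hq hqd.symm hdq hx.1 (left_mem_line hd q) hx.2 (right_mem_line d hq) hp h1.symm
    hdp.symm)

theorem shift_sq {b p : G} (hb : b ∈ D) (hp : p ∈ D) (h : Commute b p) : b * p * (b * p) = 1 := by
  rw [mul_assoc, ← mul_assoc p, ← h.eq, mul_assoc b p, hP.sq hp, mul_one, hP.sq hb]

theorem shift_inv {b p : G} (hb : b ∈ D) (hp : p ∈ D) : (b * p)⁻¹ = p * b := by
  rw [mul_inv_rev, hP.inv hb, hP.inv hp]

theorem shift_eq_conj {b p : G} (hb : b ∈ D) (hp : p ∈ D) (x : G) :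
    shift b p x = b * p * x * (b * p)⁻¹ := by
  rw [shift, hP.shift_inv hb hp]

theorem shift_fix {b p x : G} (hb : b ∈ D) (hp : p ∈ D) (h1 : Commute x b) (h2 : Commute x p) :
    shift b p x = x := by
  rw [hP.shift_eq_conj hb hp, ← (h1.mul_right h2).eq, mul_inv_cancel_right]

theorem shift_self {p : G} (hp : p ∈ D) (x : G) : shift p p x = x := by
  rw [shift, hP.sq hp]; group

theorem shift_mem {d a p q b x : G} (hd : d ∈ D) (ha : a ∈ D) (hda : ¬ Commute d a) (hp : p ∈ perp2 D d a)
    (hq : q ∈ perp2 D d a) (hb : b ∈ X D d p) (hx : x ∈ X D d q) : shift b p x ∈ X D d q := by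
  obtain ⟨hpD, hpd, -, hdp, -⟩ := hP.res_facts ha hda hp
  obtain ⟨hqD, hqd, -, hdq, -⟩ := hP.res_facts ha hda hq
  have hbd : Commute b d := line_commute_left hd hdp hb.1
  have hdfix : shift b p d = d := hP.shift_fix hb.1.1 hpD hbd.symm hdp
  by_cases hpq : Commute p q
  · rwa [hP.shift_fix hb.1.1 hpD (hP.X_perp hd hpD hqD hdp hdq hpq hb hx).symm (line_perp hx.1 hpD hdp.symm hpq)]
  · have hbq := hP.X_not_commute hd hpD hqD hpd hqd hdp hdq hpq hb (mem_X_self hqD hqd)
    set r := p * q * p with hr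
    have hrD : r ∈ D := hP.cj_mem hpD hqD
    have hrd : Commute r d := (hdp.symm.mul_left hdq.symm).mul_left hdp.symm
    have hrp : r * p * r = q := by
      have b' := hP.braid hpD hqD hpq
      calc r * p * r = (q * p * q) * p * (q * p * q) := by rw [hr, b']
        _ = q * (p * q * p) * q * p * q := by group
        _ = q * (q * p * q) * q * p * q := by rw [b']
        _ = (q * q) * p * (q * q) * p * q := by group
        _ = q := by rw [hP.sq hqD, one_mul, mul_one, hP.sq hpD, one_mul]
    have hbr : ¬ Commute r b := fun h => by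
      have h1 : Commute p r := (hP.line_all hd hpD hpd.symm hdp (left_mem_line hd p) hb.1 hb.2.symm
        (right_mem_line d hpD) hrD hrd h).symm
      have e : r * p * r = p := by rw [← h1.eq, mul_assoc, hP.sq hrD, mul_one]
      exact hpq ((e.symm.trans hrp) ▸ Commute.refl p)
    have himg : shift b p q ∈ lineC D d q := by
      have h1 : shift b p q = r * b * r := by
        rw [shift, hP.braid hrD hb.1.1 hbr, hr]; group
      rw [h1]
      have h2 := hP.line_cj hrD hb.1
      rw [hrd.eq, mul_assoc, hP.sq hrD, mul_one, hrp] at h2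
      exact h2
    have hne : shift b p q ≠ d := fun h => hqd (by
      rw [← hdfix, hP.shift_eq_conj hb.1.1 hpD, hP.shift_eq_conj hb.1.1 hpD] at h
      exact mul_left_cancel (mul_right_cancel h))
    refine ⟨?_, fun h => hx.2 ?_⟩
    · have h1 := hP.line_conj (b * p) hx.1
      rw [← hP.shift_eq_conj hb.1.1 hpD, ← hP.shift_eq_conj hb.1.1 hpD, ← hP.shift_eq_conj hb.1.1 hpD,
        hdfix] at h1
      rwa [hP.line_eq_left hd hqD hqd.symm hdq himg hne] at h1
    · rw [← hdfix, hP.shift_eq_conj hb.1.1 hpD, hP.shift_eq_conj hb.1.1 hpD] at h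
      exact mul_left_cancel (mul_right_cancel h)

theorem shift_comp {b c p x : G} (hb : b ∈ D) (hc : c ∈ D) (hp : p ∈ D) :
    shift b p (shift c p x) = b * p * (c * p) * x * (b * p * (c * p))⁻¹ := by
  rw [hP.shift_eq_conj hb hp, hP.shift_eq_conj hc hp]; group

theorem shift_shift {b p x : G} (hb : b ∈ D) (hp : p ∈ D) (h : Commute b p) :
    shift b p (shift b p x) = x := by
  rw [hP.shift_comp hb hb hp, hP.shift_sq hb hp h]; group

theorem shift_ne {d a p q b x : G} (hd : d ∈ D) (ha : a ∈ D) (hda : ¬ Commute d a) (hp : p ∈ perp2 D d a)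
    (hq : q ∈ perp2 D d a) (hpq : ¬ Commute p q) (hb : b ∈ X D d p) (hbp : b ≠ p) (hx : x ∈ X D d q) :
    shift b p x ≠ x := by
  obtain ⟨hpD, hpd, -, hdp, -⟩ := hP.res_facts ha hda hp
  obtain ⟨hqD, hqd, -, hdq, -⟩ := hP.res_facts ha hda hq
  have h1 := hP.X_not_commute hd hpD hqD hpd hqd hdp hdq hpq hb hx
  have h2 := hP.X_not_commute hd hpD hqD hpd hqd hdp hdq hpq (mem_X_self hpD hpd) hx
  intro h
  refine hbp ?_
  have h3 : p * x * p = b * x * b := by
    calc p * x * p = (b * b) * p * x * p * (b * b) := by rw [hP.sq hb.1.1, one_mul, mul_one]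
      _ = b * shift b p x * b := by rw [shift]; group
      _ = b * x * b := by rw [h]
  rw [hP.braid hpD hx.1.1 h2, hP.braid hb.1.1 hx.1.1 h1] at h3
  exact (mul_left_cancel (mul_right_cancel h3)).symm

theorem shift_inj {d a p q b c x : G} (hd : d ∈ D) (ha : a ∈ D) (hda : ¬ Commute d a)
    (hp : p ∈ perp2 D d a) (hq : q ∈ perp2 D d a) (hpq : ¬ Commute p q) (hb : b ∈ X D d p) (hc : c ∈ X D d p)
    (hx : x ∈ X D d q) (h : shift b p x = shift c p x) : b = c := by
  obtain ⟨hpD, hpd, -, hdp, -⟩ := hP.res_facts ha hda hp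
  obtain ⟨hqD, hqd, -, hdq, -⟩ := hP.res_facts ha hda hq
  set y := p * x * p with hy
  have hyD : y ∈ D := hP.cj_mem hpD hx.1.1
  have hyn : ∀ {z}, z ∈ X D d p → ¬ Commute y z := fun {z} hz hzy => by
    have h1 := hP.X_not_commute hd hpD hqD hpd hqd hdp hdq hpq hz hx
    have h2 := (Commute.conj_iff p).2 hzy
    rw [hP.inv hpD, (line_commute_right hpD hdp hz.1).symm.eq, mul_assoc z p p, hP.sq hpD, mul_one, hy,
      show p * (p * x * p) * p = (p * p) * x * (p * p) by group, hP.sq hpD, one_mul, mul_one] at h2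
    exact h1 h2.symm
  have h' : b * y * b = c * y * c := by
    rw [hy, show b * (p * x * p) * b = shift b p x by rw [shift]; group, h, shift]; group
  rw [hP.braid hb.1.1 hyD (fun e => hyn hb e.symm), hP.braid hc.1.1 hyD (fun e => hyn hc e.symm)] at h'
  exact mul_left_cancel (mul_right_cancel h')

theorem card_X {d q : G} [Finite G] (hd : d ∈ D) (hq : q ∈ D) (hne : d ≠ q) (hc : Commute d q) :
    (X D d q).ncard = s := by
  have h : X D d q = lineC D d q \ {d} := by ext x; simp [X]
  rw [h, Set.ncard_sdiff_singleton_of_mem (left_mem_line hd q), hP.card_line d hd q hq hne hc]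
  rfl

theorem shift_surj [Finite G] {d a p q x y : G} (hd : d ∈ D) (ha : a ∈ D) (hda : ¬ Commute d a)
    (hp : p ∈ perp2 D d a) (hq : q ∈ perp2 D d a) (hpq : ¬ Commute p q) (hx : x ∈ X D d q)
    (hy : y ∈ X D d q) : ∃ b ∈ X D d p, shift b p x = y := by
  obtain ⟨hpD, hpd, -, hdp, -⟩ := hP.res_facts ha hda hp
  obtain ⟨hqD, hqd, -, hdq, -⟩ := hP.res_facts ha hda hq
  have hsub : (fun b => shift b p x) '' X D d p ⊆ X D d q := by
    rintro _ ⟨b, hb, rfl⟩; exact hP.shift_mem hd ha hda hp hq hb hx
  have heq : (fun b => shift b p x) '' X D d p = X D d q := by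
    refine Set.eq_of_subset_of_ncard_le hsub ?_
    rw [Set.ncard_image_of_injOn fun b hb c hc h => hP.shift_inj hd ha hda hp hq hpq hb hc hx h,
      hP.card_X hd hpD hpd.symm hdp, hP.card_X hd hqD hqd.symm hdq]
  exact heq.ge hy

theorem add_facts {d a q x e : G} (hd : d ∈ D) (ha : a ∈ D) (hda : ¬ Commute d a) (hq : q ∈ perp2 D d a)
    (hx : x ∈ X D d q) (he : e ∈ X D d q) (hxq : x ≠ q) (heq : e ≠ q) (hne : x ≠ e) :
    add a d x e ∈ X D d q ∧ add a d x e ≠ q ∧ add a d x e ≠ x ∧ add a d x e ≠ e ∧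
      x * e * a * e * x = d * add a d x e * a * add a d x e * d := by
  obtain ⟨hqD, hqd, -, hdq, haq⟩ := hP.res_facts ha hda hq
  have had : ¬ Commute a d := fun h => hda h.symm
  have hax := hP.not_commute_X hd ha hda hq hx hxq
  have hae := hP.not_commute_X hd ha hda hq he heq
  have hxe := hP.X_commute hd hqD hdq hx he
  obtain ⟨-, -, hwa, hw⟩ := hP.pair (o := q) ha hx.1.1 he.1.1 hxe hne hax hae
  have hqxe : q ∈ lineC D x e := by
    rw [hP.line_eq d hd q hqD hqd.symm hdq x hx.1 e he.1 hne]; exact right_mem_line d hqD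
  obtain ⟨hwl, hwq⟩ := hw hqxe haq.symm
  set g := a * d * a with hg
  have hgD : g ∈ D := hP.cj_mem ha hd
  have hga : g * a * g = d := hP.third_conj' hd ha had
  have hgq : g * q * g = q := by
    rw [← ((haq.symm.mul_right hdq.symm).mul_right haq.symm).eq, mul_assoc, hP.sq hgD, mul_one]
  set c := add a d x e with hc
  set w := x * e * a * e * x with hwdef
  have hcw : c = g * w * g := rfl
  have hwc : g * c * g = w := by
    rw [hcw, show g * (g * w * g) * g = (g * g) * w * (g * g) by group, hP.sq hgD, one_mul, mul_one]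
  have hcl : c ∈ lineC D d q := by
    have h := hP.line_cj hgD hwl
    rwa [hga, hgq] at h
  have hcd : c ≠ d := fun h => hwa (by rw [← hwc, h]; exact hP.third_conj hd ha had)
  have hcq : c ≠ q := fun h => hwq (by rw [← hwc, h, hgq])
  have hac := hP.not_commute_X hd ha hda hq ⟨hcl, hcd⟩ hcq
  have hrel : w = d * c * a * c * d := by
    obtain ⟨-, himg, -, -⟩ := hP.pair (o := q) ha hd hcl.1 (line_commute_left hd hdq hcl).symm hcd.symm had hac
    rw [← himg, ← hg, hwc]
  have key : ∀ {u v}, u ∈ X D d q → v ∈ X D d q → u ≠ q → v ≠ q → Commute v d →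
      u * v * a * v * u = d * u * a * u * d → v = d := by
    intro u v hu hv _ hvq _ h
    have hud : Commute u d := line_commute_left hd hdq hu.1
    rw [show d * u * a * u * d = u * d * a * d * u by
      calc d * u * a * u * d = (d * u) * a * (u * d) := by group
        _ = (u * d) * a * (d * u) := by rw [hud.eq]
        _ = _ := by group,
      show u * v * a * v * u = u * (v * a * v) * u by group,
      show u * d * a * d * u = u * (d * a * d) * u by group] at h
    have h' := mul_left_cancel (mul_right_cancel h)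
    have hav := hP.not_commute_X hd ha hda hq hv hvq
    rw [← hP.braid ha hv.1.1 hav, ← hP.braid ha hd had] at h'
    exact mul_left_cancel (mul_right_cancel h')
  refine ⟨⟨hcl, hcd⟩, hcq, fun h => he.2 ?_, fun h => hx.2 ?_, hrel⟩
  · exact key hx he hxq heq (line_commute_left hd hdq he.1) (by rw [← hwdef, hrel, h])
  · refine key he hx heq hxq (line_commute_left hd hdq hx.1) ?_
    calc e * x * a * x * e = (e * x) * a * (x * e) := by group
      _ = (x * e) * a * (e * x) := by rw [hxe.eq]
      _ = d * c * a * c * d := by rw [← hrel, hwdef]; group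
      _ = d * e * a * e * d := by rw [h]

/-- The shift moving `q` to `x` moves `e` to the sum of `x` and `e`. -/
theorem shift_add {d a p q b e : G} (hd : d ∈ D) (ha : a ∈ D) (hda : ¬ Commute d a) (hp : p ∈ perp2 D d a)
    (hq : q ∈ perp2 D d a) (hpq : ¬ Commute p q) (hb : b ∈ X D d p) (hbp : b ≠ p) (he : e ∈ X D d q)
    (heq : e ≠ q) (hex : e ≠ shift b p q) :
    shift b p e = add a d (shift b p q) e := by
  obtain ⟨hpD, hpd, -, hdp, hap⟩ := hP.res_facts ha hda hp
  obtain ⟨hqD, hqd, -, hdq, haq⟩ := hP.res_facts ha hda hq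
  have had : ¬ Commute a d := fun h => hda h.symm
  have hqX := mem_X_self hqD hqd
  have hbc : Commute b p := line_commute_right hpD hdp hb.1
  set x := shift b p q with hx'
  have hx : x ∈ X D d q := hP.shift_mem hd ha hda hp hq hb hqX
  have hxq : x ≠ q := hP.shift_ne hd ha hda hp hq hpq hb hbp hqX
  have hxx : shift b p x = q := hP.shift_shift hb.1.1 hpD hbc
  obtain ⟨hcX, hcq, -, -, hrel⟩ := hP.add_facts hd ha hda hq hx he hxq heq hex.symm
  set c := add a d x e
  set e' := shift b p e with he'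
  have heX : e' ∈ X D d q := hP.shift_mem hd ha hda hp hq hb he
  have heq' : e' ≠ q := fun h => hex (by
    rw [hx', ← h, he', hP.shift_shift hb.1.1 hpD hbc])
  by_contra hne
  set a' := d * a * d with ha'
  have haD : a' ∈ D := hP.cj_mem hd ha
  have hda' : ¬ Commute d a' := fun h => hda (by
    have := (Commute.conj_iff d).2 h
    rw [hP.inv hd, hP.sq hd, one_mul, ha',
      show d * (d * a * d) * d = (d * d) * a * (d * d) by group, hP.sq hd, one_mul, mul_one] at this
    exact this)
  have hp' : p ∈ perp2 D d a' := ⟨hpD, hdp.symm, (hdp.symm.mul_right hap.symm).mul_right hdp.symm⟩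
  have hq' : q ∈ perp2 D d a' := ⟨hqD, hdq.symm, (hdq.symm.mul_right haq.symm).mul_right hdq.symm⟩
  have hec := hP.X_commute hd hqD hdq heX hcX
  obtain ⟨-, -, hWa, hW⟩ := hP.pair (o := q) haD heX.1.1 hcX.1.1 hec hne
    (hP.not_commute_X hd haD hda' hq' heX heq') (hP.not_commute_X hd haD hda' hq' hcX hcq)
  have hqec : q ∈ lineC D e' c := by
    rw [hP.line_eq d hd q hqD hqd.symm hdq e' heX.1 c hcX.1 hne]; exact right_mem_line d hqD
  obtain ⟨hWl, -⟩ := hW hqec hq'.2.2
  set k := b * p * (e * q) * (b * p) * (e * q) with hk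
  have hk4 : k = e' * x * e * q := by
    calc k = (b * p * e * (p * b)) * (b * p * q * (p * b)) * e * q := by
          rw [hk, show p * b = b * p from hbc.symm.eq]
          calc b * p * (e * q) * (b * p) * (e * q)
              = b * p * e * (b * p * (b * p)) * q * (b * p) * (e * q) := by
                rw [hP.shift_sq hb.1.1 hpD hbc]; group
            _ = _ := by group
      _ = e' * x * e * q := rfl
  have hkinv : k⁻¹ = q * e * x * e' := by
    rw [hk4, mul_inv_rev, mul_inv_rev, mul_inv_rev, hP.inv hqD, hP.inv he.1.1, hP.inv hx.1.1,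
      hP.inv heX.1.1]
    group
  have hka : k * a * k⁻¹ = e' * c * a' * c * e' := by
    have hqa : q * a * q = a := by rw [← haq.eq, mul_assoc, hP.sq hqD, mul_one]
    have hcd : Commute c d := line_commute_left hd hdq hcX.1
    rw [hkinv, hk4, show e' * x * e * q * a * (q * e * x * e') = e' * (x * e * (q * a * q) * e * x) * e' by group,
      hqa, hrel, ha']
    calc e' * (d * c * a * c * d) * e' = e' * ((d * c) * a * (c * d)) * e' := by group
      _ = e' * ((c * d) * a * (d * c)) * e' := by rw [hcd.eq]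
      _ = _ := by group
  have hkp : k * p * k⁻¹ = p := by
    set z := shift e q p with hz
    have hzX : z ∈ X D d p := hP.shift_mem hd ha hda hq hp he (mem_X_self hpD hpd)
    have heqc : Commute e q := line_commute_right hqD hdq he.1
    have hzfix : shift b p z = z := hP.shift_fix hb.1.1 hpD (hP.X_commute hd hpD hdp hzX hb)
      (line_commute_right hpD hdp hzX.1)
    have hpfix : shift b p p = p := hP.shift_fix hb.1.1 hpD hbc.symm (Commute.refl p)
    calc k * p * k⁻¹ = shift b p (shift e q (shift b p (shift e q p))) := by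
          rw [hP.shift_eq_conj hb.1.1 hpD, hP.shift_eq_conj hb.1.1 hpD, hP.shift_eq_conj he.1.1 hqD,
            hP.shift_eq_conj he.1.1 hqD, hk]
          group
      _ = shift b p (shift e q z) := by rw [← hz, hzfix]
      _ = p := by rw [hz, hP.shift_shift he.1.1 hqD heqc, hpfix]
  have hpW : Commute p (e' * c * a' * c * e') := by
    have h := (Commute.conj_iff k).2 hap.symm
    rwa [hkp, hka] at h
  exact hpq (hP.line_all haD hqD (fun h => hda' (by rw [h]; exact hdq)) hq'.2.2.symm hWl (left_mem_line haD q) hWa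
    (right_mem_line a' hqD) hpD hpW hp'.2.2)

/-- Two shifts with the same image of `q` agree on the line. -/
theorem shift_eq {d a p q r b c x : G} (hd : d ∈ D) (ha : a ∈ D) (hda : ¬ Commute d a)
    (hp : p ∈ perp2 D d a) (hq : q ∈ perp2 D d a) (hr : r ∈ perp2 D d a) (hpq : ¬ Commute p q)
    (hrq : ¬ Commute r q) (hb : b ∈ X D d p) (hc : c ∈ X D d r) (h : shift b p q = shift c r q)
    (hx : x ∈ X D d q) : shift b p x = shift c r x := by
  obtain ⟨hpD, hpd, -, hdp, -⟩ := hP.res_facts ha hda hp
  obtain ⟨hrD, hrd, -, hdr, -⟩ := hP.res_facts ha hda hr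
  obtain ⟨hqD, hqd, -, hdq, -⟩ := hP.res_facts ha hda hq
  have hqX := mem_X_self hqD hqd
  by_cases hbp : b = p
  · subst hbp
    have hcr : c = r := hP.shift_inj hd ha hda hr hq hrq hc (mem_X_self hrD hrd) hqX
      (by rw [← h, hP.shift_self hpD, hP.shift_self hrD])
    rw [hcr, hP.shift_self hpD, hP.shift_self hrD]
  have hcr : c ≠ r := fun e => by
    rw [e, hP.shift_self hrD] at h
    exact hP.shift_ne hd ha hda hp hq hpq hb hbp hqX h
  by_cases hxq : x = q
  · rw [hxq, h]
  by_cases hxi : x = shift b p q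
  · rw [hxi, hP.shift_shift hb.1.1 hpD (line_commute_right hpD hdp hb.1), h,
      hP.shift_shift hc.1.1 hrD (line_commute_right hrD hdr hc.1)]
  rw [hP.shift_add hd ha hda hp hq hpq hb hbp hx hxq hxi,
    hP.shift_add hd ha hda hr hq hrq hc hcr hx hxq (h ▸ hxi), h]

/-- The shifts commute on every line. -/
theorem shift_comm [Finite G] {d a p q r b c x : G} (hd : d ∈ D) (ha : a ∈ D) (hda : ¬ Commute d a)
    (hp : p ∈ perp2 D d a) (hq : q ∈ perp2 D d a) (hr : r ∈ perp2 D d a) (hb : b ∈ X D d p)
    (hc : c ∈ X D d r) (hx : x ∈ X D d q) : shift b p (shift c r x) = shift c r (shift b p x) := by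
  obtain ⟨hpD, hpd, -, hdp, -⟩ := hP.res_facts ha hda hp
  obtain ⟨hrD, hrd, -, hdr, -⟩ := hP.res_facts ha hda hr
  obtain ⟨hqD, hqd, -, hdq, -⟩ := hP.res_facts ha hda hq
  have hfix : ∀ {p b y : G}, p ∈ perp2 D d a → b ∈ X D d p → Commute p q → y ∈ X D d q → shift b p y = y := by
    intro p b y hp hb hc hy
    obtain ⟨hpD, hpd, -, hdp, -⟩ := hP.res_facts ha hda hp
    exact hP.shift_fix hb.1.1 hpD (hP.X_perp hd hpD hqD hdp hdq hc hb hy).symm
      (line_perp hy.1 hpD hdp.symm hc)
  by_cases hpq : Commute p q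
  · rw [hfix hp hb hpq (hP.shift_mem hd ha hda hr hq hc hx), hfix hp hb hpq hx]
  by_cases hrq : Commute r q
  · rw [hfix hr hc hrq (hP.shift_mem hd ha hda hp hq hb hx), hfix hr hc hrq hx]
  obtain ⟨b', hb', hbeq⟩ := hP.shift_surj hd ha hda hp hq hpq (mem_X_self hqD hqd)
    (hP.shift_mem hd ha hda hr hq hc (mem_X_self hqD hqd))
  have heq : ∀ y ∈ X D d q, shift c r y = shift b' p y := fun y hy =>
    hP.shift_eq hd ha hda hr hq hp hrq hpq hc hb' hbeq.symm hy
  rw [heq x hx, heq _ (hP.shift_mem hd ha hda hp hq hb hx), hP.shift_comp hb.1.1 hb'.1.1 hpD,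
    hP.shift_comp hb'.1.1 hb.1.1 hpD]
  have hbp := line_commute_right hpD hdp hb.1
  have hbp' := line_commute_right hpD hdp hb'.1
  have h1 : Commute (b * p) (b' * p) :=
    ((hP.X_commute hd hpD hdp hb hb').mul_right hbp).mul_left (hbp'.symm.mul_right (Commute.refl p))
  rw [h1.eq]

end Polar

end Cfsg.Agent.Lib.FischerUnit14
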