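import Cfsg.Agent.Lib.FischerUnit14.Section

/-!
# The effect of the neighbours of `d` on the vector of a member outside `perp d`

`d` adds one to the coefficient of `e`; a point of `X D d p` with coordinate `T` adds `l • Φ p` to the vector and
`l * T` to that coefficient, `l` being `(T + sig y p) ^ 2`.
-/

set_option autoImplicit false
set_option linter.unusedSectionVars false

namespace Cfsg.Agent.Lib.FischerUnit14

open Cfsg Cfsg.Agent.Lib.ThreeTranspositions Cfsg.Agent.Lib.Unitary
open scoped Classical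

variable {G : Type*} [Group G] [Finite G] {F : Type*} [Field F] [Fintype F]

namespace Ctx

variable {D : Set G} {d a : G} {τ M : G → G → F} {k : ℕ} {Φ : G → Fin k → F} (S : Ctx D d a τ M Φ)
include S

theorem had : ¬ Commute a d := fun h => S.hda h.symm

theorem z_mem : d * a * d ∈ D := S.polar.cj_mem S.hd S.ha

theorem z_not_commute : ¬ Commute (d * a * d) d ∧ ¬ Commute (d * a * d) a :=
  ⟨fun h => third_not_commute_left S.polar.closed S.hd S.ha S.hda h.symm,
    fun h => third_not_commute_right S.polar.closed S.hd S.ha S.hda h.symm⟩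

theorem d_conj_not {y : G} (hyd : ¬ Commute y d) : ¬ Commute (d * y * d) d :=
  fun h => hyd ((S.polar.commute_cj_right S.hd (Commute.refl d)).1 h)

theorem wv_self : wv D d a τ Φ a = 0 :=
  S.wv_eq S.ha S.had fun p hp => by
    rw [herm_zero_right _ S.card', (S.sig_eq_zero hp S.ha S.had).2 hp.2.2.symm]

theorem wv_d {y : G} (hy : y ∈ D) (hyd : ¬ Commute y d) :
    wv D d a τ Φ (d * y * d) = wv D d a τ Φ y :=
  S.wv_eq (S.polar.cj_mem S.hd hy) (S.d_conj_not hyd) fun p hp => by
    rw [S.wv_spec hy hyd p hp, S.sig_d hp hy hyd]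

theorem wv_z : wv D d a τ Φ (d * a * d) = 0 := by rw [S.wv_d S.ha S.had, S.wv_self]

/-- Commuting with `a` and with `d * a * d` exclude each other. -/
theorem not_both {y : G} (hy : y ∈ D) (hyd : ¬ Commute y d) (h1 : Commute y a)
    (h2 : Commute y (d * a * d)) : False := by
  by_cases hw : wv D d a τ Φ y = 0
  · rcases S.eq_of_wv_zero hy hyd hw with h | h
    · exact S.z_not_commute.2 (h ▸ h2).symm
    · exact S.z_not_commute.2 (h ▸ h1)
  · obtain ⟨p, hp, hyp⟩ := S.exists_support hy hyd hw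
    obtain ⟨e1, e2⟩ := S.near_iff hp hy hyd hyp
    exact hyp ((S.sig_eq_zero hp hy hyd).1 ((e2.1 h2).symm.trans (e1.1 h1)))

theorem cv_of_a {y : G} (h : Commute y a) : cv D d a τ y = 0 := if_pos h

theorem cv_of_z {y : G} (hy : y ∈ D) (hyd : ¬ Commute y d) (h : Commute y (d * a * d)) :
    cv D d a τ y = 1 := by
  rw [cv, if_neg fun ha => S.not_both hy hyd ha h, if_pos h]

theorem cv_d {y : G} (hy : y ∈ D) (hyd : ¬ Commute y d) :
    cv D d a τ (d * y * d) = cv D d a τ y + 1 := by
  have hP := S.polar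
  have hy' := hP.cj_mem S.hd hy
  have hyd' := S.d_conj_not hyd
  by_cases hn : Near d a y
  · rcases hn with h | h
    · rw [S.cv_of_a h, S.cv_of_z hy' hyd' (hP.commute_cj S.hd h), zero_add]
    · have h' := hP.commute_cj S.hd h
      rw [hP.cj_cj S.hd] at h'
      rw [S.cv_of_a h', S.cv_of_z hy hyd h, four_add_self S.card]
  obtain ⟨p, hp, hyp⟩ := S.exists_support hy hyd (S.wv_ne_zero hy hyd hn)
  have hyp' : ¬ Commute (d * y * d) p := fun h => hyp ((hP.commute_cj_right S.hd hp.2.1.symm).1 h)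
  obtain ⟨b, hb, hyb, hb1⟩ := S.exists_one hp hy hyp
  have h2 : Commute (d * y * d) (L2 d a p b) := by rw [hP.L2_eq S.hd]; exact hP.commute_cj S.hd hyb
  rw [S.cv_eq hy' hyd' hp hyp', S.cv_eq hy hyd hp hyp, S.one_L2 hp hy' hyd' hyp' hb h2, S.sig_d hp hy hyd, hb1]
  linear_combination four_cube S.card fun e => hyp ((S.sig_eq_zero hp hy hyd).1 e)

theorem wv_conj {y p t : G} (hp : p ∈ perp2 D d a) (hy : y ∈ D) (hyd : ¬ Commute y d) (ht : t ∈ X D d p) :
    wv D d a τ Φ (t * y * t) = wv D d a τ Φ y + (τ p t + sig D d τ y p) ^ 2 • Φ p := by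
  obtain ⟨hty, htyd, -⟩ := S.polar.res_conj S.hd S.ha S.hda hp hy hyd ht
  refine S.wv_eq hty htyd fun q hq => ?_
  rw [herm_add_right _ _ _ S.card', herm_smul_right, S.wv_spec hy hyd q hq, S.gram q hq p hp,
    S.sig_conj hp hq hy hyd ht]
  linear_combination M q p * four_pow S.card (τ p t + sig D d τ y p)

theorem cv_conj_support {y p t : G} (hp : p ∈ perp2 D d a) (hy : y ∈ D) (hyd : ¬ Commute y d)
    (hyp : ¬ Commute y p) (ht : t ∈ X D d p) :
    cv D d a τ (t * y * t) = cv D d a τ y + (τ p t + sig D d τ y p) ^ 2 * τ p t := by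
  obtain ⟨hty, htyd, htyp⟩ := S.polar.res_conj S.hd S.ha S.hda hp hy hyd ht
  rw [S.cv_eq hty htyd hp fun h => hyp (htyp.1 h), S.cv_eq hy hyd hp hyp, S.sig_conj hp hp hy hyd ht,
    S.M_self hp, mul_zero, add_zero]
  have h3 := four_cube S.card fun e => hyp ((S.sig_eq_zero hp hy hyd).1 e)
  by_cases htp : t = p
  · rw [htp, S.coord.zero p hp, S.one_self_conj hp hy hyp]
    ring
  · rw [S.one_conj hp hy hyd hyp ht htp]
    have hT3 := four_cube S.card fun e => htp ((S.tau_eq_zero hp ht).1 e)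
    linear_combination h3 - hT3 - (τ p t ^ 2 * sig D d τ y p) * four_two S.card

/-- A point commuting with `p` outside `Near` has a usable residue point. -/
theorem exists_good {y p : G} {T : F} (hp : p ∈ perp2 D d a) (hy : y ∈ D) (hyd : ¬ Commute y d)
    (hn : ¬ Near d a y) (hyp : Commute y p) (hT : T ≠ 0) :
    (∃ v ∈ perp2 D d a, Commute v p ∧ ¬ Commute y v) ∨
      ∃ q ∈ perp2 D d a, ¬ Commute q p ∧ ¬ Commute y q ∧ sig D d τ y q + T * M q p ≠ 0 := by
  by_contra hall
  push Not at hall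
  obtain ⟨hperp, hbad⟩ := hall
  have hP := S.polar
  have hsig : ∀ {r}, r ∈ perp2 D d a → Commute r p → sig D d τ y r = 0 := fun hr hrp =>
    (S.sig_eq_zero hr hy hyd).2 (hperp _ hr hrp)
  have hS : ∀ {r}, r ∈ perp2 D d a → ¬ Commute r p → sig D d τ y r ≠ 0 → sig D d τ y r = T * M r p :=
    fun hr hrp hne => four_eq_of_add S.card (hbad _ hr hrp fun h => hne ((S.sig_eq_zero hr hy hyd).2 h))
  have key : ∀ {q q'}, q ∈ perp2 D d a → q' ∈ perp2 D d a → ¬ Commute q p → ¬ Commute q' p →
      sig D d τ y q = 0 → sig D d τ y q' ≠ 0 → ¬ Commute q q' → False := by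
    intro q q' hq hq' hqp hqp' h0 hne hqq
    have hw := hP.res_third hq hq'
    have hwq' : ¬ Commute (q * q' * q) q' := fun h =>
      third_not_commute_right hP.closed hq.1 hq'.1 hqq h.symm
    have hwq : ¬ Commute (q * q' * q) q := fun h => third_not_commute_left hP.closed hq.1 hq'.1 hqq h.symm
    have hs := S.sig_third hq hq' hqq hy hyd
    rw [h0, mul_zero, zero_add] at hs
    have hwne : sig D d τ y (q * q' * q) ≠ 0 := by
      rw [hs]; exact mul_ne_zero (S.M_ne hw hq' hwq') hne
    have hwp : ¬ Commute (q * q' * q) p := fun h => hwne (hsig hw h)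
    have h1 := hS hw hwp hwne
    rw [hs, hS hq' hqp' hne, S.row q hq q' hq' hqq p hp] at h1
    exact mul_ne_zero hT (mul_ne_zero (S.M_ne hw hq hwq) (S.M_ne hq hp hqp))
      (by linear_combination -h1)
  have key2 : ∀ {q q'}, q ∈ perp2 D d a → q' ∈ perp2 D d a → ¬ Commute q p → ¬ Commute q' p →
      sig D d τ y q = 0 → sig D d τ y q' ≠ 0 → False := by
    intro q q' hq hq' hqp hqp' h0 hne
    by_cases hqq : Commute q q'
    swap
    · exact key hq hq' hqp hqp' h0 hne hqq
    have hv := hP.res_third hp hq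
    refine key hv hq' (fun h => third_not_commute_left hP.closed hp.1 hq.1 (fun e => hqp e.symm) h.symm)
      hqp' ?_ hne ?_
    · rw [S.sig_third hp hq (fun e => hqp e.symm) hy hyd, h0, hsig hp (Commute.refl p)]
      ring
    · intro h
      refine hqp' ?_
      have e : (p * q * p) * q * (p * q * p) = p :=
        hP.third_conj hq.1 hp.1 fun e => hqp e.symm
      rw [← e]
      exact (h.symm.mul_right hqq.symm).mul_right h.symm
  by_cases hall : ∀ r ∈ perp2 D d a, ¬ Commute r p → sig D d τ y r ≠ 0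
  · have hw : wv D d a τ Φ y = T ^ 2 • Φ p := S.wv_eq hy hyd fun r hr => by
      rw [herm_smul_right, S.gram r hr p hp]
      by_cases hrp : Commute r p
      · rw [hsig hr hrp, (S.coord.M_eq_zero r hr p hp).2 hrp, mul_zero]
      · rw [hS hr hrp (hall r hr hrp)]
        linear_combination M r p * four_pow S.card T
    refine hn ((S.wv_near hy hyd).2 ?_)
    rw [hw, herm_smul_left, herm_smul_right, S.iso_Phi hp]
    ring
  · push Not at hall
    obtain ⟨q, hq, hqp, h0⟩ := hall
    refine S.wv_ne_zero hy hyd hn (S.wv_eq hy hyd fun r hr => ?_)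
    rw [herm_zero_right _ S.card']
    by_cases hrp : Commute r p
    · rw [hsig hr hrp]
    · by_contra hne
      exact key2 hq hr hqp hrp h0 fun e => hne e.symm

theorem cv_conj_zero {y p t : G} (hp : p ∈ perp2 D d a) (hy : y ∈ D) (hyd : ¬ Commute y d)
    (hyp : Commute y p) (ht : t ∈ X D d p) (htp : t ≠ p) :
    cv D d a τ (t * y * t) = cv D d a τ y + 1 := by
  have hP := S.polar
  obtain ⟨hty, htyd, htyp⟩ := hP.res_conj S.hd S.ha S.hda hp hy hyd ht
  by_cases hn : Near d a y
  · rcases hn with h | h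
    · rw [S.cv_of_a h, S.cv_of_z hty htyd ((hP.swap S.hd S.ha S.hda hp hy hyp ht htp).1 h), zero_add]
    · rw [S.cv_of_a ((hP.swap S.hd S.ha S.hda hp hy hyp ht htp).2 h), S.cv_of_z hy hyd h, four_add_self S.card]
  have hT : τ p t ≠ 0 := fun e => htp ((S.tau_eq_zero hp ht).1 e)
  have hσp : sig D d τ y p = 0 := (S.sig_eq_zero hp hy hyd).2 hyp
  have htd := line_commute_left S.hd hp.2.1.symm ht.1
  rcases S.exists_good hp hy hyd hn hyp hT with ⟨v, hv, hvp, hyv⟩ | ⟨q, hq, hqp, hyq, hgood⟩
  · obtain ⟨b, hb, hyb, hb1⟩ := S.exists_one hv hy hyv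
    have hbv : b ≠ v := fun e => hn (Or.inl (by rwa [L1, if_pos e] at hyb))
    obtain ⟨hy1, hy1d, -⟩ := hP.res_conj S.hd S.ha S.hda hv hy hyd hb
    have hz : Commute (b * y * b) (d * a * d) := by
      have h := hP.commute_cj hb.1.1 hyb
      rwa [hP.conj_L1 S.hd S.ha S.hda hv hb hbv hb, show plus d a v b b = v by simp [plus, hbv], L2,
        if_pos rfl] at h
    have hbp : Commute b p := line_perp hb.1 hp.1 hp.2.1 hvp.symm
    have hbt : Commute b t :=
      hP.X_perp S.hd hv.1 hp.1 hv.2.1.symm hp.2.1.symm hvp hb ht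
    have hy1p : Commute (b * y * b) p := (hP.commute_cj_right hb.1.1 hbp).2 hyp
    have hy2a := (hP.swap S.hd S.ha S.hda hp hy1 hy1p ht htp).2 hz
    obtain ⟨hy2, hy2d, -⟩ := hP.res_conj S.hd S.ha S.hda hp hy1 hy1d ht
    have htv : Commute t v := line_perp ht.1 hv.1 hv.2.1 hvp
    have hy1v : ¬ Commute (b * y * b) v := fun h =>
      hyv ((hP.commute_cj_right hb.1.1 (line_commute_right hv.1 hv.2.1.symm hb.1)).1 h)
    have hy2v : ¬ Commute (t * (b * y * b) * t) v := fun h => hy1v ((hP.commute_cj_right ht.1.1 htv).1 h)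
    have e1 := S.cv_conj_support hv hy hyd hyv hb
    rw [S.cv_of_z hy1 hy1d hz] at e1
    have e2 := S.cv_conj_support hv hy2 hy2d hy2v hb
    rw [S.cv_of_a hy2a, S.sig_conj hp hv hy1 hy1d ht, S.sig_conj hv hv hy hyd hb,
      (S.coord.M_eq_zero v hv p hp).2 hvp, S.M_self hv] at e2
    have hback : b * (t * (b * y * b) * t) * b = t * y * t := by
      rw [show b * (t * (b * y * b) * t) * b = (b * t) * b * y * b * (t * b) by group, hbt.eq,
        show t * b * b * y * b * (t * b) = t * (b * b) * y * b * (t * b) by group,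
        show (t * b) = b * t from hbt.eq.symm,
        show t * (b * b) * y * b * (b * t) = t * (b * b) * y * (b * b) * t by group, hP.sq hb.1.1, mul_one,
        mul_one]
    rw [hback] at e2
    rw [e2]
    linear_combination -e1 + (τ v b + sig D d τ y v) ^ 2 * τ v b * four_two S.card -
      (τ v b * sig D d τ y v ^ 2 + 2 * τ v b ^ 2 * sig D d τ y v + τ v b ^ 3 + cv D d a τ y) * four_two S.card
  · obtain ⟨e, he, hye⟩ : ∃ e ∈ X D d q, Commute y e ∧ τ q e = sig D d τ y q :=
      ⟨_, (S.prj_facts hq hy hyd).1, (S.prj_facts hq hy hyd).2, rfl⟩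
    obtain ⟨hye, hE⟩ := hye
    set u := q * p * q with hu'
    have hu := hP.res_third hq hp
    have hb := S.cj_X hq hp hqp he ht
    set b := e * t * e
    have hB := S.third q hq p hp hqp e he t ht
    have huq : ¬ Commute u q := fun h => third_not_commute_left hP.closed hq.1 hp.1 hqp h.symm
    have hup : ¬ Commute u p := fun h => third_not_commute_right hP.closed hq.1 hp.1 hqp h.symm
    have hσu := S.sig_third hq hp hqp hy hyd
    rw [hσp, mul_zero, add_zero] at hσu
    have hσq : sig D d τ y q ≠ 0 := fun h => hyq ((S.sig_eq_zero hq hy hyd).1 h)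
    have hyu : ¬ Commute y u := fun h => mul_ne_zero (S.M_ne hu hq huq) hσq
      (hσu ▸ (S.sig_eq_zero hu hy hyd).2 h)
    obtain ⟨hy1, hy1d, -⟩ := hP.res_conj S.hd S.ha S.hda hu hy hyd hb
    have hback : e * (b * y * b) * e = t * y * t := by
      have hey : e * y * e = y := hP.cj_of_commute he.1.1 hye.symm
      calc e * (b * y * b) * e = (e * e) * t * (e * y * e) * t * (e * e) := by simp only [b]; group
        _ = t * y * t := by rw [hP.sq he.1.1, hey, one_mul, mul_one]
    have hy1q : ¬ Commute (b * y * b) q := by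
      intro h
      have h' := hP.commute_cj he.1.1 h
      rw [hP.cj_of_commute he.1.1 (line_commute_right hq.1 hq.2.1.symm he.1), hback] at h'
      have h0 := (S.sig_eq_zero hq hty htyd).2 h'
      rw [S.sig_conj hp hq hy hyd ht, hσp, add_zero] at h0
      exact hgood h0
    have e1 := S.cv_conj_support hu hy hyd hyu hb
    have e2 := S.cv_conj_support hq hy1 hy1d hy1q he
    rw [hback, S.sig_conj hu hq hy hyd hb, e1, hB, hσu, hE] at e2
    rw [e2, S.coord.M_conj u hu q hq]
    have hp3 := four_cube S.card (S.M_ne hu hp hup)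
    have hq4 := four_pow S.card (M u q)
    have hT3 := four_cube S.card hT
    linear_combination M u p ^ 3 * hT3 + hp3 +
      (M u p ^ 2 * τ p t ^ 2 * sig D d τ y q) * hq4 +
      (3 * M u q * sig D d τ y q * M u p ^ 2 * τ p t ^ 2 + 6 * M u q ^ 2 * sig D d τ y q ^ 2 * M u p * τ p t +
        6 * M u q ^ 3 * sig D d τ y q ^ 3 + 2 * M u q ^ 5 * sig D d τ y q ^ 2 * M u p * τ p t +
        2 * M u q ^ 6 * sig D d τ y q ^ 3 + 2 * sig D d τ y q ^ 3) * four_two S.card

theorem cv_conj {y p t : G} (hp : p ∈ perp2 D d a) (hy : y ∈ D) (hyd : ¬ Commute y d) (ht : t ∈ X D d p) :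
    cv D d a τ (t * y * t) = cv D d a τ y + (τ p t + sig D d τ y p) ^ 2 * τ p t := by
  by_cases hyp : Commute y p
  swap
  · exact S.cv_conj_support hp hy hyd hyp ht
  rw [(S.sig_eq_zero hp hy hyd).2 hyp, add_zero]
  by_cases htp : t = p
  · rw [htp, S.polar.cj_of_commute hp.1 hyp.symm, S.coord.zero p hp]
    ring
  · rw [S.cv_conj_zero hp hy hyd hyp ht htp]
    linear_combination -four_cube S.card fun e => htp ((S.tau_eq_zero hp ht).1 e)

end Ctx

end Cfsg.Agent.Lib.FischerUnit14
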