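import Cfsg.Agent.Lib.FischerUnit14.Step
import Cfsg.Agent.Lib.FischerUnit14.Gram

/-!
# The vector of a member

`d` has the vector `e`, a point of `X D d p` with coordinate `T` the vector `T e + Φ p`, and a member `y` not
commuting with `d` the vector `cv y e + f + wv y`.
-/

set_option autoImplicit false
set_option linter.unusedSectionVars false

namespace Cfsg.Agent.Lib.FischerUnit14

open Cfsg Cfsg.Agent.Lib.Unitary
open scoped Classical

variable {G : Type*} [Group G] [Finite G] {F : Type*} [Field F] [Fintype F]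

/-- The vector of a member. -/
noncomputable def phi (D : Set G) (d a : G) (τ : G → G → F) {k : ℕ} (Φ : G → Fin k → F) (ω : F) (x : G) :
    Fin (k + 2) → F :=
  if x = d then hv ω 1 0 0 else if Commute x d then
    hv ω (τ (@Classical.epsilon G ⟨d⟩ fun p => p ∈ perp2 D d a ∧ x ∈ X D d p) x) 0
      (Φ (@Classical.epsilon G ⟨d⟩ fun p => p ∈ perp2 D d a ∧ x ∈ X D d p))
  else hv ω (cv D d a τ x) 1 (wv D d a τ Φ x)

/-- The transvection at `v`. -/
def tv {n : ℕ} (v x : Fin n → F) : Fin n → F := x + hermForm n F 2 x v • v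

namespace Ctx

variable {D : Set G} {d a : G} {τ M : G → G → F} {k : ℕ} {Φ : G → Fin k → F} (S : Ctx D d a τ M Φ)
include S

variable (ω : F)

theorem phi_d : phi D d a τ Φ ω d = hv ω 1 0 0 := if_pos rfl

theorem phi_X {p x : G} (hp : p ∈ perp2 D d a) (hx : x ∈ X D d p) :
    phi D d a τ Φ ω x = hv ω (τ p x) 0 (Φ p) := by
  rw [phi, if_neg hx.2, if_pos (line_commute_left S.hd hp.2.1.symm hx.1)]
  obtain ⟨hr, hxr⟩ := Classical.epsilon_spec (p := fun p => p ∈ perp2 D d a ∧ x ∈ X D d p) ⟨p, hp, hx⟩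
  rw [← S.polar.res_unique S.hd S.ha S.hda hp hr hx hxr]

theorem phi_A {y : G} (hyd : ¬ Commute y d) :
    phi D d a τ Φ ω y = hv ω (cv D d a τ y) 1 (wv D d a τ Φ y) := by
  rw [phi, if_neg fun e => hyd (by rw [e]), if_neg hyd]

theorem phi_a : phi D d a τ Φ ω a = hv ω 0 1 0 := by
  rw [S.phi_A ω S.had, S.cv_of_a (Commute.refl a), S.wv_self]

theorem phi_z : phi D d a τ Φ ω (d * a * d) = hv ω 1 1 0 := by
  rw [S.phi_A ω S.z_not_commute.1, S.cv_of_z S.z_mem S.z_not_commute.1 (Commute.refl _), S.wv_z]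

end Ctx

end Cfsg.Agent.Lib.FischerUnit14
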